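import Mathlib

set_option autoImplicit false

namespace Cfsg.Agent.Lib.helper65

open scoped commutatorElement

/-- A solvable minimal normal subgroup of a finite group is an elementary abelian `p`-group. -/
theorem minNormal_solvable_elementary {Γ : Type*} [Group Γ] [Finite Γ] (M : Subgroup Γ)
    (hMnormal : M.Normal) (hMs : Group.IsSolvable M) (hM0 : M ≠ ⊥)
    (hMmin : ∀ K : Subgroup Γ, K.Normal → K ≤ M → K = ⊥ ∨ K = M) :
    ∃ p : ℕ, p.Prime ∧ (∀ x ∈ M, ∀ y ∈ M, x * y = y * x) ∧ (∀ x ∈ M, x ^ p = 1) ∧ IsPGroup p M := by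
  classical
  have hcomm0 : ⁅M, M⁆ = ⊥ := by
    have h1 : ⁅M, M⁆ ≤ M := Subgroup.commutator_le_right M M
    rcases hMmin _ inferInstance h1 with h | h
    · exact h
    · exfalso
      have hp : Group.IsPerfect M := Subgroup.isPerfect_iff.mpr h
      have hnt : Nontrivial M := (Subgroup.nontrivial_iff_ne_bot M).mpr hM0
      exact Group.IsPerfect.not_isSolvable (↥M) hMs
  have hcomm : ∀ x ∈ M, ∀ y ∈ M, x * y = y * x := by
    intro x hx y hy
    have : ⁅x, y⁆ ∈ ⁅M, M⁆ := Subgroup.commutator_mem_commutator hx hy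
    rw [hcomm0, Subgroup.mem_bot] at this
    exact commutatorElement_eq_one_iff_mul_comm.mp this
  have hcM : Nat.card M ≠ 1 := by
    rw [Ne, Subgroup.card_eq_one]
    exact hM0
  obtain ⟨p, hp, hpM⟩ := Nat.exists_prime_and_dvd hcM
  have := Fact.mk hp
  obtain ⟨x, hx⟩ := exists_prime_orderOf_dvd_card' p hpM
  let M₂ : Subgroup Γ :=
    { carrier := {y | y ∈ M ∧ y ^ p = 1}
      mul_mem' := by
        rintro a b ⟨ha, ha'⟩ ⟨hb, hb'⟩
        refine ⟨Subgroup.mul_mem _ ha hb, ?_⟩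
        have hc : Commute a b := hcomm a ha b hb
        rw [hc.mul_pow, ha', hb', one_mul]
      one_mem' := ⟨Subgroup.one_mem _, one_pow _⟩
      inv_mem' := by
        rintro a ⟨ha, ha'⟩
        exact ⟨Subgroup.inv_mem _ ha, by rw [inv_pow, ha', inv_one]⟩ }
  have hM₂le : M₂ ≤ M := fun y hy => hy.1
  have hM₂n : M₂.Normal := by
    constructor
    rintro n ⟨hn, hn'⟩ g
    refine ⟨hMnormal.conj_mem n hn g, ?_⟩
    rw [conj_pow, hn', mul_one, mul_inv_cancel]
  have hM₂0 : M₂ ≠ ⊥ := by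
    intro hbot
    have hxM : (x : Γ) ∈ M₂ := by
      refine ⟨x.2, ?_⟩
      have h1 : x ^ p = 1 := by
        rw [← hx]
        exact pow_orderOf_eq_one x
      have h2 := congrArg Subtype.val h1
      simpa using h2
    rw [hbot, Subgroup.mem_bot] at hxM
    have hx1 : x = 1 := Subtype.ext hxM
    rw [hx1, orderOf_one] at hx
    exact hp.one_lt.ne hx
  have hM₂ : M₂ = M := by
    rcases hMmin M₂ hM₂n hM₂le with h | h
    · exact absurd h hM₂0
    · exact h
  have hexp : ∀ y ∈ M, y ^ p = 1 := by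
    intro y hy
    have hy' : y ∈ M₂ := by
      rw [hM₂]
      exact hy
    exact hy'.2
  refine ⟨p, hp, hcomm, hexp, ?_⟩
  intro y
  refine ⟨1, ?_⟩
  rw [pow_one]
  exact Subtype.ext (hexp y y.2)

/-- A normal subgroup of a transitive faithful group that fixes a point is trivial. -/
theorem normal_le_stabilizer_eq_bot {G Ω : Type*} [Group G] [MulAction G Ω] [FaithfulSMul G Ω]
    [MulAction.IsPretransitive G Ω] (N : Subgroup G) (hN : N.Normal) (ω : Ω)
    (hNω : N ≤ MulAction.stabilizer G ω) : N = ⊥ := by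
  rw [eq_bot_iff]
  intro k hk
  rw [Subgroup.mem_bot]
  apply FaithfulSMul.eq_of_smul_eq_smul (α := Ω)
  intro x
  obtain ⟨g, rfl⟩ := MulAction.exists_smul_eq G ω x
  rw [one_smul]
  have h1 : g⁻¹ * k * g ∈ N := by
    have := hN.conj_mem k hk g⁻¹
    simpa using this
  have h2 : (g⁻¹ * k * g) • ω = ω := MulAction.mem_stabilizer_iff.mp (hNω h1)
  calc k • g • ω = g • (g⁻¹ * k * g) • ω := by simp [mul_smul]
    _ = g • ω := by rw [h2]

end Cfsg.Agent.Lib.helper65
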