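import Mathlib
import Cfsg.Agent.Lib.helper65.MetaBasic

namespace Cfsg.Agent.Lib.helper65

open Subgroup

/-- Presentation data of a metacyclic `p`-group (`p` odd): `⟨a⟩` is normal of order `p^m`,
`b` acts on it by the power `l` with `v_p(l-1) = k ≥ 1`, and `b⟨a⟩` generates the quotient of
order `p^t`. -/
structure MCP (p : ℕ) {G : Type*} [Group G] (a b : G) (m t l k : ℕ) : Prop where
  hp2 : p ≠ 2
  ha : orderOf a = p ^ m
  hl : 1 < l
  hk : padicValNat p (l - 1) = k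
  hk1 : 1 ≤ k
  hconj : b * a * b⁻¹ = a ^ l
  hgen : ∀ g : G, ∃ u j : ℕ, g = a ^ u * b ^ j
  hbt : ∀ j : ℕ, b ^ j ∈ Subgroup.zpowers a ↔ p ^ t ∣ j

theorem exists_MCP {G : Type*} [Group G] [Finite G] {p : ℕ} [hp : Fact p.Prime] (hp2 : p ≠ 2)
    (hG : IsPGroup p G) (N : Subgroup G) [hNn : N.Normal] (hN : IsCyclic N) (hQ : IsCyclic (G ⧸ N)) :
    ∃ (a b : G) (m t l k : ℕ), MCP p a b m t l k ∧ N = zpowers a := by
  obtain ⟨⟨a, haN⟩, hgen_a⟩ := hN.exists_generator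
  have hNa : N = zpowers a := by
    apply le_antisymm
    · intro x hx
      obtain ⟨z, hz⟩ := Subgroup.mem_zpowers_iff.mp (hgen_a ⟨x, hx⟩)
      have : a ^ z = x := by
        have := congrArg Subtype.val hz
        simpa using this
      exact this ▸ Subgroup.zpow_mem _ (Subgroup.mem_zpowers a) z
    · exact (Subgroup.zpowers_le).mpr haN
  obtain ⟨q, hq⟩ := hQ.exists_generator
  obtain ⟨b, rfl⟩ := QuotientGroup.mk_surjective q
  have hpow : ∀ x : G, ∃ e, orderOf x = p ^ e := by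
    intro x
    obtain ⟨e, he⟩ := hG x
    obtain ⟨e', -, he'⟩ := (Nat.dvd_prime_pow hp.out).mp (orderOf_dvd_of_pow_eq_one he)
    exact ⟨e', he'⟩
  obtain ⟨m, hm⟩ := hpow a
  have hGq : IsPGroup p (G ⧸ N) := hG.to_quotient N
  obtain ⟨t, ht⟩ : ∃ t, orderOf (QuotientGroup.mk b : G ⧸ N) = p ^ t := by
    obtain ⟨e, he⟩ := hGq (QuotientGroup.mk b)
    obtain ⟨e', -, he'⟩ := (Nat.dvd_prime_pow hp.out).mp (orderOf_dvd_of_pow_eq_one he)
    exact ⟨e', he'⟩
  -- the generation property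
  have hgen : ∀ g : G, ∃ u j : ℕ, g = a ^ u * b ^ j := by
    intro g
    obtain ⟨j, hj⟩ := (mem_zpowers_iff_exists_npow ht _).mp (hq (QuotientGroup.mk g))
    have h1 : g * (b ^ j)⁻¹ ∈ N := by
      rw [← QuotientGroup.eq_one_iff, QuotientGroup.mk_mul, QuotientGroup.mk_inv,
        QuotientGroup.mk_pow, hj, mul_inv_cancel]
    rw [hNa] at h1
    obtain ⟨u, hu⟩ := (mem_zpowers_iff_exists_npow hm _).mp h1
    exact ⟨u, j, by rw [← hu]; group⟩
  have hbt : ∀ j : ℕ, b ^ j ∈ Subgroup.zpowers a ↔ p ^ t ∣ j := by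
    intro j
    rw [← hNa, ← QuotientGroup.eq_one_iff, QuotientGroup.mk_pow, ← ht, orderOf_dvd_iff_pow_eq_one]
  -- the conjugation exponent
  have hconjN : b * a * b⁻¹ ∈ zpowers a := by
    rw [← hNa]; exact hNn.conj_mem a haN b
  obtain ⟨l₀, hl₀⟩ := (mem_zpowers_iff_exists_npow hm _).mp hconjN
  obtain ⟨l₁, hl₁, hl₁p, hl₁1⟩ : ∃ l₁, b * a * b⁻¹ = a ^ l₁ ∧ p ∣ l₁ - 1 ∧ 1 ≤ l₁ := by
    rcases Nat.eq_zero_or_pos m with rfl | hmpos
    · refine ⟨1, ?_, by simp, le_refl _⟩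
      have : a = 1 := by rw [← orderOf_eq_one_iff, hm, pow_zero]
      rw [this]; simp
    · refine ⟨l₀, hl₀, ?_, ?_⟩
      · obtain ⟨T, hT⟩ := hG b
        have h1 := mc_conj_pow hl₀ (p ^ T) 1
        rw [hT, one_mul, mul_one, one_mul] at h1
        have h2 : a ^ (l₀ ^ p ^ T) = a ^ 1 := by rw [← h1, pow_one]
        rw [pow_eq_pow_iff_modEq, hm] at h2
        have h3 : l₀ ^ p ^ T ≡ 1 [MOD p] := h2.of_dvd (dvd_pow_self p hmpos.ne')
        have h4 : ((l₀ : ℕ) : ZMod p) = 1 := by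
          have := (ZMod.natCast_eq_natCast_iff _ _ _).mpr h3
          push_cast at this
          rwa [ZMod.pow_card_pow] at this
        have h5 : l₀ ≡ 1 [MOD p] := by
          apply (ZMod.natCast_eq_natCast_iff _ _ _).mp
          rw [h4]; simp
        exact (Nat.modEq_iff_dvd' (by
          by_contra h0
          have : l₀ = 0 := by omega
          subst this
          have := h5.symm
          rw [Nat.modEq_zero_iff_dvd] at this
          exact hp.out.one_lt.ne' (Nat.dvd_one.mp this))).mp h5.symm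
      · by_contra h0
        have : l₀ = 0 := by omega
        subst this
        rw [pow_zero] at hl₀
        have ha1 : a = 1 := by
          have : b * a * b⁻¹ = b * 1 * b⁻¹ := by rw [hl₀]; group
          simpa using this
        rw [ha1, orderOf_one] at hm
        have : 1 < p ^ m := Nat.one_lt_pow hmpos.ne' hp.out.one_lt
        omega
  refine ⟨a, b, m, t, l₁ + p ^ (m + 1), padicValNat p (l₁ + p ^ (m + 1) - 1), ?_, hNa⟩
  have hpos : 0 < p ^ (m + 1) := pow_pos hp.out.pos _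
  refine ⟨hp2, hm, by omega, rfl, ?_, ?_, hgen, hbt⟩
  · apply one_le_padicValNat_of_dvd (by omega)
    have : l₁ + p ^ (m + 1) - 1 = (l₁ - 1) + p ^ (m + 1) := by omega
    rw [this]
    exact dvd_add hl₁p (dvd_pow_self p (by omega))
  · rw [hl₁, pow_add, pow_succ p m, pow_mul, ← hm, pow_orderOf_eq_one, one_pow, mul_one]

namespace MCP

variable {G : Type*} [Group G] {p : ℕ} [hp : Fact p.Prime] {a b : G} {m t l k : ℕ}

omit hp in
theorem pow_eq_one_iff (D : MCP p a b m t l k) (u : ℕ) : a ^ u = 1 ↔ p ^ m ∣ u := by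
  rw [← D.ha, orderOf_dvd_iff_pow_eq_one]

theorem mem_N (D : MCP p a b m t l k) (x : G) : x ∈ zpowers a ↔ ∃ u : ℕ, x = a ^ u :=
  mem_zpowers_iff_exists_npow D.ha x

theorem pvl (D : MCP p a b m t l k) : PV p (l - 1) k := mc_pv_sub_one D.hp2 D.hl D.hk D.hk1

theorem pvlp (D : MCP p a b m t l k) (f : ℕ) : PV p (l ^ p ^ f - 1) (k + f) :=
  mc_pv_pow_sub_one D.hp2 D.hl D.hk D.hk1 f

theorem pvgeom (D : MCP p a b m t l k) (y i : ℕ) :
    PV p (∑ q ∈ Finset.range (p ^ i), l ^ (y * q)) i :=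
  mc_pv_geom D.hp2 D.hl D.hk D.hk1 y i

theorem lpow_dvd (D : MCP p a b m t l k) (j e : ℕ) : p ^ e ∣ l ^ j - 1 ↔ p ^ (e - k) ∣ j :=
  mc_pow_dvd_pow_sub_one D.hp2 D.hl D.hk D.hk1 j e

omit hp in
/-- conjugation of `a^u` by `g = a^w b^j`. -/
theorem conj_pow_a (D : MCP p a b m t l k) (w j u : ℕ) :
    (a ^ w * b ^ j) * a ^ u * (a ^ w * b ^ j)⁻¹ = a ^ (u * l ^ j) := by
  rw [mul_assoc (a ^ w), mc_conj_pow D.hconj]
  have : Commute (a ^ w) (a ^ (u * l ^ j)) := (Commute.refl a).pow_pow _ _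
  rw [mul_inv_rev, ← mul_assoc (a ^ w), this.eq]
  group

theorem normal_Npow (D : MCP p a b m t l k) (e : ℕ) : (zpowers (a ^ p ^ e)).Normal := by
  constructor
  intro x hx g
  have hx' : x ∈ zpowers a := (Subgroup.zpowers_le.mpr (Subgroup.pow_mem _ (Subgroup.mem_zpowers a) _)) hx
  obtain ⟨u, rfl⟩ := (D.mem_N x).mp hx'
  obtain ⟨w, j, rfl⟩ := D.hgen g
  rw [D.conj_pow_a]
  rcases le_or_gt e m with hem | hem
  · rw [pow_mem_zpowers_prime_pow D.ha hem] at hx ⊢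
    exact Dvd.dvd.mul_right hx _
  · have h1 : a ^ p ^ e = 1 := by
      rw [D.pow_eq_one_iff]; exact pow_dvd_pow p hem.le
    rw [h1, Subgroup.zpowers_one_eq_bot, Subgroup.mem_bot] at hx ⊢
    rw [D.pow_eq_one_iff] at hx ⊢
    exact Dvd.dvd.mul_right hx _

theorem normal_N (D : MCP p a b m t l k) : (zpowers a).Normal := by
  have := D.normal_Npow 0
  simpa using this

/-- `b^(p^t) = a^c` with `p^(m-k) ∣ c`. -/
theorem bpt (D : MCP p a b m t l k) : ∃ c : ℕ, b ^ p ^ t = a ^ (p ^ (m - k) * c) := by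
  obtain ⟨c, hc⟩ := (D.mem_N _).mp ((D.hbt (p ^ t)).mpr dvd_rfl)
  have h1 : b * a ^ c = a ^ (c * l) * b := by
    have := mc_conj_pow D.hconj 1 c
    simpa using this
  have h2 : b * a ^ c = a ^ c * b := by
    rw [← hc, ← pow_succ, ← pow_succ']
  have h3 : a ^ (c * l) = a ^ c := by
    rw [h1] at h2
    exact mul_right_cancel h2
  have h4 : a ^ (c * (l - 1)) = 1 := by
    have : c * l = c + c * (l - 1) := by
      have := D.hl
      obtain ⟨w, hw⟩ := Nat.exists_eq_add_of_le this.le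
      rw [hw]; simp; ring
    rw [this, pow_add] at h3
    exact mul_left_cancel (h3.trans (mul_one _).symm)
  rw [D.pow_eq_one_iff, D.pvl.dvd_mul_iff] at h4
  obtain ⟨c', rfl⟩ := h4
  exact ⟨c', hc⟩

/-- `n = m - k ≤ t`. -/
theorem n_le_t (D : MCP p a b m t l k) : m - k ≤ t := by
  have h1 : b ^ p ^ t * a ^ 1 = a ^ (1 * l ^ p ^ t) * b ^ p ^ t := mc_conj_pow D.hconj _ _
  obtain ⟨c, hc⟩ := D.bpt
  have h2 : b ^ p ^ t * a ^ 1 = a ^ 1 * b ^ p ^ t := by
    rw [hc, ← pow_add, ← pow_add, add_comm]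
  rw [h1, one_mul] at h2
  have h3 : a ^ (l ^ p ^ t) = a ^ 1 := mul_right_cancel h2
  have h4 : a ^ (l ^ p ^ t - 1) = 1 := by
    have : l ^ p ^ t = 1 + (l ^ p ^ t - 1) := by
      have : 1 ≤ l ^ p ^ t := Nat.one_le_pow _ _ D.hl.le
      omega
    rw [this, pow_add] at h3
    exact mul_left_cancel (h3.trans (mul_one _).symm)
  rw [D.pow_eq_one_iff, (D.pvlp t)] at h4
  omega

end MCP

end Cfsg.Agent.Lib.helper65
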