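import Mathlib
import Cfsg.Agent.Lib.helper65.MetaCore

namespace Cfsg.Agent.Lib.helper65

open Subgroup
open scoped commutatorElement

/-- The subgroup `⟨a^(p^s), b^(p^s)⟩`. -/
def mcW {G : Type*} [Group G] (p : ℕ) (a b : G) (s : ℕ) : Subgroup G :=
  zpowers (a ^ p ^ s) ⊔ zpowers (b ^ p ^ s)

namespace MCP

variable {G : Type*} [Group G] [Finite G] {p : ℕ} [hp : Fact p.Prime] {a b : G} {m t l k : ℕ}

omit [Finite G] hp in
theorem orderOf_mk_b (D : MCP p a b m t l k) [hN : (zpowers a).Normal] :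
    orderOf (QuotientGroup.mk b : G ⧸ zpowers a) = p ^ t := by
  apply Nat.dvd_antisymm
  · apply orderOf_dvd_of_pow_eq_one
    rw [← QuotientGroup.mk_pow, QuotientGroup.eq_one_iff]
    exact (D.hbt _).mpr dvd_rfl
  · have h1 := pow_orderOf_eq_one (QuotientGroup.mk b : G ⧸ zpowers a)
    rw [← QuotientGroup.mk_pow, QuotientGroup.eq_one_iff] at h1
    exact (D.hbt _).mp h1

omit [Finite G] hp in
theorem mk_eq (_D : MCP p a b m t l k) [hN : (zpowers a).Normal] (u j : ℕ) :
    (QuotientGroup.mk (a ^ u * b ^ j) : G ⧸ zpowers a) = (QuotientGroup.mk b) ^ j := by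
  have : (QuotientGroup.mk (a ^ u) : G ⧸ zpowers a) = 1 := by
    rw [QuotientGroup.eq_one_iff]; exact Subgroup.pow_mem _ (Subgroup.mem_zpowers a) _
  rw [QuotientGroup.mk_mul, this, one_mul]
  exact QuotientGroup.mk_pow _ _ _

omit [Finite G] hp in
theorem zpowers_mk_b (D : MCP p a b m t l k) [hN : (zpowers a).Normal] :
    zpowers (QuotientGroup.mk b : G ⧸ zpowers a) = ⊤ := by
  rw [eq_top_iff]
  intro q _
  obtain ⟨g, rfl⟩ := QuotientGroup.mk_surjective q
  obtain ⟨u, j, rfl⟩ := D.hgen g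
  rw [D.mk_eq]
  exact Subgroup.pow_mem _ (Subgroup.mem_zpowers _) _

omit [Finite G] in
theorem card_G (D : MCP p a b m t l k) : Nat.card G = p ^ (m + t) := by
  have := D.normal_N
  rw [Subgroup.card_eq_card_quotient_mul_card_subgroup (zpowers a), Nat.card_zpowers, D.ha,
    ← Nat.card_congr (Subgroup.topEquiv (G := G ⧸ zpowers a)).toEquiv, ← D.zpowers_mk_b,
    Nat.card_zpowers, D.orderOf_mk_b, pow_add, mul_comm]

omit [Finite G] hp in
theorem commutator_eq (D : MCP p a b m t l k) : commutator G = zpowers (a ^ (l - 1)) := by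
  apply le_antisymm
  · rw [_root_.commutator_def, Subgroup.commutator_le]
    intro g _ h _
    obtain ⟨u, j, rfl⟩ := D.hgen g
    obtain ⟨u', j', rfl⟩ := D.hgen h
    have key : ∀ w i : ℕ, a ^ (w * (l ^ i - 1)) ∈ zpowers (a ^ (l - 1)) := by
      intro w i
      obtain ⟨c, hc⟩ : l - 1 ∣ l ^ i - 1 := by
        have := Nat.sub_dvd_pow_sub_pow l 1 i
        simpa using this
      rw [hc, show w * ((l - 1) * c) = (l - 1) * (w * c) by ring, pow_mul]
      exact Subgroup.pow_mem _ (Subgroup.mem_zpowers _) _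
    have h1 : ⁅a ^ u * b ^ j, a ^ u' * b ^ j'⁆ =
        a ^ (u' * (l ^ j - 1)) * (a ^ (u * (l ^ j' - 1)))⁻¹ := by
      rw [commutatorElement_def]
      have e1 : (a ^ u * b ^ j) * (a ^ u' * b ^ j') * (a ^ u * b ^ j)⁻¹ * (a ^ u' * b ^ j')⁻¹ =
          ((a ^ u * b ^ j) * (a ^ u' * b ^ j')) * ((a ^ u' * b ^ j') * (a ^ u * b ^ j))⁻¹ := by group
      rw [e1, mc_mul D.hconj, mc_mul D.hconj, add_comm j' j]
      have hj : 1 ≤ l ^ j := Nat.one_le_pow _ _ D.hl.le
      have hj' : 1 ≤ l ^ j' := Nat.one_le_pow _ _ D.hl.le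
      have e2 : u + u' * l ^ j = (u + u') + u' * (l ^ j - 1) := by
        obtain ⟨w, hw⟩ := Nat.exists_eq_add_of_le hj
        rw [hw]; simp; ring
      have e3 : u' + u * l ^ j' = (u + u') + u * (l ^ j' - 1) := by
        obtain ⟨w, hw⟩ := Nat.exists_eq_add_of_le hj'
        rw [hw]; simp; ring
      rw [e2, e3, pow_add, pow_add a (u + u')]
      have c1 : Commute (a ^ (u + u')) (a ^ (u' * (l ^ j - 1))) := (Commute.refl a).pow_pow _ _
      have c2 : Commute (a ^ (u + u')) (a ^ (u * (l ^ j' - 1))) := (Commute.refl a).pow_pow _ _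
      have c3 : Commute (a ^ (u + u')) (a ^ (u' * (l ^ j - 1)) * (a ^ (u * (l ^ j' - 1)))⁻¹) :=
        c1.mul_right c2.inv_right
      calc a ^ (u + u') * a ^ (u' * (l ^ j - 1)) * b ^ (j + j') *
            (a ^ (u + u') * a ^ (u * (l ^ j' - 1)) * b ^ (j + j'))⁻¹
          = a ^ (u + u') * (a ^ (u' * (l ^ j - 1)) * (a ^ (u * (l ^ j' - 1)))⁻¹) *
              (a ^ (u + u'))⁻¹ := by group
        _ = a ^ (u' * (l ^ j - 1)) * (a ^ (u * (l ^ j' - 1)))⁻¹ := by
            rw [c3.eq]; group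
    rw [h1]
    exact Subgroup.mul_mem _ (key _ _) (Subgroup.inv_mem _ (key _ _))
  · rw [Subgroup.zpowers_le]
    have : a ^ (l - 1) = ⁅b, a⁆ := by
      rw [commutatorElement_def, D.hconj]
      have : l = (l - 1) + 1 := by have := D.hl; omega
      nth_rewrite 2 [this]
      rw [pow_succ, mul_assoc, mul_inv_cancel, mul_one]
    rw [this, _root_.commutator_def]
    exact Subgroup.commutator_mem_commutator (Subgroup.mem_top _) (Subgroup.mem_top _)

omit [Finite G] in
theorem card_commutator (D : MCP p a b m t l k) : Nat.card (commutator G) = p ^ (m - k) := by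
  rw [D.commutator_eq, Nat.card_zpowers, orderOf_pow_of_PV D.ha D.pvl]

omit [Finite G] in
theorem index_commutator (D : MCP p a b m t l k) : (commutator G).index = p ^ (m + t - (m - k)) := by
  have h1 := Subgroup.card_mul_index (commutator G)
  rw [D.card_commutator, D.card_G] at h1
  have h2 : p ^ (m + t) = p ^ (m - k) * p ^ (m + t - (m - k)) := by
    rw [← pow_add]; congr 1; omega
  rw [h2] at h1
  exact Nat.eq_of_mul_eq_mul_left (pow_pos hp.out.pos _) h1

omit [Finite G] hp in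
theorem mem_W_of (u j s : ℕ) : a ^ (p ^ s * u) * b ^ (p ^ s * j) ∈ mcW p a b s := by
  rw [pow_mul, pow_mul]
  exact Subgroup.mul_mem _ (Subgroup.mem_sup_left (Subgroup.pow_mem _ (Subgroup.mem_zpowers _) _))
    (Subgroup.mem_sup_right (Subgroup.pow_mem _ (Subgroup.mem_zpowers _) _))

theorem exists_of_mem_W (D : MCP p a b m t l k) {s : ℕ} {g : G} (hg : g ∈ mcW p a b s) :
    ∃ u j : ℕ, g = a ^ (p ^ s * u) * b ^ (p ^ s * j) := by
  have := D.normal_Npow s
  have h1 : g ∈ ((zpowers (a ^ p ^ s) ⊔ zpowers (b ^ p ^ s) : Subgroup G) : Set G) := hg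
  rw [Subgroup.normal_mul] at h1
  obtain ⟨x, hx, y, hy, rfl⟩ := Set.mem_mul.mp h1
  obtain ⟨u, rfl⟩ := (mem_powers_iff_mem_zpowers).mpr hx
  obtain ⟨j, rfl⟩ := (mem_powers_iff_mem_zpowers).mpr hy
  refine ⟨u, j, ?_⟩
  simp only [pow_mul]

omit [Finite G] hp in
theorem W_le_of_le (s s' : ℕ) (h : s ≤ s') : mcW p a b s' ≤ mcW p a b s := by
  obtain ⟨d, rfl⟩ := Nat.exists_eq_add_of_le h
  apply sup_le
  · rw [Subgroup.zpowers_le, pow_add, pow_mul]
    exact Subgroup.mem_sup_left (Subgroup.pow_mem _ (Subgroup.mem_zpowers _) _)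
  · rw [Subgroup.zpowers_le, pow_add, pow_mul]
    exact Subgroup.mem_sup_right (Subgroup.pow_mem _ (Subgroup.mem_zpowers _) _)

theorem W_inf_N (D : MCP p a b m t l k) {s : ℕ} (hs : s ≤ m - k) :
    mcW p a b s ⊓ zpowers a = zpowers (a ^ p ^ s) := by
  apply le_antisymm
  · rintro g ⟨hg1, hg2⟩
    obtain ⟨u, j, rfl⟩ := D.exists_of_mem_W hg1
    have h1 : b ^ (p ^ s * j) ∈ zpowers a := by
      have : b ^ (p ^ s * j) = (a ^ (p ^ s * u))⁻¹ * (a ^ (p ^ s * u) * b ^ (p ^ s * j)) := by group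
      rw [this]
      exact Subgroup.mul_mem _ (Subgroup.inv_mem _ (Subgroup.pow_mem _ (Subgroup.mem_zpowers a) _)) hg2
    obtain ⟨q, hq⟩ := (D.hbt _).mp h1
    obtain ⟨c, hc⟩ := D.bpt
    rw [hq, pow_mul b, hc]
    apply Subgroup.mul_mem
    · rw [pow_mul]; exact Subgroup.pow_mem _ (Subgroup.mem_zpowers _) _
    · apply Subgroup.pow_mem
      obtain ⟨d, hd⟩ := Nat.exists_eq_add_of_le hs
      rw [hd, pow_add, mul_assoc, pow_mul]
      exact Subgroup.pow_mem _ (Subgroup.mem_zpowers _) _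
  · apply le_inf
    · exact le_sup_left
    · rw [Subgroup.zpowers_le]; exact Subgroup.pow_mem _ (Subgroup.mem_zpowers a) _

theorem card_W (D : MCP p a b m t l k) {s : ℕ} (hs : s ≤ m - k) :
    Nat.card (mcW p a b s) = p ^ (m + t - 2 * s) := by
  have := D.normal_N
  have hnt := D.n_le_t
  rw [card_eq_card_inf_mul_card_map (zpowers a), D.W_inf_N hs,
    card_zpowers_prime_pow D.ha (by omega : s ≤ m)]
  have hmap : (mcW p a b s).map (QuotientGroup.mk' (zpowers a)) =
      zpowers ((QuotientGroup.mk b : G ⧸ zpowers a) ^ p ^ s) := by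
    rw [mcW, Subgroup.map_sup, MonoidHom.map_zpowers, MonoidHom.map_zpowers]
    have : (QuotientGroup.mk' (zpowers a)) (a ^ p ^ s) = 1 := by
      rw [QuotientGroup.mk'_apply, QuotientGroup.eq_one_iff]
      exact Subgroup.pow_mem _ (Subgroup.mem_zpowers a) _
    rw [this, Subgroup.zpowers_one_eq_bot, bot_sup_eq]
    rfl
  rw [hmap, card_zpowers_prime_pow D.orderOf_mk_b (by omega : s ≤ t), ← pow_add]
  congr 1; omega

omit [Finite G] in
/-- coordinates of a central element. -/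
theorem center_coords (D : MCP p a b m t l k) {u y : ℕ} (h : a ^ u * b ^ y ∈ center G) :
    p ^ (m - k) ∣ u ∧ p ^ (m - k) ∣ y := by
  rw [Subgroup.mem_center_iff] at h
  constructor
  · have h1 := h (a ^ 0 * b ^ 1)
    rw [mc_commute_iff D.hl.le D.hconj] at h1
    simp only [pow_one, zero_mul, pow_zero] at h1
    rw [D.pow_eq_one_iff, D.pvl.dvd_mul_iff] at h1
    exact h1
  · have h1 := h (a ^ 1 * b ^ 0)
    rw [mc_commute_iff D.hl.le D.hconj] at h1
    simp only [pow_zero, Nat.sub_self, mul_zero, one_mul] at h1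
    have h2 := h1.symm
    rw [D.pow_eq_one_iff, D.lpow_dvd] at h2
    exact h2

omit [Finite G] in
theorem center_eq (D : MCP p a b m t l k) : center G = mcW p a b (m - k) := by
  apply le_antisymm
  · intro g hg
    obtain ⟨u, y, rfl⟩ := D.hgen g
    obtain ⟨⟨u', rfl⟩, ⟨y', rfl⟩⟩ := D.center_coords hg
    exact mem_W_of _ _ _
  · apply sup_le
    · rw [Subgroup.zpowers_le, Subgroup.mem_center_iff]
      intro g
      obtain ⟨w, j, rfl⟩ := D.hgen g
      have h1 := mc_commute_iff D.hl.le D.hconj w j (p ^ (m - k)) 0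
      simp only [pow_zero, mul_one, Nat.sub_self, mul_zero] at h1
      rw [h1, D.pow_eq_one_iff]
      have h2 : p ^ k ∣ l ^ j - 1 := by rw [D.lpow_dvd]; simp
      have h3 : p ^ m ∣ p ^ (m - k) * p ^ k := by
        rw [← pow_add]; exact pow_dvd_pow p (by omega)
      exact dvd_trans h3 (Nat.mul_dvd_mul_left _ h2)
    · rw [Subgroup.zpowers_le, Subgroup.mem_center_iff]
      intro g
      obtain ⟨w, j, rfl⟩ := D.hgen g
      have h1 := mc_commute_iff D.hl.le D.hconj w j 0 (p ^ (m - k))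
      simp only [pow_zero, one_mul, zero_mul] at h1
      rw [h1, eq_comm, D.pow_eq_one_iff]
      apply Dvd.dvd.mul_left
      rw [D.lpow_dvd]

theorem card_center (D : MCP p a b m t l k) : Nat.card (center G) = p ^ (m + t - 2 * (m - k)) := by
  rw [D.center_eq, D.card_W le_rfl]

theorem pow_mem_center_iff (D : MCP p a b m t l k) {i : ℕ} (hi : i ≤ m - k) (g : G) :
    g ^ p ^ i ∈ center G ↔ g ∈ mcW p a b (m - k - i) := by
  constructor
  · intro h
    obtain ⟨u, y, rfl⟩ := D.hgen g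
    rw [mc_pow D.hconj] at h
    obtain ⟨h1, h2⟩ := D.center_coords h
    rw [(D.pvgeom y i).dvd_mul_iff] at h1
    rw [(PV.pow_self p i).dvd_mul_iff] at h2
    obtain ⟨u', rfl⟩ := h1
    obtain ⟨y', rfl⟩ := h2
    exact mem_W_of _ _ _
  · intro h
    obtain ⟨u, j, rfl⟩ := D.exists_of_mem_W h
    rw [mc_pow D.hconj, D.center_eq]
    obtain ⟨c, hc⟩ : p ^ i ∣ ∑ q ∈ Finset.range (p ^ i), l ^ (p ^ (m - k - i) * j * q) :=
      ((D.pvgeom _ i) i).mpr le_rfl
    have e1 : p ^ (m - k - i) * u * ∑ q ∈ Finset.range (p ^ i), l ^ (p ^ (m - k - i) * j * q) =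
        p ^ (m - k) * (u * c) := by
      rw [hc]
      have : p ^ (m - k) = p ^ (m - k - i) * p ^ i := by rw [← pow_add]; congr 1; omega
      rw [this]; ring
    have e2 : p ^ (m - k - i) * j * p ^ i = p ^ (m - k) * j := by
      have : p ^ (m - k) = p ^ (m - k - i) * p ^ i := by rw [← pow_add]; congr 1; omega
      rw [this]; ring
    rw [e1, e2]
    exact mem_W_of _ _ _

omit [Finite G] in
theorem closure_pow_eq (D : MCP p a b m t l k) (s : ℕ) :
    Subgroup.closure {x : G | ∃ y : G, y ^ p ^ s = x} = mcW p a b s := by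
  apply le_antisymm
  · rw [Subgroup.closure_le]
    rintro x ⟨y, rfl⟩
    obtain ⟨u, j, rfl⟩ := D.hgen y
    rw [mc_pow D.hconj]
    obtain ⟨c, hc⟩ : p ^ s ∣ ∑ q ∈ Finset.range (p ^ s), l ^ (j * q) :=
      ((D.pvgeom _ s) s).mpr le_rfl
    rw [hc, show u * (p ^ s * c) = p ^ s * (u * c) by ring, mul_comm j]
    exact mem_W_of _ _ _
  · apply sup_le
    · rw [Subgroup.zpowers_le]
      exact Subgroup.subset_closure ⟨a, rfl⟩
    · rw [Subgroup.zpowers_le]
      exact Subgroup.subset_closure ⟨b, rfl⟩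

end MCP

end Cfsg.Agent.Lib.helper65
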