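import Mathlib
import Cfsg.Agent.Lib.helper65.MetaStruct
import Cfsg.Agent.Lib.helper3.PGroupFrattini
import Cfsg.Agent.Lib.helper3.PGroupNormal

namespace Cfsg.Agent.Lib.helper65

open Subgroup
open scoped commutatorElement

theorem PV.padicValNat_eq {p c v : ℕ} [hp : Fact p.Prime] (h : PV p c v) : padicValNat p c = v := by
  have hc := h.ne_zero
  apply le_antisymm
  · exact (h _).mp ((padicValNat_dvd_iff_le hc).mpr le_rfl)
  · exact (padicValNat_dvd_iff_le hc).mp ((h v).mpr le_rfl)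

namespace MCP

variable {G : Type*} [Group G] [Finite G] {p : ℕ} [hp : Fact p.Prime] {a b : G} {m t l k : ℕ}

/-- The structure of an arbitrary subgroup `R`. -/
theorem exists_subgroup_data (D : MCP p a b m t l k) (R : Subgroup G) :
    ∃ e f u : ℕ, e ≤ m ∧ f ≤ t ∧ R ⊓ zpowers a = zpowers (a ^ p ^ e) ∧
      (a ^ u * b ^ p ^ f ∈ R) ∧
      (∀ r ∈ R, ∃ i j : ℕ, r = a ^ (p ^ e * i) * (a ^ u * b ^ p ^ f) ^ j) ∧
      (∀ w j : ℕ, a ^ w * b ^ j ∈ R → p ^ f ∣ j) ∧ Nat.card R = p ^ (m - e + (t - f)) := by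
  have hN := D.normal_N
  obtain ⟨e, he, hX⟩ := subgroup_zpowers_prime_pow D.ha (R ⊓ zpowers a) inf_le_right
  obtain ⟨f, hf, hY⟩ := subgroup_zpowers_prime_pow D.orderOf_mk_b
    (R.map (QuotientGroup.mk' (zpowers a))) (by rw [D.zpowers_mk_b]; exact le_top)
  have hmem : (QuotientGroup.mk b : G ⧸ zpowers a) ^ p ^ f ∈ R.map (QuotientGroup.mk' (zpowers a)) := by
    rw [hY]; exact Subgroup.mem_zpowers _
  obtain ⟨r, hrR, hr⟩ := Subgroup.mem_map.mp hmem
  have hrN : r * (b ^ p ^ f)⁻¹ ∈ zpowers a := by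
    rw [← QuotientGroup.eq_one_iff, QuotientGroup.mk_mul, QuotientGroup.mk_inv,
      QuotientGroup.mk_pow]
    rw [QuotientGroup.mk'_apply] at hr
    rw [hr, mul_inv_cancel]
  obtain ⟨u, hu⟩ := (D.mem_N _).mp hrN
  have hg : a ^ u * b ^ p ^ f ∈ R := by
    rw [← hu]; simpa using hrR
  have hdiv : ∀ w j : ℕ, a ^ w * b ^ j ∈ R → p ^ f ∣ j := by
    intro w j hwj
    have h1 : (QuotientGroup.mk' (zpowers a)) (a ^ w * b ^ j) ∈ R.map (QuotientGroup.mk' (zpowers a)) :=
      Subgroup.mem_map_of_mem _ hwj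
    rw [QuotientGroup.mk'_apply, D.mk_eq, hY, pow_mem_zpowers_prime_pow D.orderOf_mk_b hf] at h1
    exact h1
  have hcard : Nat.card R = p ^ (m - e + (t - f)) := by
    rw [card_eq_card_inf_mul_card_map (zpowers a), hX, hY, card_zpowers_prime_pow D.ha he,
      card_zpowers_prime_pow D.orderOf_mk_b hf, pow_add]
  refine ⟨e, f, u, he, hf, hX, hg, ?_, hdiv, hcard⟩
  intro r hr
  obtain ⟨w, j, rfl⟩ := D.hgen r
  obtain ⟨j', rfl⟩ := hdiv w j hr
  have h0 : a ^ w * b ^ (p ^ f * j') * ((a ^ u * b ^ p ^ f) ^ j')⁻¹ ∈ zpowers a := by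
    rw [← QuotientGroup.eq_one_iff, QuotientGroup.mk_mul, QuotientGroup.mk_inv,
      QuotientGroup.mk_pow, D.mk_eq, D.mk_eq, ← pow_mul, mul_inv_cancel]
  have h1 : a ^ w * b ^ (p ^ f * j') * ((a ^ u * b ^ p ^ f) ^ j')⁻¹ ∈ R ⊓ zpowers a :=
    Subgroup.mem_inf.mpr ⟨R.mul_mem hr (R.inv_mem (R.pow_mem hg _)), h0⟩
  have h2 := h1
  rw [hX] at h2
  obtain ⟨x, hx⟩ := (D.mem_N _).mp h1.2
  rw [hx, pow_mem_zpowers_prime_pow D.ha he] at h2
  obtain ⟨i, rfl⟩ := h2
  refine ⟨i, j', ?_⟩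
  rw [← hx]; group

omit [Finite G] in
/-- The presentation data of a subgroup. -/
theorem subMCP (D : MCP p a b m t l k) (R : Subgroup G) {e f u : ℕ} (he : e ≤ m)
    (hX : R ⊓ zpowers a = zpowers (a ^ p ^ e)) (hg : a ^ u * b ^ p ^ f ∈ R)
    (hR : ∀ r ∈ R, ∃ i j : ℕ, r = a ^ (p ^ e * i) * (a ^ u * b ^ p ^ f) ^ j) :
    MCP p (⟨a ^ p ^ e, (hX ▸ Subgroup.mem_zpowers (a ^ p ^ e) : a ^ p ^ e ∈ R ⊓ zpowers a).1⟩ : R)
      (⟨a ^ u * b ^ p ^ f, hg⟩ : R) (m - e) (t - f) (l ^ p ^ f) (k + f) := by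
  have haR : a ^ p ^ e ∈ R := (hX ▸ Subgroup.mem_zpowers (a ^ p ^ e) : a ^ p ^ e ∈ R ⊓ zpowers a).1
  refine ⟨D.hp2, ?_, Nat.one_lt_pow (pow_pos hp.out.pos f).ne' D.hl, (D.pvlp f).padicValNat_eq,
    by have := D.hk1; omega, ?_, ?_, ?_⟩
  · rw [Subgroup.orderOf_mk, orderOf_pow_of_dvd (pow_pos hp.out.pos e).ne'
      (by rw [D.ha]; exact pow_dvd_pow p he), D.ha]
    exact Nat.pow_div he hp.out.pos
  · apply Subtype.ext
    simp only [Subgroup.coe_mul, Subgroup.coe_inv, Subgroup.coe_pow]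
    rw [D.conj_pow_a, pow_mul]
  · intro r
    obtain ⟨i, j, hij⟩ := hR r.1 r.2
    refine ⟨i, j, ?_⟩
    apply Subtype.ext
    simp only [Subgroup.coe_mul, Subgroup.coe_pow]
    rw [hij, pow_mul]
  · intro j
    have key : (a ^ u * b ^ p ^ f) ^ j ∈ zpowers a ↔ p ^ (t - f) ∣ j := by
      rw [mc_pow D.hconj]
      have : a ^ (u * ∑ q ∈ Finset.range j, l ^ (p ^ f * q)) * b ^ (p ^ f * j) ∈ zpowers a ↔
          b ^ (p ^ f * j) ∈ zpowers a := by
        constructor
        · intro h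
          have := Subgroup.mul_mem _ (Subgroup.inv_mem _
            (Subgroup.pow_mem _ (Subgroup.mem_zpowers a) (u * ∑ q ∈ Finset.range j, l ^ (p ^ f * q)))) h
          simpa using this
        · intro h
          exact Subgroup.mul_mem _ (Subgroup.pow_mem _ (Subgroup.mem_zpowers a) _) h
      rw [this, D.hbt, mul_comm, (PV.pow_self p f).dvd_mul_iff]
    rw [← key]
    constructor
    · intro h
      obtain ⟨z, hz⟩ := Subgroup.mem_zpowers_iff.mp h
      have hz' := congrArg Subtype.val hz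
      simp only [Subgroup.coe_zpow, Subgroup.coe_pow] at hz'
      rw [← hz', ← zpow_natCast, ← zpow_mul]
      exact Subgroup.zpow_mem _ (Subgroup.mem_zpowers a) _
    · intro h
      have h1 : (a ^ u * b ^ p ^ f) ^ j ∈ R ⊓ zpowers a := ⟨R.pow_mem hg _, h⟩
      rw [hX] at h1
      obtain ⟨z, hz⟩ := Subgroup.mem_zpowers_iff.mp h1
      apply Subgroup.mem_zpowers_iff.mpr
      refine ⟨z, ?_⟩
      apply Subtype.ext
      simp only [Subgroup.coe_zpow, Subgroup.coe_pow]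
      exact hz

/-- Lemma M: abelian subgroups are those of order at most `|G : G'|`, and a nonabelian subgroup
`R` has `|R| = |R'| |G : G'|`. -/
theorem subgroup_commutator (D : MCP p a b m t l k) (R : Subgroup G) :
    (IsMulCommutative ↥R ↔ Nat.card R ≤ (commutator G).index) ∧
      (¬ IsMulCommutative ↥R → Nat.card R = Nat.card (commutator ↥R) * (commutator G).index) := by
  obtain ⟨e, f, u, he, hf, hX, hg, hR, -, hcard⟩ := D.exists_subgroup_data R
  have DR := D.subMCP R he hX hg hR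
  have hnt := D.n_le_t
  have hc := DR.card_commutator
  have hcomm : IsMulCommutative ↥R ↔ m - e ≤ k + f := by
    rw [← commutator_eq_bot_iff, ← Subgroup.card_eq_one (H := commutator ↥R), hc]
    constructor
    · intro h
      by_contra hlt
      have : 1 < p ^ (m - e - (k + f)) := Nat.one_lt_pow (by omega) hp.out.one_lt
      omega
    · intro h
      rw [Nat.sub_eq_zero_of_le h, pow_zero]
  refine ⟨?_, ?_⟩
  · rw [hcomm, hcard, D.index_commutator, Nat.pow_le_pow_iff_right hp.out.one_lt]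
    omega
  · intro hna
    rw [hcomm] at hna
    rw [hc, hcard, D.index_commutator, ← pow_add]
    congr 1
    omega

theorem frattini_eq (D : MCP p a b m t l k) (hG : IsPGroup p G) : frattini G = mcW p a b 1 := by
  apply le_antisymm
  · apply Cfsg.Agent.Lib.helper3.frattini_le_of_pow_mem_of_commutator_le (p := p)
    · intro x
      rw [← D.closure_pow_eq 1]
      exact Subgroup.subset_closure ⟨x, by rw [pow_one]⟩
    · rw [D.commutator_eq, Subgroup.zpowers_le]
      obtain ⟨c, hc⟩ : p ∣ l - 1 := by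
        have := (D.pvl 1).mpr D.hk1
        simpa using this
      rw [hc, pow_mul]
      apply Subgroup.mem_sup_left
      rw [pow_one]
      exact Subgroup.pow_mem _ (Subgroup.mem_zpowers _) _
  · apply sup_le
    · rw [Subgroup.zpowers_le, pow_one]
      exact Cfsg.Agent.Lib.helper3.pow_prime_mem_frattini hG a
    · rw [Subgroup.zpowers_le, pow_one]
      exact Cfsg.Agent.Lib.helper3.pow_prime_mem_frattini hG b

end MCP

end Cfsg.Agent.Lib.helper65
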