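import Mathlib
import Cfsg.Agent.Lib.helper65.MetaSub

namespace Cfsg.Agent.Lib.helper65

open Subgroup
open scoped commutatorElement

theorem exists_MCP_of_metacyclic {G : Type*} [Group G] [Finite G] {p : ℕ} [hp : Fact p.Prime]
    (hp2 : p ≠ 2) (hG : IsPGroup p G)
    (hmc : ∃ (N : Subgroup G) (_ : N.Normal), IsCyclic N ∧ IsCyclic (G ⧸ N)) :
    ∃ (a b : G) (m t l k : ℕ), MCP p a b m t l k := by
  obtain ⟨N, hN, h1, h2⟩ := hmc
  obtain ⟨a, b, m, t, l, k, D, -⟩ := exists_MCP hp2 hG N h1 h2
  exact ⟨a, b, m, t, l, k, D⟩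

namespace MCP

variable {G : Type*} [Group G] [Finite G] {p : ℕ} [hp : Fact p.Prime] {a b : G} {m t l k : ℕ}

theorem index_center (D : MCP p a b m t l k) :
    (center G).index = Nat.card (commutator G) ^ 2 := by
  have hnt := D.n_le_t
  have h1 := Subgroup.card_mul_index (center G)
  rw [D.card_center, D.card_G] at h1
  rw [D.card_commutator, ← pow_mul]
  have h2 : p ^ (m + t) = p ^ (m + t - 2 * (m - k)) * p ^ ((m - k) * 2) := by
    rw [← pow_add]; congr 1; omega
  rw [h2] at h1
  exact Nat.eq_of_mul_eq_mul_left (pow_pos hp.out.pos _) h1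

theorem abelian_iff (D : MCP p a b m t l k) (L : Subgroup G) :
    IsMulCommutative ↥L ↔ Nat.card L ≤ (commutator G).index :=
  (D.subgroup_commutator L).1

theorem maximal_abelian_iff (D : MCP p a b m t l k) (L : Subgroup G) :
    Maximal (fun K : Subgroup G => IsMulCommutative ↥K) L ↔ Nat.card L = (commutator G).index := by
  constructor
  · intro hmax
    have hle := (D.abelian_iff L).mp hmax.1
    by_contra hne
    have hlt : Nat.card L < (commutator G).index := lt_of_le_of_ne hle hne
    obtain ⟨j, -, hj⟩ := (Nat.dvd_prime_pow hp.out).mp (D.card_G ▸ Subgroup.card_subgroup_dvd_card L)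
    rw [D.index_commutator] at hlt
    rw [hj] at hlt
    have hji : j < m + t - (m - k) := (Nat.pow_lt_pow_iff_right hp.out.one_lt).mp hlt
    have hdvd : p ^ (j + 1) ∣ Nat.card G := by
      rw [D.card_G]; exact pow_dvd_pow p (by omega)
    obtain ⟨K, hK, hLK⟩ := Sylow.exists_subgroup_card_pow_succ hdvd hj
    have hKab : IsMulCommutative ↥K := by
      rw [D.abelian_iff, hK, D.index_commutator]
      exact Nat.pow_le_pow_right hp.out.pos (by omega)
    have := hmax.2 hKab hLK
    have h3 := Subgroup.card_le_of_le this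
    rw [hK, hj] at h3
    have := (Nat.pow_le_pow_iff_right hp.out.one_lt).mp h3
    omega
  · intro hcard
    refine ⟨(D.abelian_iff L).mpr hcard.le, ?_⟩
    intro K hK hLK
    have h1 := (D.abelian_iff K).mp hK
    rw [← hcard] at h1
    exact (Subgroup.eq_of_le_of_card_ge hLK h1).ge

/-- `|R| |Z(R)| ≤ |G:G'|²`, with equality iff `R` is nonabelian or `|R| = |G:G'|`. -/
theorem card_mul_card_center (D : MCP p a b m t l k) (R : Subgroup G) :
    Nat.card R * Nat.card (center ↥R) ≤ (commutator G).index ^ 2 ∧
      (Nat.card R * Nat.card (center ↥R) = (commutator G).index ^ 2 ↔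
        (¬ IsMulCommutative ↥R ∨ Nat.card R = (commutator G).index)) := by
  by_cases hab : IsMulCommutative ↥R
  · have hc : center ↥R = ⊤ := center_eq_top_iff.mpr hab
    have hcard : Nat.card (center ↥R) = Nat.card R := by
      rw [hc]; exact Nat.card_congr (Subgroup.topEquiv).toEquiv
    have hle := (D.abelian_iff R).mp hab
    rw [hcard, ← sq]
    refine ⟨Nat.pow_le_pow_left hle 2, ?_⟩
    constructor
    · intro h
      right
      exact Nat.pow_left_injective (by norm_num : (2 : ℕ) ≠ 0) h
    · rintro (h | h)
      · exact absurd hab h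
      · rw [h]
  · obtain ⟨e, f, u, he, hf, hX, hg, hR, -, hcard⟩ := D.exists_subgroup_data R
    have DR := D.subMCP R he hX hg hR
    have h1 := (D.subgroup_commutator R).2 hab
    have h2 := DR.index_center
    have h3 := Subgroup.card_mul_index (center ↥R)
    rw [h2] at h3
    have hpos : 0 < Nat.card (commutator ↥R) ^ 2 := by
      apply pow_pos; exact Nat.card_pos
    have key : Nat.card R * Nat.card (center ↥R) = (commutator G).index ^ 2 := by
      apply Nat.eq_of_mul_eq_mul_right hpos
      calc Nat.card R * Nat.card (center ↥R) * Nat.card (commutator ↥R) ^ 2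
          = Nat.card R * (Nat.card (center ↥R) * Nat.card (commutator ↥R) ^ 2) := by ring
        _ = Nat.card R * Nat.card R := by rw [h3]
        _ = (commutator G).index ^ 2 * Nat.card (commutator ↥R) ^ 2 := by
            conv_lhs => rw [h1]
            ring
    refine ⟨key.le, ?_⟩
    constructor
    · intro _; left; exact hab
    · intro _; exact key

end MCP

end Cfsg.Agent.Lib.helper65
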