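import Mathlib
import Cfsg.Agent.Lib.helper3.Class2
import Cfsg.Agent.Lib.helper65.MetaThms
import Cfsg.Agent.Lib.helper69.CoprimeAut

/-!
# Inverting endomorphisms of metacyclic `p`-groups (`p` odd)

A metacyclic `p`-group (`p` odd) admitting an endomorphism that inverts it modulo its Frattini
subgroup is abelian; an automorphism of order prime to `p` doing so is the inversion.
-/

set_option autoImplicit false

namespace Cfsg.Agent.Lib.helper65

open Subgroup
open scoped commutatorElement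
open Cfsg.Agent.Lib.helper3

theorem comm_central_left {G : Type*} [Group G] (A a b : G) (hA : ∀ w, A * w = w * A) :
    ⁅A * a, b⁆ = ⁅a, b⁆ := by
  rw [commutatorElement_def, commutatorElement_def, mul_inv_rev]
  have h1 : A * a * b * (a⁻¹ * A⁻¹) * b⁻¹ = A * (a * b * a⁻¹ * (A⁻¹ * b⁻¹)) := by group
  have h2 : A⁻¹ * b⁻¹ = b⁻¹ * A⁻¹ := by
    have h3 := congrArg (fun g => g⁻¹) (hA b)
    simp only [mul_inv_rev] at h3
    exact h3.symm
  rw [h1, h2, hA]; group

theorem comm_central_right {G : Type*} [Group G] (B a b : G) (hB : ∀ w, B * w = w * B) :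
    ⁅a, B * b⁆ = ⁅a, b⁆ := by
  rw [← commutatorElement_inv (B * b) a, comm_central_left B b a hB, commutatorElement_inv]

theorem comm_inv_left_class2 {G : Type*} [Group G] (hc : CommCentral G) (x y : G) :
    ⁅x⁻¹, y⁆ = ⁅y, x⁆ := by
  have h : ⁅x⁻¹, y⁆ = x⁻¹ * ⁅y, x⁆ * x := by simp only [commutatorElement_def]; group
  rw [h, mul_assoc, hc y x x, ← mul_assoc, inv_mul_cancel, one_mul]

theorem comm_inv_inv_class2 {G : Type*} [Group G] (hc : CommCentral G) (x y : G) :
    ⁅x⁻¹, y⁻¹⁆ = ⁅x, y⁆ := by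
  rw [comm_inv_left_class2 hc, comm_inv_left_class2 hc]

/-- A finite `p`-group (`p` odd) with central commutators of exponent `p`, in which some
non-trivial commutator `z` is a `p`-th power, has no endomorphism `τ` with `τ x * x` a `p`-th
power for all `x`. -/
theorem no_inverting_hom_class2 {Q : Type*} [Group Q] [Finite Q] {p : ℕ} [hp : Fact p.Prime]
    (hp2 : p ≠ 2) (hQ : IsPGroup p Q) (hc : CommCentral Q) (z v : Q) (hz1 : z ≠ 1)
    (hzv : v ^ p = z) (hcp : ∀ x y : Q, ⁅x, y⁆ ^ p = 1) (hzc : ∃ x y : Q, ⁅x, y⁆ = z)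
    (τ : Q →* Q) (hτ : ∀ x : Q, ∃ y : Q, τ x * x = y ^ p) : False := by
  have hcen : ∀ y x : Q, y ^ p * x = x * y ^ p := by
    intro y x
    have h := commutator_pow_left_class2 hc x y p
    rw [hcp, commutatorElement_eq_one_iff_mul_comm] at h
    exact h
  have hzp : z ^ p = 1 := by
    obtain ⟨x, y, rfl⟩ := hzc
    exact hcp x y
  have hτz : τ z = z := by
    obtain ⟨x, y, rfl⟩ := hzc
    obtain ⟨y₁, h1⟩ := hτ x
    obtain ⟨y₂, h2⟩ := hτ y
    have e1 : τ x = y₁ ^ p * x⁻¹ := by rw [← h1]; group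
    have e2 : τ y = y₂ ^ p * y⁻¹ := by rw [← h2]; group
    rw [map_commutatorElement, e1, e2, comm_central_left _ _ _ (hcen y₁),
      comm_central_right _ _ _ (hcen y₂), comm_inv_inv_class2 hc]
  have step : ∀ j : ℕ, (∃ x : Q, x ^ p ^ j = z) → ∃ x : Q, x ^ p ^ (j + 1) = z := by
    rintro j ⟨x, hx⟩
    obtain ⟨y, hy⟩ := hτ x
    have e1 : τ x = y ^ p * x⁻¹ := by rw [← hy]; group
    have h1 : τ z = (y ^ p) ^ p ^ j * (x⁻¹) ^ p ^ j := by
      rw [← hx, map_pow, e1]
      exact Commute.mul_pow (hcen y x⁻¹) _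
    rw [hτz, inv_pow, hx] at h1
    have h2 : z * z = y ^ p ^ (j + 1) := by
      rw [pow_succ', pow_mul]
      calc z * z = ((y ^ p) ^ p ^ j * z⁻¹) * z := by rw [← h1]
        _ = (y ^ p) ^ p ^ j := by group
    obtain ⟨h, hh⟩ : ∃ h, p + 1 = 2 * h := by
      have hodd : Odd p := hp.out.odd_of_ne_two hp2
      obtain ⟨r, hr⟩ := hodd
      exact ⟨r + 1, by omega⟩
    refine ⟨y ^ h, ?_⟩
    rw [← pow_mul, mul_comm, pow_mul, ← h2, ← pow_two, ← pow_mul, ← hh, pow_succ, hzp, one_mul]
  have hall : ∀ j : ℕ, ∃ x : Q, x ^ p ^ (j + 1) = z := by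
    intro j
    induction j with
    | zero => exact ⟨v, by simpa using hzv⟩
    | succ j ih => exact step _ ih
  obtain ⟨N, hN⟩ := IsPGroup.iff_card.mp hQ
  obtain ⟨x, hx⟩ := hall N
  apply hz1
  rw [← hx, pow_succ, pow_mul, ← hN, pow_card_eq_one', one_pow]

theorem not_mem_zpowers_pow_prime {G : Type*} [Group G] {p : ℕ} [hp : Fact p.Prime] {w : G}
    (hw : ∃ n : ℕ, w ^ p ^ n = 1) (hw1 : w ≠ 1) : w ∉ zpowers (w ^ p) := by
  intro hmem
  obtain ⟨n, hn⟩ := hw
  obtain ⟨e, -, he⟩ := (Nat.dvd_prime_pow hp.out).mp (orderOf_dvd_of_pow_eq_one hn)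
  have he1 : e ≠ 0 := by
    rintro rfl
    rw [pow_zero, orderOf_eq_one_iff] at he
    exact hw1 he
  obtain ⟨e', rfl⟩ := Nat.exists_eq_succ_of_ne_zero he1
  have h1 := orderOf_dvd_of_mem_zpowers hmem
  have h2 : orderOf (w ^ p) = p ^ e' := by
    rw [orderOf_pow_of_dvd hp.out.ne_zero (by rw [he]; exact dvd_pow_self p (Nat.succ_ne_zero e')),
      he, pow_succ, Nat.mul_div_cancel _ hp.out.pos]
  rw [h2, he] at h1
  have := (Nat.pow_dvd_pow_iff_le_right hp.out.one_lt).mp h1
  omega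

/-- A metacyclic `p`-group, `p` odd, with an endomorphism inverting it modulo its Frattini subgroup
is abelian. -/
theorem comm_of_inverting_hom {X : Type*} [Group X] [Finite X] {p : ℕ} [hp : Fact p.Prime]
    (hp2 : p ≠ 2) (hX : IsPGroup p X)
    (hm : ∃ (N : Subgroup X) (_ : N.Normal), IsCyclic N ∧ IsCyclic (X ⧸ N))
    (τ : X →* X) (hτ : ∀ x : X, τ x * x ∈ frattini X) : ∀ x y : X, x * y = y * x := by
  obtain ⟨a, b, m, t, l, k, D⟩ := exists_MCP_of_metacyclic hp2 hX hm
  obtain ⟨e, he⟩ : ∃ e, l = e + 1 := ⟨l - 1, by have := D.hl; omega⟩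
  have hl' : l - 1 = e := by omega
  have hcomm_eq : commutator X = zpowers (a ^ e) := by rw [D.commutator_eq, hl']
  have hcomm_mem : ∀ x y : X, ⁅x, y⁆ ∈ zpowers (a ^ e) := by
    intro x y
    rw [← hcomm_eq, _root_.commutator_def]
    exact Subgroup.commutator_mem_commutator (mem_top x) (mem_top y)
  by_cases hab : a ^ e = 1
  · intro x y
    have h2 := hcomm_mem x y
    rw [hab, zpowers_one_eq_bot, mem_bot] at h2
    exact commutatorElement_eq_one_iff_mul_comm.mp h2
  · exfalso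
    have hpl : p ∣ e := by
      have := (D.pvl 1).mpr D.hk1
      rw [hl'] at this
      simpa using this
    obtain ⟨w, hw⟩ : ∃ w : X, w = a ^ e := ⟨_, rfl⟩
    rw [← hw] at hab hcomm_mem hcomm_eq
    have hwfin : ∃ n : ℕ, w ^ p ^ n = 1 := hX w
    have hwba : ⁅b, a⁆ = w := by
      rw [commutatorElement_def, D.hconj, hw, he, pow_succ]
      group
    have hpow_of_mem : ∀ g : X, g ∈ zpowers w → ∃ i : ℕ, g = w ^ i := by
      intro g hg
      have hfin : IsOfFinOrder w := isOfFinOrder_of_finite w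
      obtain ⟨u, hu⟩ := (hfin.mem_powers_iff_mem_zpowers).mpr hg
      exact ⟨u, hu.symm⟩
    have hcomm_pow : ∀ x y : X, ∃ i : ℕ, ⁅x, y⁆ = w ^ i := fun x y => hpow_of_mem _ (hcomm_mem x y)
    have hswap : ∀ i : ℕ, (w ^ i) ^ p = (w ^ p) ^ i := by
      intro i
      rw [← pow_mul, ← pow_mul, mul_comm]
    have hMn : (zpowers (w ^ p)).Normal := by
      constructor
      intro n hn g
      obtain ⟨j, rfl⟩ := Subgroup.mem_zpowers_iff.mp hn
      have hcn : g * w * g⁻¹ ∈ zpowers w := by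
        have h1 : (commutator X).Normal := inferInstance
        have h2 : w ∈ commutator X := by rw [hcomm_eq]; exact mem_zpowers _
        have h3 := h1.conj_mem w h2 g
        rwa [hcomm_eq] at h3
      obtain ⟨i, hi⟩ := hpow_of_mem _ hcn
      rw [← conj_zpow, ← conj_pow, hi, hswap]
      exact Subgroup.zpow_mem _ (Subgroup.pow_mem _ (mem_zpowers _) _) _
    let Qt := X ⧸ zpowers (w ^ p)
    have hmk : ∀ g : X, g ∈ zpowers (w ^ p) → (QuotientGroup.mk g : Qt) = 1 := fun g hg =>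
      (QuotientGroup.eq_one_iff g).mpr hg
    -- `mk w` is central
    have haw : Commute (QuotientGroup.mk a : Qt) (QuotientGroup.mk w) := by
      have : a * w = w * a := by rw [hw, ← pow_succ', ← pow_succ]
      show (QuotientGroup.mk a : Qt) * QuotientGroup.mk w = QuotientGroup.mk w * QuotientGroup.mk a
      rw [← QuotientGroup.mk_mul, ← QuotientGroup.mk_mul, this]
    have hbw : Commute (QuotientGroup.mk b : Qt) (QuotientGroup.mk w) := by
      have h1 : b * w = w * w ^ e * b := by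
        have h2 : b * w * b⁻¹ = w * w ^ e := by
          rw [hw, ← conj_pow, D.hconj, he, ← pow_mul, ← pow_succ', ← pow_mul]
          congr 1
          ring
        rw [← h2]; group
      have h3 : (QuotientGroup.mk (w ^ e) : Qt) = 1 := by
        apply hmk
        obtain ⟨c, hc⟩ := hpl
        rw [hc, pow_mul]
        exact Subgroup.pow_mem _ (mem_zpowers _) _
      show (QuotientGroup.mk b : Qt) * QuotientGroup.mk w = QuotientGroup.mk w * QuotientGroup.mk b
      rw [← QuotientGroup.mk_mul, h1, QuotientGroup.mk_mul, QuotientGroup.mk_mul, h3, mul_one,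
        ← QuotientGroup.mk_mul]
    have hwcen : ∀ q : Qt, (QuotientGroup.mk w : Qt) * q = q * QuotientGroup.mk w := by
      intro q
      obtain ⟨g, rfl⟩ := QuotientGroup.mk_surjective q
      obtain ⟨u, j, rfl⟩ := D.hgen g
      rw [QuotientGroup.mk_mul, QuotientGroup.mk_pow, QuotientGroup.mk_pow]
      exact ((haw.pow_left u).mul_left (hbw.pow_left j)).symm.eq
    have hc : CommCentral Qt := by
      intro q₁ q₂ q₃
      obtain ⟨x, rfl⟩ := QuotientGroup.mk_surjective q₁
      obtain ⟨y, rfl⟩ := QuotientGroup.mk_surjective q₂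
      obtain ⟨i, hi⟩ := hcomm_pow x y
      have e1 : ⁅(QuotientGroup.mk x : Qt), (QuotientGroup.mk y : Qt)⁆ = (QuotientGroup.mk w : Qt) ^ i := by
        rw [← QuotientGroup.mk_pow, ← hi]
        exact (map_commutatorElement (QuotientGroup.mk' (zpowers (w ^ p))) x y).symm
      rw [e1]
      exact (Commute.pow_left (hwcen q₃) i).eq
    have hcp : ∀ q₁ q₂ : Qt, ⁅q₁, q₂⁆ ^ p = 1 := by
      intro q₁ q₂
      obtain ⟨x, rfl⟩ := QuotientGroup.mk_surjective q₁
      obtain ⟨y, rfl⟩ := QuotientGroup.mk_surjective q₂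
      obtain ⟨i, hi⟩ := hcomm_pow x y
      have e1 : ⁅(QuotientGroup.mk x : Qt), (QuotientGroup.mk y : Qt)⁆ = (QuotientGroup.mk (w ^ i) : Qt) := by
        rw [← hi]
        exact (map_commutatorElement (QuotientGroup.mk' (zpowers (w ^ p))) x y).symm
      rw [e1, ← QuotientGroup.mk_pow]
      apply hmk
      rw [hswap]
      exact Subgroup.pow_mem _ (mem_zpowers _) _
    have hz1 : (QuotientGroup.mk w : Qt) ≠ 1 := by
      intro h
      exact not_mem_zpowers_pow_prime hwfin hab ((QuotientGroup.eq_one_iff w).mp h)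
    have hzv : (QuotientGroup.mk (a ^ (e / p)) : Qt) ^ p = QuotientGroup.mk w := by
      have : (a ^ (e / p)) ^ p = w := by rw [← pow_mul, Nat.div_mul_cancel hpl, hw]
      rw [← QuotientGroup.mk_pow, this]
    have hzc : ∃ q₁ q₂ : Qt, ⁅q₁, q₂⁆ = (QuotientGroup.mk w : Qt) :=
      ⟨QuotientGroup.mk b, QuotientGroup.mk a, by
        have h := map_commutatorElement (QuotientGroup.mk' (zpowers (w ^ p))) b a
        rw [hwba] at h
        exact h.symm⟩
    have hτM : zpowers (w ^ p) ≤ (zpowers (w ^ p)).comap τ := by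
      rw [zpowers_le, Subgroup.mem_comap, map_pow, ← hwba, map_commutatorElement]
      obtain ⟨i, hi⟩ := hcomm_pow (τ b) (τ a)
      rw [hi, hwba, hswap]
      exact Subgroup.pow_mem _ (mem_zpowers _) _
    let τ' : Qt →* Qt := QuotientGroup.map _ _ τ hτM
    have hτ' : ∀ q : Qt, ∃ y : Qt, τ' q * q = y ^ p := by
      intro q
      obtain ⟨x, rfl⟩ := QuotientGroup.mk_surjective q
      have h1 := hτ x
      rw [D.frattini_eq hX] at h1
      obtain ⟨u, j, huj⟩ := D.exists_of_mem_W h1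
      refine ⟨QuotientGroup.mk (a ^ u) * QuotientGroup.mk (b ^ j), ?_⟩
      rw [mul_pow_prime_class2 hc hp.out hp2 _ _ (hcp _ _)]
      have e1 : τ' (QuotientGroup.mk x) = QuotientGroup.mk (τ x) := QuotientGroup.map_mk _ _ _ _ _
      rw [e1, ← QuotientGroup.mk_mul, huj, QuotientGroup.mk_mul, ← QuotientGroup.mk_pow,
        ← QuotientGroup.mk_pow, pow_one, ← pow_mul, ← pow_mul, mul_comm u p, mul_comm j p]
    exact no_inverting_hom_class2 hp2 (hX.to_quotient _) hc _ _ hz1 hzv hcp hzc τ' hτ'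

theorem pow_trivial_mod_frattini {Q : Type*} [Group Q] (β : MulAut Q)
    (h : ∀ x : Q, β x * x⁻¹ ∈ frattini Q) (k : ℕ) : ∀ x : Q, (β ^ k) x * x⁻¹ ∈ frattini Q := by
  induction k with
  | zero => intro x; simp
  | succ k ih =>
    intro x
    have e : (β ^ (k + 1)) x * x⁻¹ = ((β ^ k) (β x) * (β x)⁻¹) * (β x * x⁻¹) := by
      rw [pow_succ, MulAut.mul_apply]; group
    rw [e]; exact mul_mem (ih _) (h x)

/-- **Burnside**: an automorphism of order prime to `p` of a finite `p`-group which is trivial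
modulo the Frattini subgroup is trivial. -/
theorem mulAut_eq_one_of_coprime_trivial_mod_frattini {Q : Type*} [Group Q] [Finite Q] {p : ℕ}
    [hp : Fact p.Prime] (hQ : IsPGroup p Q) (β : MulAut Q) (n : ℕ) (hn : n.Coprime p)
    (hβ : β ^ n = 1) (h : ∀ x : Q, β x * x⁻¹ ∈ frattini Q) : β = 1 := by
  by_contra hne
  have ho : orderOf β ∣ n := orderOf_dvd_of_pow_eq_one hβ
  have ho1 : orderOf β ≠ 1 := by rwa [Ne, orderOf_eq_one_iff]
  obtain ⟨q, hq, hqo⟩ := Nat.exists_prime_and_dvd ho1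
  have : Fact q.Prime := ⟨hq⟩
  have hqp : p ≠ q := by
    rintro rfl
    have h1 : p ∣ n := hqo.trans ho
    have h2 : p ∣ Nat.gcd n p := Nat.dvd_gcd h1 dvd_rfl
    rw [hn] at h2
    exact hp.out.one_lt.ne' (Nat.dvd_one.mp h2)
  obtain ⟨d, hd⟩ := hqo
  have h1 : (β ^ d) ^ q = 1 := by rw [← pow_mul, mul_comm, ← hd, pow_orderOf_eq_one]
  have h2 := Cfsg.Agent.Lib.helper69.mulAut_eq_one_of_trivial_mod_frattini hqp hQ (β ^ d) h1
    (pow_trivial_mod_frattini β h d)
  have h3 : orderOf β ∣ d := orderOf_dvd_of_pow_eq_one h2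
  have hpos : 0 < orderOf β := orderOf_pos_iff.mpr (isOfFinOrder_of_finite β)
  have hd0 : 0 < d := by
    rcases Nat.eq_zero_or_pos d with rfl | h0
    · rw [mul_zero] at hd; omega
    · exact h0
  have h4 := Nat.le_of_dvd hd0 h3
  rw [hd] at h4
  have := hq.two_le
  nlinarith

/-- An automorphism of order prime to `p` of a metacyclic `p`-group (`p` odd) which inverts the
group modulo its Frattini subgroup is the inversion (and the group is abelian). -/
theorem inv_of_inverting_aut {X : Type*} [Group X] [Finite X] {p : ℕ} [hp : Fact p.Prime]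
    (hp2 : p ≠ 2) (hX : IsPGroup p X)
    (hm : ∃ (N : Subgroup X) (_ : N.Normal), IsCyclic N ∧ IsCyclic (X ⧸ N))
    (ζ : MulAut X) (n : ℕ) (hn : n.Coprime p) (hζn : ζ ^ n = 1)
    (hζ : ∀ x : X, ζ x * x ∈ frattini X) : ∀ x : X, ζ x = x⁻¹ := by
  have hab := comm_of_inverting_hom hp2 hX hm ζ.toMonoidHom hζ
  let β : MulAut X :=
    { toFun := fun x => (ζ x)⁻¹
      invFun := fun x => ζ.symm x⁻¹
      left_inv := fun x => by simp
      right_inv := fun x => by simp
      map_mul' := fun x y => by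
        show (ζ (x * y))⁻¹ = (ζ x)⁻¹ * (ζ y)⁻¹
        rw [map_mul, mul_inv_rev, hab] }
  have hββ : β * β = ζ * ζ := by
    ext x
    show (ζ ((ζ x)⁻¹))⁻¹ = ζ (ζ x)
    rw [map_inv, inv_inv]
  have hβn : β ^ (2 * n) = 1 := by
    rw [pow_mul, pow_two, hββ, ← pow_two, ← pow_mul, mul_comm, pow_mul, hζn, one_pow]
  have hcop : (2 * n).Coprime p := by
    apply Nat.Coprime.mul_left _ hn
    rw [Nat.coprime_comm, Nat.Prime.coprime_iff_not_dvd hp.out]
    intro h2
    exact hp2 ((Nat.prime_dvd_prime_iff_eq hp.out Nat.prime_two).mp h2)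
  have hβ : ∀ x : X, β x * x⁻¹ ∈ frattini X := by
    intro x
    have e : β x * x⁻¹ = (ζ x * x)⁻¹ := by
      show (ζ x)⁻¹ * x⁻¹ = (ζ x * x)⁻¹
      rw [mul_inv_rev, hab]
    rw [e]; exact inv_mem (hζ x)
  have h1 := mulAut_eq_one_of_coprime_trivial_mod_frattini hX β (2 * n) hcop hβn hβ
  intro x
  have h2 : β x = x := by rw [h1]; rfl
  have h3 : (ζ x)⁻¹ = x := h2
  exact inv_eq_iff_eq_inv.mp h3

/-- A group embedding into a metacyclic group is metacyclic. -/
theorem isMetacyclic_of_injective {R X : Type*} [Group R] [Group X] (f : X →* R)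
    (hf : Function.Injective f)
    (hR : ∃ (N : Subgroup R) (_ : N.Normal), IsCyclic N ∧ IsCyclic (R ⧸ N)) :
    ∃ (N : Subgroup X) (_ : N.Normal), IsCyclic N ∧ IsCyclic (X ⧸ N) := by
  obtain ⟨N, hN, h1, h2⟩ := hR
  refine ⟨N.comap f, inferInstance, ?_, ?_⟩
  · let g : N.comap f →* N := (f.comp (N.comap f).subtype).codRestrict N (fun x => x.2)
    have hg : Function.Injective g := by
      intro x y hxy
      apply Subtype.ext
      apply hf
      exact congrArg Subtype.val hxy
    exact isCyclic_of_injective g hg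
  · let g : X ⧸ N.comap f →* R ⧸ N := QuotientGroup.map _ _ f le_rfl
    have hg : Function.Injective g := by
      rw [injective_iff_map_eq_one]
      intro q hq
      obtain ⟨x, rfl⟩ := QuotientGroup.mk_surjective q
      have e : g (QuotientGroup.mk x) = QuotientGroup.mk (f x) := QuotientGroup.map_mk _ _ _ _ _
      rw [e, QuotientGroup.eq_one_iff] at hq
      exact (QuotientGroup.eq_one_iff x).mpr hq
    exact isCyclic_of_injective g hg

end Cfsg.Agent.Lib.helper65
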