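/-
Statement S1351 (every maximal subgroup of a minimal simple group of odd order has a Hall
`κ(M)`-subgroup, and all of them are cyclic) reduced to the single fact `NoT3 G`: no maximal
subgroup has a prime in `κ(M) ∩ τ₃(M)` (Bender-Glauberman, Theorem 14.7(c): `κ(M) ⊆ τ₁(M)`).
-/
import Mathlib
import Cfsg.Agent.Lib.helper87.BG1430Asm
import Cfsg.Agent.Lib.helper89.BG1432

set_option autoImplicit false
open Cfsg

namespace Cfsg.Agent.Lib.helper65.BG1351

variable {G : Type*} [Group G]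

/-- "The `τ₃` case does not occur": no prime of `κ(M)` lies in `τ₃(M)`, for every maximal subgroup `M`. -/
def NoT3 (G : Type*) [Group G] : Prop :=
  ∀ M : Subgroup G, IsCoatom M → ∀ p ∈ kappa M, p ∉ tau3 M

/-- S1351 from `NoT3 G`. -/
theorem s1351_of_noT3 [Finite G] (hG : IsMinSimpleOddOrder G) (hno : NoT3 G)
    (M : Subgroup G) (hM : IsCoatom M) :
    (∃ K : Subgroup G, IsPiHallOf (kappa M) K M) ∧
      ∀ K : Subgroup G, IsPiHallOf (kappa M) K M → IsCyclic K := by
  obtain ⟨-, -, -, hsolv⟩ := id hG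
  refine ⟨Cfsg.Agent.Lib.helper89.BG1432.exists_hallOf (kappa M) M (hsolv M hM.1), ?_⟩
  intro K hK
  have hKK : IsPiHallOf (tau1 M) K K := by
    refine ⟨le_refl _, ?_, ?_⟩
    · intro p hp hdvd
      have hκ : p ∈ kappa M := hK.2.1 p hp hdvd
      have h3 : p ∉ tau3 M := hno M hM p hκ
      have hr : PRankLE p 1 M := Cfsg.Agent.Lib.helper87.BG142.prankLE_one_of_kappa M hκ
      obtain ⟨hpp, hpM, hpσ, -⟩ := hκ
      by_cases hd : p ∣ Nat.card ↥⁅M, M⁆
      · exact absurd ⟨hpp, hpσ, hd, hr⟩ h3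
      · exact ⟨hpp, hpσ, hpM, hd, hr⟩
    · intro p hp _ hdvd
      rw [Subgroup.relIndex_self] at hdvd
      exact hp.one_lt.ne' (Nat.dvd_one.mp hdvd)
  exact Cfsg.Agent.Lib.helper8.bg_tau1_hall_cyclic hG M K hK.1 K hKK

end Cfsg.Agent.Lib.helper65.BG1351
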