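/-
The "τ₃ case" of Bender-Glauberman Theorem 14.2 does not occur (B-G 14.7(c): `κ(M) ⊆ τ₁(M)`),
reduced to the family count.

Setting (T3): `M` maximal with a prime in `κ(M) ∩ τ₃(M)`; then (`T3Hyp M`) every complement `E` of
`M_σ` in `M` is a (nonabelian) Hall `κ(M)`-subgroup.  For a subgroup `X ≤ E` of prime order and a
maximal subgroup `N ≥ N_G(X)` the pair lemma (pieces PA, PB of `tools/S1366_Skel.lean.txt`, taken here
as the hypotheses `HPA G`, `HPB G` of helper29.BG1366Asm) shows that `N` is "of type P₁" (`P1 N`): otherwise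
Lemma P (helper27) makes the Hall `κ(N)`-subgroup `K' ≥ K*` of prime order, so `K' = K*`,
`E ≤ N_σ`, and S1429 makes `N_σ` nilpotent, so `E` is nilpotent, hence abelian (S1420).
-/
import Mathlib
import Cfsg.Agent.S1429
import Cfsg.Agent.S1430
import Cfsg.Agent.S1420
import Cfsg.Agent.S1350
import Cfsg.Agent.Lib.helper87.BG1430Asm
import Cfsg.Agent.Lib.helper27.BGKPrime
import Cfsg.Agent.Lib.helper25.BG1367
import Cfsg.Agent.Lib.helper32.BGT3A
import Cfsg.Agent.Lib.helper10.BG1369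
import Cfsg.Agent.Lib.helper60.BGCentU
import Cfsg.Agent.Lib.helper69.BGKappaA
import Cfsg.Agent.Lib.lead.Hall
import Cfsg.Agent.Lib.helper29.BG1366Fam
import Cfsg.Agent.Lib.helper8.BGT3Main
import Cfsg.Agent.Lib.helper67.BGT3KA
import Cfsg.Agent.Lib.helper65.BG1351

set_option autoImplicit false
open Cfsg

namespace Cfsg.Agent.Lib.helper65.BGT3Ex

open Cfsg.Agent.Lib.helper87.BG142 Cfsg.Agent.Lib.helper29.BG1366

universe u

variable {G : Type u} [Group G]

theorem comm_le_self (M : Subgroup G) : ⁅M, M⁆ ≤ M :=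
  Subgroup.commutator_le.mpr fun a ha b hb =>
    M.mul_mem (M.mul_mem (M.mul_mem ha hb) (M.inv_mem ha)) (M.inv_mem hb)

/-- a prime of `M` outside `σ(M)` divides the order of every complement of `M_σ`. -/
theorem dvd_card_compl [Finite G] (hG : IsMinSimpleOddOrder G) (M : Subgroup G) (hM : IsCoatom M)
    (E : Subgroup G) (hE : IsComplIn E (sigmaCore M) M) (q : ℕ) (hq : q.Prime)
    (hqM : q ∣ Nat.card M) (hqσ : q ∉ sigma M) : q ∣ Nat.card E := by
  have hcard := Cfsg.Agent.Lib.helper60.BGCentU.card_of_isComplIn hE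
  rw [← hcard] at hqM
  rcases (Nat.Prime.dvd_mul hq).mp hqM with h | h
  · exact h
  · exact absurd ((Cfsg.Agent.S1350.result hG M hM).1.2.1 q hq h) hqσ

/-- (T3) a complement of `M_σ` is a Hall `κ(M)`-subgroup of `M`. -/
theorem t3_hall_kappa [Finite G] (hG : IsMinSimpleOddOrder G) (M : Subgroup G) (hM : IsCoatom M)
    (hT3 : T3Hyp M) (E : Subgroup G) (hE : IsComplIn E (sigmaCore M) M) :
    IsPiHallOf (kappa M) E M := by
  refine ⟨hE.1, (hT3 E hE).1, ?_⟩
  intro p hp hpκ hdvd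
  have h1 := Cfsg.Agent.Lib.helper60.BGCentU.card_of_isComplIn hE
  have h2 := Cfsg.Agent.Lib.helper69.bgk_card_mul_relIndex hE.1
  have hpos : 0 < Nat.card E := Nat.card_pos
  have h3 : E.relIndex M = Nat.card (sigmaCore M) := by
    have : Nat.card E * E.relIndex M = Nat.card E * Nat.card (sigmaCore M) := by rw [h1, h2]
    exact Nat.eq_of_mul_eq_mul_left hpos this
  rw [h3] at hdvd
  exact hpκ.2.2.1 ((Cfsg.Agent.S1350.result hG M hM).1.2.1 p hp hdvd)

/-- (T3) `M` is of type P₁. -/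
theorem t3_P1 [Finite G] (hG : IsMinSimpleOddOrder G) (M : Subgroup G) (hM : IsCoatom M)
    (hT3 : T3Hyp M) (E : Subgroup G) (hE : IsComplIn E (sigmaCore M) M) : P1 M := by
  intro q hq hqM hqσ
  exact (hT3 E hE).1 q hq (dvd_card_compl hG M hM E hE q hq hqM hqσ)

/-- A complement of `M_σ` is not abelian when `τ₃(M)` is nonempty. -/
theorem t3_not_comm [Finite G] (hG : IsMinSimpleOddOrder G) (M : Subgroup G) (hM : IsCoatom M)
    (E : Subgroup G) (hE : IsComplIn E (sigmaCore M) M) (r : ℕ) (hr : r ∈ tau3 M) :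
    ¬ IsMulCommutative E := by
  intro hc
  obtain ⟨hrp, hrσ, hrd, hrk⟩ := hr
  have hrM : r ∣ Nat.card M := hrd.trans (Subgroup.card_dvd_of_le (comm_le_self M))
  have hrE : r ∣ Nat.card E := dvd_card_compl hG M hM E hE r hrp hrM hrσ
  obtain ⟨E₃, hE₃, -, hE₃c, -, -⟩ := Cfsg.Agent.Lib.helper32.BGT3.t3_hall hG M hM E hE
  have hcomm : ⁅E, E⁆ = ⊥ := by
    rw [Subgroup.commutator_eq_bot_iff_le_centralizer]
    intro a ha
    rw [Subgroup.mem_centralizer_iff]
    intro b hb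
    exact congrArg Subtype.val (hc.is_comm.comm ⟨b, hb⟩ ⟨a, ha⟩)
  have hE₃bot : E₃ = ⊥ := by
    rw [hcomm] at hE₃c
    exact le_bot_iff.mp hE₃c
  have h2 := Cfsg.Agent.Lib.helper69.bgk_card_mul_relIndex hE₃.1
  rw [hE₃bot, Subgroup.card_bot, one_mul] at h2
  have h3 : ¬ r ∣ E₃.relIndex E := hE₃.2.2 r hrp ⟨hrp, hrσ, hrd, hrk⟩
  rw [hE₃bot, h2] at h3
  exact h3 hrE

/-- (T3) every maximal subgroup `N ≥ N_G(X)`, `X ≤ E` of prime order, is of type P₁. -/
theorem t3_P1_partner [Finite G] (hG : IsMinSimpleOddOrder G) (hA : HPA G) (hB : HPB G)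
    (M : Subgroup G) (hM : IsCoatom M) (hT3 : T3Hyp M) (E : Subgroup G)
    (hE : IsComplIn E (sigmaCore M) M) (r : ℕ) (hr : r ∈ tau3 M)
    (X : Subgroup G) (hXE : X ≤ E) (hXp : (Nat.card X).Prime)
    (N : Subgroup G) (hN : IsCoatom N) (hXN : Subgroup.normalizer (X : Set G) ≤ N) : P1 N := by
  by_contra hn
  have hn' := hn
  unfold P1 at hn'
  push Not at hn'
  obtain ⟨q, hq, hqN, hqσ, hqκ⟩ := hn'
  obtain ⟨-, -, -, hsolv⟩ := id hG
  have h30 : Cfsg.Agent.Lib.helper69.H1430 G :=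
    fun M hM K hK hK1 => Cfsg.Agent.S1430.result hG M hM K hK hK1
  have hK : IsPiHallOf (kappa M) E M := t3_hall_kappa hG M hM hT3 E hE
  have hK1 : E ≠ ⊥ := by
    intro h
    rw [h] at hXE
    have : X = ⊥ := le_bot_iff.mp hXE
    rw [this, Subgroup.card_bot] at hXp
    exact Nat.not_prime_one hXp
  obtain ⟨hnc, hσ, hXσ, hZN, hκN⟩ := hA M hM E hK hK1 X hXE hXp N hN hXN
  have hNM : N ≠ M := by
    intro h
    apply hnc 1
    rw [h]
    ext x
    simp
  have hKs1 : sigmaCore M ⊓ Subgroup.centralizer (E : Set G) ≠ ⊥ :=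
    Cfsg.Agent.Lib.helper25.BG1367.ks_ne_bot h30 M hM E hK hK1
  obtain ⟨K', hK', hKsK'⟩ := exists_hallOf_ge (kappa N) N (hsolv N hN.1)
    (sigmaCore M ⊓ Subgroup.centralizer (E : Set G)) (le_sup_right.trans hZN) hκN
  have hK'1 : K' ≠ ⊥ := fun h => hKs1 (le_bot_iff.mp (h ▸ hKsK'))
  obtain ⟨hZ, hKs', -⟩ := hB M hM E hK hK1 X hXE hXp N hN hXN hNM hσ hXσ hZN K' hK' hKsK'
  -- Lemma P: `|K'|` is prime, so `K' = K*`
  have hprime : (Nat.card K').Prime :=
    Cfsg.Agent.Lib.helper27.BGKP.kappa_card_prime_of_prime hG h30 N hN K' hK' hK'1 q hq hqN hqσ hqκ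
  have hKseq : sigmaCore M ⊓ Subgroup.centralizer (E : Set G) = K' := by
    apply Subgroup.eq_of_le_of_card_ge hKsK'
    have hdvd := Subgroup.card_dvd_of_le hKsK'
    rcases (Nat.dvd_prime hprime).mp hdvd with h | h
    · exact absurd (Subgroup.card_eq_one.mp h) hKs1
    · exact le_of_eq h.symm
  -- hence `E ≤ N_σ`
  have hEN : E ≤ sigmaCore N := by
    intro k hk
    have hk' : k ∈ K' ⊔ (sigmaCore N ⊓ Subgroup.centralizer (K' : Set G)) := by
      rw [hZ]; exact Subgroup.mem_sup_left hk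
    rw [hKs', ← hKseq] at hk'
    have hc : ∀ a ∈ sigmaCore M ⊓ Subgroup.centralizer (E : Set G), ∀ b ∈ E ⊓ sigmaCore N,
        a * b = b * a := by
      intro a ha b hb
      exact ((Subgroup.mem_centralizer_iff.mp (Subgroup.mem_inf.mp ha).2) b
        (Subgroup.mem_inf.mp hb).1).symm
    obtain ⟨a, ha, b, hb, hkab⟩ := Cfsg.Agent.Lib.helper10.BG1369.mem_sup_of_comm hc hk'
    have haE : a ∈ E := by
      have : a = k * b⁻¹ := by rw [hkab]; group
      rw [this]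
      exact E.mul_mem hk (E.inv_mem (Subgroup.mem_inf.mp hb).1)
    have ha1 : a = 1 := by
      have : a ∈ E ⊓ sigmaCore M := Subgroup.mem_inf.mpr ⟨haE, (Subgroup.mem_inf.mp ha).1⟩
      rw [hE.2.2.1] at this
      exact Subgroup.mem_bot.mp this
    rw [hkab, ha1, one_mul]
    exact (Subgroup.mem_inf.mp hb).2
  -- S1429: `N_σ` is nilpotent, so `E` is nilpotent, hence abelian by S1420
  have : Fact q.Prime := ⟨hq⟩
  obtain ⟨S⟩ : Nonempty (Sylow q N) := inferInstance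
  have hnil : Group.IsNilpotent ↥(sigmaCore N) :=
    (Cfsg.Agent.S1429.result hG N hN hn q hqN
      (fun h => Or.elim h hqσ hqκ) S).2.2
  have hEnil : Group.IsNilpotent ↥E := by
    haveI := hnil
    have h1 : Group.IsNilpotent ↥(E.subgroupOf (sigmaCore N)) := inferInstance
    exact Group.nilpotent_of_mulEquiv (Subgroup.subgroupOfEquivOfLe hEN)
  have hEc : IsMulCommutative E :=
    (Cfsg.Agent.S1420.result hG M hM E hE).1 E hE.1 hEnil
      (fun p hp hdvd => ((hT3 E hE).1 p hp hdvd).2.2.1)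
  exact t3_not_comm hG M hM E hE r hr hEc

/-- (T3) the structure hypothesis `T3Hyp M` (landed with S1430). -/
theorem t3Hyp [Finite G] (hG : IsMinSimpleOddOrder G) (M : Subgroup G) (hM : IsCoatom M)
    (h : ∃ p ∈ kappa M, p ∈ tau3 M) : T3Hyp M := by
  have hKA : Cfsg.Agent.Lib.helper8.BGT3.HKillA G :=
    Cfsg.Agent.Lib.helper67.BGT3.t3_killA hG (Cfsg.Agent.Lib.helper8.BGT3.t3_main_norm hG)
      (Cfsg.Agent.Lib.helper8.BGT3.t3_main_H hG) (Cfsg.Agent.Lib.helper8.BGT3.t3_main_cross hG)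
      (Cfsg.Agent.Lib.helper8.BGT3.t3_main_killC hG) (Cfsg.Agent.Lib.helper8.BGT3.t3_main_sigdisj hG)
  exact Cfsg.Agent.Lib.helper8.BGT3.t3Hyp_of_killA hG hKA M hM h

/-- **No prime of `κ(M)` lies in `τ₃(M)`** (B-G 14.7(c)), from the pair lemma and the family count. -/
theorem noT3_of [Finite G] (hG : IsMinSimpleOddOrder G) (hA : HPA G) (hB : HPB G)
    (hF : HFam G) : Cfsg.Agent.Lib.helper65.BG1351.NoT3 G := by
  intro M hM p hpκ hpτ
  have hT3 : T3Hyp M := t3Hyp hG M hM ⟨p, hpκ, hpτ⟩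
  obtain ⟨E, hE⟩ := Cfsg.Agent.Lib.helper60.BGSylU.exists_compl_sigmaCore hG M hM
  have hK := t3_hall_kappa hG M hM hT3 E hE
  have hpE : p ∣ Nat.card E := dvd_card_compl hG M hM E hE p hpκ.1 hpκ.2.1 hpκ.2.2.1
  have hK1 : E ≠ ⊥ := by
    intro h
    rw [h, Subgroup.card_bot] at hpE
    exact hpκ.1.one_lt.ne' (Nat.dvd_one.mp hpE)
  exact family_asm hG hA hB hF M hM E hK hK1 (t3_P1 hG M hM hT3 E hE)
    (fun X hXE hXp N hN hXN => t3_P1_partner hG hA hB M hM hT3 E hE p hpτ X hXE hXp N hN hXN)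

/-- **S1351** from the pair lemma (PA, PB) and the family count (FAM). -/
theorem s1351_of [Finite G] (hG : IsMinSimpleOddOrder G) (hA : HPA G) (hB : HPB G)
    (hF : HFam G) (M : Subgroup G) (hM : IsCoatom M) :
    (∃ K : Subgroup G, IsPiHallOf (kappa M) K M) ∧
      ∀ K : Subgroup G, IsPiHallOf (kappa M) K M → IsCyclic K :=
  Cfsg.Agent.Lib.helper65.BG1351.s1351_of_noT3 hG (noT3_of hG hA hB hF) M hM

end Cfsg.Agent.Lib.helper65.BGT3Ex
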