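import Mathlib
import Cfsg.Agent.Lib.helper62.FrobExtract
import Cfsg.Agent.Lib.helper62.FrobSolvA
import Cfsg.Agent.Lib.helper62.LinRegQ8A

/-!
S3359 / S0686 piece O `s0686_core` (helper65): the non-perfect case of S0686.
-/

set_option autoImplicit false

namespace Cfsg.Agent.Lib.helper65

open Cfsg.Agent.Lib.helper62.FrobExtract
open scoped commutatorElement

universe u v

/-- PIECE O -/
theorem s0686_core {H : Type u} [Group H] [Finite H] (hfpf : HasFpfMod.{u, v} H)
    (A : Subgroup H) (hAn : A.Normal) (hAc : IsMulCommutative A)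
    (hAmax : ∀ B : Subgroup H, B.Normal → IsMulCommutative B → A ≤ B → B = A)
    (N : Subgroup H) (hNn : N.Normal) (hNle : N ≤ Subgroup.centralizer (A : Set H))
    (hNna : ¬ IsMulCommutative N)
    (hNmin : ∀ M : Subgroup H, M.Normal → M ≤ N → ¬ IsMulCommutative M → M = N)
    (hnp : commutator N ≠ ⊤) : Nonempty (N ≃* QuaternionGroup 2) := by
  classical
  have hDn : (⁅N, N⁆ : Subgroup H).Normal := inferInstance
  have hDle : ⁅N, N⁆ ≤ N := Subgroup.commutator_le_left N N
  have hDne : ⁅N, N⁆ ≠ N := by
    intro h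
    apply hnp
    apply Subgroup.map_injective N.subtype_injective
    rw [Subgroup.map_subtype_commutator, h, ← MonoidHom.range_eq_map, Subgroup.range_subtype]
  have hDc : IsMulCommutative (⁅N, N⁆ : Subgroup H) := by
    by_contra hD
    exact hDne (hNmin _ hDn hDle hD)
  have hAN : ∀ a ∈ A, ∀ n ∈ N, a * n = n * a := by
    intro a ha n hn
    have := hNle hn
    rw [Subgroup.mem_centralizer_iff] at this
    exact this a ha
  -- `A ⊔ ⁅N, N⁆` is a normal abelian subgroup
  have hS : ∀ x ∈ (A : Set H) ∪ (⁅N, N⁆ : Subgroup H), ∀ y ∈ (A : Set H) ∪ (⁅N, N⁆ : Subgroup H),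
      x * y = y * x := by
    rintro x (hx | hx) y (hy | hy)
    · exact setLike_mul_comm (s := A) hx hy
    · exact hAN x hx y (hDle hy)
    · exact (hAN y hy x (hDle hx)).symm
    · exact setLike_mul_comm (s := (⁅N, N⁆ : Subgroup H)) hx hy
  have hsupeq : A ⊔ ⁅N, N⁆ = Subgroup.closure ((A : Set H) ∪ (⁅N, N⁆ : Subgroup H)) := by
    rw [Subgroup.closure_union, Subgroup.closure_eq, Subgroup.closure_eq]
  have hsup : IsMulCommutative (A ⊔ ⁅N, N⁆ : Subgroup H) := by
    rw [hsupeq]
    exact Subgroup.isMulCommutative_closure hS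
  have hDA : ⁅N, N⁆ ≤ A := by
    have h1 := hAmax (A ⊔ ⁅N, N⁆) inferInstance hsup le_sup_left
    rw [← h1]
    exact le_sup_right
  -- commutators of `N` are central in `N`
  have hcomm_center : commutator N ≤ Subgroup.center N := by
    intro x hx
    have hxA : (x : H) ∈ A := by
      apply hDA
      rw [← Subgroup.map_subtype_commutator]
      exact Subgroup.mem_map_of_mem _ hx
    rw [Subgroup.mem_center_iff]
    intro y
    exact Subtype.ext (hAN x hxA y y.2).symm
  have hnil : Group.IsNilpotent N :=
    Subgroup.isNilpotent_of_ker_le_center Abelianization.of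
      (by rw [Abelianization.ker_of]; exact hcomm_center)
  have tfae := Group.isNilpotent_of_finite_tfae (G := N)
  have h4 : ∀ (p : ℕ), Fact (Nat.Prime p) → ∀ (P : Sylow p N), (P : Subgroup N).Normal :=
    (tfae.out 0 3).mp hnil
  obtain ⟨e⟩ := (tfae.out 0 4).mp hnil
  have hex : ∃ (p : (Nat.card N).primeFactors) (P : Sylow p N),
      ¬ ∀ x y : (P : Subgroup N), x * y = y * x := by
    by_contra hall
    push Not at hall
    apply hNna
    rw [isMulCommutative_iff]
    intro x y
    have h1 : e.symm x * e.symm y = e.symm y * e.symm x := by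
      funext p P
      exact hall p P _ _
    have h2 := congrArg e h1
    rw [map_mul, map_mul, e.apply_symm_apply, e.apply_symm_apply] at h2
    exact h2
  obtain ⟨p, P, hPna⟩ := hex
  have hpP : Fact (p : ℕ).Prime := ⟨Nat.prime_of_mem_primeFactors p.2⟩
  have hfpfP : HasFpfMod.{u, v} (P : Subgroup N) :=
    hfpf.comap (N.subtype.comp (P : Subgroup N).subtype)
      ((Subgroup.subtype_injective _).comp (Subgroup.subtype_injective _))
  have key : ∀ x y z : (P : Subgroup N), ⁅x, y⁆ * z = z * ⁅x, y⁆ := by
    intro x y z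
    have h1 : ⁅(x : N), (y : N)⁆ ∈ Subgroup.center N :=
      hcomm_center (Subgroup.commutator_mem_commutator (Subgroup.mem_top _) (Subgroup.mem_top _))
    apply Subtype.ext
    exact ((Subgroup.mem_center_iff.mp h1) z).symm
  -- the Sylow subgroup is all of `N`
  have hPn : (P : Subgroup N).Normal := h4 p hpP P
  have hPc : (P : Subgroup N).Characteristic := Sylow.characteristic_of_normal P hPn
  have hP'n : ((P : Subgroup N).map N.subtype).Normal := ConjAct.normal_of_characteristic_of_normal
  have hP'le : (P : Subgroup N).map N.subtype ≤ N := by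
    rintro _ ⟨x, _, rfl⟩
    exact x.2
  have eP' : (P : Subgroup N) ≃* ((P : Subgroup N).map N.subtype) :=
    (P : Subgroup N).equivMapOfInjective N.subtype (Subgroup.subtype_injective _)
  have hP'na : ¬ IsMulCommutative ((P : Subgroup N).map N.subtype) := by
    intro hc
    apply hPna
    intro x y
    apply eP'.injective
    rw [map_mul, map_mul]
    exact (isMulCommutative_iff.mp hc) _ _
  have hP'N : (P : Subgroup N).map N.subtype = N := hNmin _ hP'n hP'le hP'na
  have hPtop : (P : Subgroup N) = ⊤ := by
    apply Subgroup.map_injective N.subtype_injective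
    rw [hP'N, ← MonoidHom.range_eq_map, Subgroup.range_subtype]
  have eN : (P : Subgroup N) ≃* N := (MulEquiv.subgroupCongr hPtop).trans Subgroup.topEquiv
  rcases Cfsg.Agent.Lib.helper62.LinRegQ8.fpf_pgroup_cyclic_or_quat hfpfP (p : ℕ) P.isPGroup' with
    hcyc | ⟨hp2, n, ⟨eQ⟩⟩
  · exact absurd (Cfsg.Agent.Lib.helper62.LinRegQ8.comm_of_isCyclic hcyc) hPna
  · have hn : n ≤ 1 := Cfsg.Agent.Lib.helper62.LinRegQ8.quat_class_two (by
      intro u v w
      have h1 := key (eQ.symm u) (eQ.symm v) (eQ.symm w)
      have h2 := congrArg eQ h1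
      simpa [map_commutatorElement] using h2)
    interval_cases n
    · exfalso
      have e1 : (P : Subgroup N) ≃* QuaternionGroup 1 := by simpa using eQ
      have hcyc : IsCyclic (P : Subgroup N) := by
        have := QuaternionGroup.quaternionGroup_one_isCyclic
        exact isCyclic_of_injective e1.toMonoidHom e1.injective
      exact hPna (Cfsg.Agent.Lib.helper62.LinRegQ8.comm_of_isCyclic hcyc)
    · have e2 : (P : Subgroup N) ≃* QuaternionGroup 2 := by simpa using eQ
      exact ⟨eN.symm.trans e2⟩

end Cfsg.Agent.Lib.helper65
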