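import Mathlib
import Cfsg.Agent.Lib.helper26.S4409Defs

set_option autoImplicit false

namespace Cfsg.Agent.Lib.helper26.S4409

variable {G : Type*} [Group G]

theorem maxc (X H M : Subgroup G) (hH : H ≤ Subgroup.normalizer (X : Set G))
    (hMax : IsMaxInv X H M) (hc : X ≤ Subgroup.centralizer (M : Set G))
    (hab : ¬ IsMulCommutative ↥X) : X ⊓ Subgroup.centralizer (X : Set G) = M := by
  obtain ⟨hMX, hMne, hXN, hHN, hmax⟩ := hMax
  have hM_le : M ≤ X ⊓ Subgroup.centralizer (X : Set G) := by
    intro m hm
    refine ⟨hMX hm, ?_⟩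
    show m ∈ Subgroup.centralizer (X : Set G)
    rw [Subgroup.mem_centralizer_iff]
    intro x hx
    have := Subgroup.mem_centralizer_iff.mp (hc hx) m hm
    exact this.symm
  have hXZ : X ≤ Subgroup.normalizer ((X ⊓ Subgroup.centralizer (X : Set G) : Subgroup G) : Set G) := by
    intro x hx
    rw [Subgroup.mem_normalizer_iff]
    intro z
    constructor
    · intro hz
      have hzc := Subgroup.mem_centralizer_iff.mp hz.2 x hx
      have : x * z * x⁻¹ = z := by rw [hzc, mul_inv_cancel_right]
      rw [this]; exact hz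
    · intro hz
      have hzX : z ∈ X := by
        have := X.mul_mem (X.mul_mem (X.inv_mem hx) hz.1) hx
        simpa [mul_assoc] using this
      have hzc := Subgroup.mem_centralizer_iff.mp hz.2 x hx
      have h1 : x * z * x⁻¹ = z := by
        have h2 : x * (x * z * x⁻¹) = x * z := by
          rw [hzc]; group
        exact mul_left_cancel h2
      rw [h1] at hz; exact hz
  have hHZ : H ≤ Subgroup.normalizer ((X ⊓ Subgroup.centralizer (X : Set G) : Subgroup G) : Set G) := by
    intro h hh
    have hn := hH hh
    have hn' := Subgroup.mem_normalizer_iff.mp hn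
    have hninv : h⁻¹ ∈ Subgroup.normalizer (X : Set G) := (Subgroup.normalizer (X : Set G)).inv_mem hn
    have hninv' := Subgroup.mem_normalizer_iff.mp hninv
    have key : ∀ g : G, g ∈ Subgroup.normalizer (X : Set G) → ∀ z,
        z ∈ X ⊓ Subgroup.centralizer (X : Set G) →
        g * z * g⁻¹ ∈ X ⊓ Subgroup.centralizer (X : Set G) := by
      intro g hg z hz
      have hg' := Subgroup.mem_normalizer_iff.mp hg
      have hginv : g⁻¹ ∈ Subgroup.normalizer (X : Set G) := (Subgroup.normalizer (X : Set G)).inv_mem hg
      have hginv' := Subgroup.mem_normalizer_iff.mp hginv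
      refine ⟨(hg' z).mp hz.1, ?_⟩
      show g * z * g⁻¹ ∈ Subgroup.centralizer (X : Set G)
      rw [Subgroup.mem_centralizer_iff]
      intro x hx
      have hx' : g⁻¹ * x * g ∈ X := by
        have := (hginv' x).mp hx
        simpa using this
      have hzc := Subgroup.mem_centralizer_iff.mp hz.2 _ hx'
      calc x * (g * z * g⁻¹) = g * ((g⁻¹ * x * g) * z) * g⁻¹ := by group
        _ = g * (z * (g⁻¹ * x * g)) * g⁻¹ := by rw [hzc]
        _ = g * z * g⁻¹ * x := by group
    rw [Subgroup.mem_normalizer_iff]
    intro z
    constructor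
    · intro hz; exact key h hn z hz
    · intro hz
      have := key h⁻¹ hninv _ hz
      have e : h⁻¹ * (h * z * h⁻¹) * h⁻¹⁻¹ = z := by group
      rw [e] at this; exact this
  rcases hmax (X ⊓ Subgroup.centralizer (X : Set G)) hM_le inf_le_left hXZ hHZ with h | h
  · exact h
  · exfalso
    apply hab
    have hle : X ≤ Subgroup.centralizer (X : Set G) := by
      intro x hx
      have : x ∈ X ⊓ Subgroup.centralizer (X : Set G) := by rw [h]; exact hx
      exact this.2
    refine ⟨⟨fun a b => ?_⟩⟩
    have := Subgroup.mem_centralizer_iff.mp (hle b.2) a.1 a.2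
    exact Subtype.ext this
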