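import Mathlib

/-!
# A dichotomy for groups acting on an elementary abelian group of order dividing `p²`

`gl2_key`: let `W` act on `V` (abelian of exponent `p`, order dividing `p²`), `N` a normal subgroup
of `W` and `t ∈ N` a `p`-element. Then either `N` contains an element acting as inversion on `V`
(and `|V| = p²`), or there is a `W`-invariant subgroup `L ≤ V` such that `t` acts trivially on `L`
and on `V / L`.
-/

set_option autoImplicit false

namespace Cfsg.Agent.Lib.helper65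

open Subgroup

theorem exists_pow_of_mem_zpowers {G : Type*} [Group G] [Finite G] {e x : G}
    (h : x ∈ zpowers e) : ∃ i : ℕ, x = e ^ i := by
  have hfin : IsOfFinOrder e := isOfFinOrder_of_finite _
  obtain ⟨i, hi⟩ := (hfin.mem_powers_iff_mem_zpowers).mpr h
  exact ⟨i, hi.symm⟩

section GL2

variable {V : Type*} [CommGroup V] [Finite V] {p : ℕ} [hp : Fact p.Prime]

/-- Two independent elements generate a group of order `p²` and exponent `p`. -/
theorem exists_pow_mul_pow_of_card (hexp : ∀ v : V, v ^ p = 1) (hcard : Nat.card V = p ^ 2)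
    {e₁ e₂ : V} (h1 : e₁ ≠ 1) (h2 : e₂ ∉ zpowers e₁) (v : V) :
    ∃ i j : ℕ, v = e₁ ^ i * e₂ ^ j := by
  have ho : orderOf e₁ = p := orderOf_eq_prime (hexp e₁) h1
  have hc1 : Nat.card (zpowers e₁) = p := by rw [Nat.card_zpowers, ho]
  have hle : zpowers e₁ ≤ closure ({e₁, e₂} : Set V) := by
    rw [zpowers_le]
    exact subset_closure (by simp)
  have hd1 : p ∣ Nat.card (closure ({e₁, e₂} : Set V)) := by
    rw [← hc1]; exact Subgroup.card_dvd_of_le hle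
  have hd2 : Nat.card (closure ({e₁, e₂} : Set V)) ∣ p ^ 2 := by
    rw [← hcard]; exact Subgroup.card_subgroup_dvd_card _
  have hne : Nat.card (closure ({e₁, e₂} : Set V)) ≠ p := by
    intro h
    apply h2
    have : zpowers e₁ = closure ({e₁, e₂} : Set V) :=
      Subgroup.eq_of_le_of_card_ge hle (by rw [h, hc1])
    rw [this]
    exact subset_closure (by simp)
  have hc2 : Nat.card (closure ({e₁, e₂} : Set V)) = p ^ 2 := by
    obtain ⟨j, hj, hj'⟩ := (Nat.dvd_prime_pow hp.out).mp hd2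
    interval_cases j
    · rw [hj', pow_zero] at hd1; exact absurd (Nat.dvd_one.mp hd1) hp.out.one_lt.ne'
    · rw [pow_one] at hj'; exact absurd hj' hne
    · exact hj'
  have htop : closure ({e₁, e₂} : Set V) = ⊤ :=
    Subgroup.eq_top_of_card_eq _ (by rw [hc2, hcard])
  have hv : v ∈ closure ({e₁, e₂} : Set V) := by rw [htop]; trivial
  obtain ⟨m, n, hmn⟩ := Subgroup.mem_closure_pair.mp hv
  obtain ⟨i, hi⟩ := exists_pow_of_mem_zpowers (zpow_mem_zpowers e₁ m)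
  obtain ⟨j, hj⟩ := exists_pow_of_mem_zpowers (zpow_mem_zpowers e₂ n)
  exact ⟨i, j, by rw [← hmn, hi, hj]⟩

/-- An automorphism of `p`-power order fixing `e ≠ 1` acts trivially on `V / ⟨e⟩`. -/
theorem mul_inv_mem_zpowers_of_fixed (hexp : ∀ v : V, v ^ p = 1) (hcard : Nat.card V = p ^ 2)
    (τ : MulAut V) (k : ℕ) (hτ : τ ^ p ^ k = 1) {e : V} (he1 : e ≠ 1) (he : τ e = e) (v : V) :
    τ v * v⁻¹ ∈ zpowers e := by
  have ho : orderOf e = p := orderOf_eq_prime (hexp e) he1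
  have hc1 : Nat.card (zpowers e) = p := by rw [Nat.card_zpowers, ho]
  have hmap : (zpowers e).map (τ : V →* V) = zpowers e := by
    rw [MonoidHom.map_zpowers]
    show zpowers (τ e) = zpowers e
    rw [he]
  let τ' : MulAut (V ⧸ zpowers e) := QuotientGroup.congr (zpowers e) (zpowers e) τ hmap
  have hτ'mk : ∀ x : V, τ' (QuotientGroup.mk x) = QuotientGroup.mk (τ x) := fun x => rfl
  have hcq : Nat.card (V ⧸ zpowers e) = p := by
    have h := Subgroup.card_eq_card_quotient_mul_card_subgroup (zpowers e)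
    rw [hcard, hc1, pow_two] at h
    exact (Nat.eq_of_mul_eq_mul_right hp.out.pos h).symm
  have : IsCyclic (V ⧸ zpowers e) := isCyclic_of_prime_card hcq
  have hpow : ∀ n : ℕ, ∀ x : V,
      (τ' ^ n) (QuotientGroup.mk x) = QuotientGroup.mk ((τ ^ n) x) := by
    intro n
    induction n with
    | zero => intro x; simp
    | succ n ih =>
      intro x
      rw [pow_succ, MulAut.mul_apply, hτ'mk, ih, pow_succ, MulAut.mul_apply]
  have hτ'k : τ' ^ p ^ k = 1 := by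
    ext q
    obtain ⟨x, rfl⟩ := QuotientGroup.mk_surjective q
    rw [hpow, hτ]; rfl
  have hcard' : Nat.card (MulAut (V ⧸ zpowers e)) = p - 1 := by
    rw [IsCyclic.card_mulAut, hcq, Nat.totient_prime hp.out]
  have h1 : orderOf τ' ∣ p - 1 := by rw [← hcard']; exact orderOf_dvd_natCard τ'
  have h2 : orderOf τ' ∣ p ^ k := orderOf_dvd_of_pow_eq_one hτ'k
  have h3 : Nat.Coprime (p - 1) (p ^ k) := by
    apply Nat.Coprime.pow_right
    rw [Nat.coprime_comm, Nat.Prime.coprime_iff_not_dvd hp.out]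
    intro h
    have h4 := Nat.le_of_dvd (by have := hp.out.two_le; omega) h
    have := hp.out.two_le
    omega
  have h4 : orderOf τ' = 1 := Nat.eq_one_of_dvd_coprimes h3 h1 h2
  have h5 : τ' = 1 := orderOf_eq_one_iff.mp h4
  have h6 : (QuotientGroup.mk (τ v) : V ⧸ zpowers e) = QuotientGroup.mk v := by
    rw [← hτ'mk, h5]; rfl
  have h7 := QuotientGroup.eq.mp h6
  have h8 : τ v * v⁻¹ = ((τ v)⁻¹ * v)⁻¹ := by rw [mul_inv_rev, inv_inv, mul_comm]
  rw [h8]; exact inv_mem h7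

theorem gl2_key {W : Type*} [Group W] (hexp : ∀ v : V, v ^ p = 1) (hcard : Nat.card V ∣ p ^ 2)
    (ρ : W →* MulAut V) (N : Subgroup W) (hN : ∀ h : W, ∀ n ∈ N, h * n * h⁻¹ ∈ N)
    (t : W) (ht : t ∈ N) (k : ℕ) (htk : t ^ p ^ k = 1) :
    (∃ ζ ∈ N, (∀ v, ρ ζ v = v⁻¹) ∧ Nat.card V = p ^ 2) ∨
    (∃ L : Subgroup V, (∀ h : W, ∀ v ∈ L, ρ h v ∈ L) ∧ (∀ v ∈ L, ρ t v = v) ∧
      (∀ v, ρ t v * v⁻¹ ∈ L)) := by
  by_cases hfix : ∀ v, ρ t v = v
  · right
    refine ⟨⊥, ?_, ?_, ?_⟩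
    · intro h v hv; rw [Subgroup.mem_bot] at hv ⊢; rw [hv, map_one]
    · intro v _; exact hfix v
    · intro v; rw [hfix v, mul_inv_cancel]; exact Subgroup.one_mem _
  push Not at hfix
  obtain ⟨v₀, hv₀⟩ := hfix
  have hτk : (ρ t) ^ p ^ k = 1 := by rw [← map_pow, htk, map_one]
  have hPG : IsPGroup p (zpowers (ρ t)) := by
    rintro ⟨g, hg⟩
    obtain ⟨i, rfl⟩ := mem_zpowers_iff.mp hg
    refine ⟨k, Subtype.ext ?_⟩
    show ((ρ t) ^ i) ^ p ^ k = 1
    rw [← zpow_natCast, ← zpow_mul, mul_comm, zpow_mul, zpow_natCast, hτk, one_zpow]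
  have hV1 : Nat.card V ≠ 1 := by
    intro h
    have : Subsingleton V := (Nat.card_eq_one_iff_unique.mp h).1
    exact hv₀ (Subsingleton.elim _ _)
  have hpV : p ∣ Nat.card V := by
    obtain ⟨j, hj, hj'⟩ := (Nat.dvd_prime_pow hp.out).mp hcard
    rw [hj']
    rcases Nat.eq_zero_or_pos j with rfl | h0
    · rw [hj', pow_zero] at hV1; exact absurd rfl hV1
    · exact dvd_pow_self p (by omega)
  obtain ⟨e₁, he₁fix, he₁ne⟩ := hPG.exists_fixed_point_of_prime_dvd_card_of_fixed_point V hpV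
    (a := (1 : V)) (by intro g; exact smul_one g)
  have he₁ : ρ t e₁ = e₁ := he₁fix ⟨ρ t, mem_zpowers (ρ t)⟩
  have he₁1 : e₁ ≠ 1 := fun h => he₁ne h.symm
  have ho : orderOf e₁ = p := orderOf_eq_prime (hexp e₁) he₁1
  have hc1 : Nat.card (zpowers e₁) = p := by rw [Nat.card_zpowers, ho]
  have hfixL : ∀ v ∈ zpowers e₁, ρ t v = v := by
    intro v hv
    obtain ⟨i, rfl⟩ := mem_zpowers_iff.mp hv
    rw [map_zpow, he₁]
  have hv₀L : v₀ ∉ zpowers e₁ := fun h => hv₀ (hfixL v₀ h)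
  have hcardV : Nat.card V = p ^ 2 := by
    obtain ⟨j, hj, hj'⟩ := (Nat.dvd_prime_pow hp.out).mp hcard
    have hne : Nat.card V ≠ p := by
      intro h
      apply hv₀L
      have : zpowers e₁ = ⊤ := Subgroup.eq_top_of_card_eq _ (by rw [hc1, h])
      rw [this]; trivial
    interval_cases j
    · rw [hj', pow_zero] at hV1; exact absurd rfl hV1
    · rw [pow_one] at hj'; exact absurd hj' hne
    · exact hj'
  have hU := mul_inv_mem_zpowers_of_fixed hexp hcardV (ρ t) k hτk he₁1 he₁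
  by_cases hinv : ∀ h : W, ρ h e₁ ∈ zpowers e₁
  · right
    refine ⟨zpowers e₁, ?_, hfixL, hU⟩
    intro h v hv
    obtain ⟨i, rfl⟩ := mem_zpowers_iff.mp hv
    rw [map_zpow]
    exact zpow_mem (hinv h) i
  left
  push Not at hinv
  obtain ⟨h, hh⟩ := hinv
  obtain ⟨e₂, he₂⟩ : ∃ e₂ : V, e₂ = ρ h e₁ := ⟨_, rfl⟩
  rw [← he₂] at hh
  have he₂1 : e₂ ≠ 1 := by
    intro h1; apply hh; rw [h1]; exact one_mem _
  have ho2 : orderOf e₂ = p := orderOf_eq_prime (hexp e₂) he₂1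
  have he₁₂ : e₁ ∉ zpowers e₂ := by
    intro hmem
    apply hh
    have hle : zpowers e₁ ≤ zpowers e₂ := by rw [zpowers_le]; exact hmem
    have hc2 : Nat.card (zpowers e₂) = p := by rw [Nat.card_zpowers, ho2]
    have : zpowers e₁ = zpowers e₂ := Subgroup.eq_of_le_of_card_ge hle (by rw [hc1, hc2])
    rw [this]; exact mem_zpowers e₂
  obtain ⟨t₂, ht₂⟩ : ∃ t₂ : W, t₂ = h * t * h⁻¹ := ⟨_, rfl⟩
  have ht₂N : t₂ ∈ N := by rw [ht₂]; exact hN h t ht
  have ht₂k : (ρ t₂) ^ p ^ k = 1 := by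
    rw [← map_pow, ht₂, conj_pow, htk, mul_one, mul_inv_cancel, map_one]
  have ht₂e₂ : ρ t₂ e₂ = e₂ := by
    rw [ht₂, he₂, map_mul, map_mul, MulAut.mul_apply, MulAut.mul_apply, map_inv,
      MulAut.inv_apply_self, he₁]
  have hU₂ := mul_inv_mem_zpowers_of_fixed hexp hcardV (ρ t₂) k ht₂k he₂1 ht₂e₂
  obtain ⟨a, ha⟩ : ∃ a : ℕ, ρ t e₂ = e₂ * e₁ ^ a := by
    obtain ⟨a, ha⟩ := exists_pow_of_mem_zpowers (hU e₂)
    exact ⟨a, by rw [← ha]; simp [mul_comm]⟩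
  obtain ⟨c, hc⟩ : ∃ c : ℕ, ρ t₂ e₁ = e₁ * e₂ ^ c := by
    obtain ⟨c, hc⟩ := exists_pow_of_mem_zpowers (hU₂ e₁)
    exact ⟨c, by rw [← hc]; simp [mul_comm]⟩
  have hbasis := exists_pow_mul_pow_of_card hexp hcardV he₁1 hh
  -- `p ∤ a`
  have hpa : ¬ p ∣ a := by
    intro hd
    apply hv₀
    obtain ⟨i, j, rfl⟩ := hbasis v₀
    have h1 : e₁ ^ a = 1 := by
      rw [← ho] at hd; exact orderOf_dvd_iff_pow_eq_one.mp hd
    rw [h1, mul_one] at ha
    rw [map_mul, map_pow, map_pow, he₁, ha]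
  have hpc : ¬ p ∣ c := by
    intro hd
    apply hv₀
    have h1 : e₂ ^ c = 1 := by
      rw [← ho2] at hd; exact orderOf_dvd_iff_pow_eq_one.mp hd
    rw [h1, mul_one] at hc
    have h2 : ∀ v, ρ t₂ v = v := by
      intro v
      obtain ⟨i, j, rfl⟩ := hbasis v
      rw [map_mul, map_pow, map_pow, hc, ht₂e₂]
    have h3 : t = h⁻¹ * t₂ * h := by rw [ht₂]; group
    rw [h3, map_mul, map_mul, MulAut.mul_apply, MulAut.mul_apply, h2, map_inv,
      MulAut.inv_apply_self]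
  -- power formulas
  have hpow1 : ∀ n : ℕ, (ρ t ^ n) e₁ = e₁ ∧ (ρ t ^ n) e₂ = e₂ * e₁ ^ (a * n) := by
    intro n
    induction n with
    | zero => simp
    | succ n ih =>
      rw [pow_succ', MulAut.mul_apply, MulAut.mul_apply, ih.1, ih.2, he₁, map_mul, map_pow, he₁, ha]
      refine ⟨rfl, ?_⟩
      rw [mul_assoc, ← pow_add, mul_add, mul_one, add_comm]
  have hpow2 : ∀ n : ℕ, (ρ t₂ ^ n) e₂ = e₂ ∧ (ρ t₂ ^ n) e₁ = e₁ * e₂ ^ (c * n) := by
    intro n
    induction n with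
    | zero => simp
    | succ n ih =>
      rw [pow_succ', MulAut.mul_apply, MulAut.mul_apply, ih.1, ih.2, ht₂e₂, map_mul, map_pow,
        ht₂e₂, hc]
      refine ⟨rfl, ?_⟩
      rw [mul_assoc, ← pow_add, mul_add, mul_one, add_comm]
  have hcopa : Nat.Coprime a p := by
    rw [Nat.coprime_comm, Nat.Prime.coprime_iff_not_dvd hp.out]; exact hpa
  have hcopc : Nat.Coprime c p := by
    rw [Nat.coprime_comm, Nat.Prime.coprime_iff_not_dvd hp.out]; exact hpc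
  obtain ⟨a', -, ha'⟩ := Nat.exists_mul_mod_eq_one_of_coprime hcopa hp.out.one_lt
  obtain ⟨c', -, hc'⟩ := Nat.exists_mul_mod_eq_one_of_coprime hcopc hp.out.one_lt
  have hA1 : ρ (t ^ a') e₁ = e₁ := by rw [map_pow]; exact (hpow1 a').1
  have hA2 : ρ (t ^ a') e₂ = e₂ * e₁ := by
    rw [map_pow, (hpow1 a').2, ← pow_mod_orderOf, ho, ha', pow_one]
  have hB2 : ρ (t₂ ^ c') e₂ = e₂ := by rw [map_pow]; exact (hpow2 c').1
  have hB1 : ρ (t₂ ^ c') e₁ = e₁ * e₂ := by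
    rw [map_pow, (hpow2 c').2, ← pow_mod_orderOf, ho2, hc', pow_one]
  have hBi2 : ρ (t₂ ^ c')⁻¹ e₂ = e₂ := by
    rw [map_inv]
    nth_rewrite 1 [← hB2]
    exact MulAut.inv_apply_self _ _ _
  have hBi1 : ρ (t₂ ^ c')⁻¹ e₁ = e₁ * e₂⁻¹ := by
    have h1 : ρ (t₂ ^ c') (e₁ * e₂⁻¹) = e₁ := by
      rw [map_mul, map_inv, hB1, hB2, mul_inv_cancel_right]
    rw [map_inv]
    nth_rewrite 1 [← h1]
    exact MulAut.inv_apply_self _ _ _
  obtain ⟨w, hw⟩ : ∃ w : W, w = t ^ a' * (t₂ ^ c')⁻¹ * t ^ a' := ⟨_, rfl⟩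
  have hwN : w ∈ N := by
    rw [hw]
    exact N.mul_mem (N.mul_mem (N.pow_mem ht _) (N.inv_mem (N.pow_mem ht₂N _))) (N.pow_mem ht _)
  have hw1 : ρ w e₁ = e₂⁻¹ := by
    rw [hw, map_mul, map_mul, MulAut.mul_apply, MulAut.mul_apply, hA1, hBi1, map_mul, map_inv,
      hA1, hA2, mul_inv_rev, mul_inv_cancel_left]
  have hw2 : ρ w e₂ = e₁ := by
    rw [hw, map_mul, map_mul, MulAut.mul_apply, MulAut.mul_apply, hA2, map_mul, hBi2, hBi1,
      map_mul, map_mul, map_inv, hA1, hA2]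
    rw [mul_comm e₁, mul_inv_rev]
    group
  have hz1 : ρ (w * w) e₁ = e₁⁻¹ := by
    rw [map_mul ρ, MulAut.mul_apply, hw1, map_inv, hw2]
  have hz2 : ρ (w * w) e₂ = e₂⁻¹ := by
    rw [map_mul ρ, MulAut.mul_apply, hw2, hw1]
  refine ⟨w * w, N.mul_mem hwN hwN, ?_, hcardV⟩
  intro v
  obtain ⟨i, j, rfl⟩ := hbasis v
  rw [map_mul, map_pow, map_pow, hz1, hz2, mul_inv, inv_pow, inv_pow]

end GL2

/-- Version of `gl2_key` for a group with a commutativity hypothesis. -/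
theorem gl2_key' {V : Type*} [Group V] [Finite V] {p : ℕ} [hp : Fact p.Prime]
    {W : Type*} [Group W] (hcomm : ∀ a b : V, a * b = b * a)
    (hexp : ∀ v : V, v ^ p = 1) (hcard : Nat.card V ∣ p ^ 2)
    (ρ : W →* MulAut V) (N : Subgroup W) (hN : ∀ h : W, ∀ n ∈ N, h * n * h⁻¹ ∈ N)
    (t : W) (ht : t ∈ N) (k : ℕ) (htk : t ^ p ^ k = 1) :
    (∃ ζ ∈ N, (∀ v, ρ ζ v = v⁻¹) ∧ Nat.card V = p ^ 2) ∨
    (∃ L : Subgroup V, (∀ h : W, ∀ v ∈ L, ρ h v ∈ L) ∧ (∀ v ∈ L, ρ t v = v) ∧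
      (∀ v, ρ t v * v⁻¹ ∈ L)) := by
  let _ : CommGroup V := { ‹Group V› with mul_comm := hcomm }
  exact gl2_key hexp hcard ρ N hN t ht k htk

end Cfsg.Agent.Lib.helper65
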