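import Mathlib
import Cfsg.Agent.Lib.helper3.PGroupFrattini
import Cfsg.Agent.Lib.helper65.GL2
import Cfsg.Agent.Lib.helper65.MetaInv

/-!
# Automorphism groups of a `p`-group stabilising a metacyclic subgroup

`radKey`: let `E` be a finite `p`-group (`p` odd), `X ≤ E` metacyclic, `Γ ≤ Aut(E)` stabilising `X`
and `c ∈ Γ` a `p`-element acting trivially on `E / X`. Then there is a normal `p`-subgroup `D` of `Γ`
such that either `c ∈ D`, or some `ζ ∈ Γ` inverts `X`, is trivial on `E / X`, satisfies `[ζ, c] ∈ D`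
and `|Ω₁(X)| ≥ p²`.
-/

set_option autoImplicit false

namespace Cfsg.Agent.Lib.helper65

open Subgroup

section Stab

variable {G : Type*} [Group G]

/-- Automorphisms fixing `L` pointwise. -/
def fixSub (L : Subgroup G) : Subgroup (MulAut G) where
  carrier := {β | ∀ v ∈ L, β v = v}
  one_mem' := fun _ _ => rfl
  mul_mem' := by
    intro a b ha hb v hv
    rw [MulAut.mul_apply, hb v hv, ha v hv]
  inv_mem' := by
    intro a ha v hv
    have h := MulAut.inv_apply_self G a v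
    rw [ha v hv] at h
    exact h

theorem mem_fixSub {L : Subgroup G} {β : MulAut G} : β ∈ fixSub L ↔ ∀ v ∈ L, β v = v := Iff.rfl

/-- Automorphisms acting trivially modulo `L`. -/
def trivMod (L : Subgroup G) : Subgroup (MulAut G) where
  carrier := {β | ∀ v, β v * v⁻¹ ∈ L}
  one_mem' := fun v => by
    show v * v⁻¹ ∈ L
    rw [mul_inv_cancel]; exact L.one_mem
  mul_mem' := by
    intro a b ha hb v
    have e : (a * b) v * v⁻¹ = (a (b v) * (b v)⁻¹) * (b v * v⁻¹) := by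
      rw [MulAut.mul_apply]; group
    rw [e]; exact L.mul_mem (ha _) (hb v)
  inv_mem' := by
    intro a ha v
    have h := ha (a⁻¹ v)
    rw [MulAut.apply_inv_self] at h
    have e : a⁻¹ v * v⁻¹ = (v * (a⁻¹ v)⁻¹)⁻¹ := by group
    rw [e]; exact L.inv_mem h

theorem mem_trivMod {L : Subgroup G} {β : MulAut G} : β ∈ trivMod L ↔ ∀ v, β v * v⁻¹ ∈ L := Iff.rfl

theorem conj_mem_trivMod (L : Subgroup G) (α β : MulAut G) (hα : ∀ v ∈ L, α v ∈ L)
    (hβ : β ∈ trivMod L) : α * β * α⁻¹ ∈ trivMod L := by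
  intro v
  have h := hα _ (hβ (α⁻¹ v))
  rw [map_mul, map_inv, MulAut.apply_inv_self] at h
  exact h

theorem conj_mem_fixSub (L : Subgroup G) (α β : MulAut G) (hα : ∀ v ∈ L, α⁻¹ v ∈ L)
    (hβ : β ∈ fixSub L) : α * β * α⁻¹ ∈ fixSub L := by
  intro v hv
  show α (β (α⁻¹ v)) = v
  rw [hβ _ (hα v hv), MulAut.apply_inv_self]

theorem mulAut_pow_apply_of_stab (A : Subgroup G) (β : MulAut G)
    (h1 : ∀ a ∈ A, β a = a) (h2 : ∀ g, β g * g⁻¹ ∈ A) (n : ℕ) (g : G) :
    (β ^ n) g = (β g * g⁻¹) ^ n * g := by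
  induction n with
  | zero => simp
  | succ n ih =>
    have e1 : (β ^ (n + 1)) g = β ((β ^ n) g) := by rw [pow_succ', MulAut.mul_apply]
    rw [e1, ih, map_mul, map_pow, h1 _ (h2 g)]
    have e2 : (β g * g⁻¹) ^ (n + 1) * g = (β g * g⁻¹) ^ n * β g := by
      rw [pow_succ, mul_assoc, inv_mul_cancel_right]
    rw [e2]

theorem mulAut_eq_one_of_stab (A : Subgroup G) (β : MulAut G)
    (h1 : ∀ a ∈ A, β a = a) (h2 : ∀ g, β g * g⁻¹ ∈ A) (n : ℕ) (hn : β ^ n = 1)
    (hA : ∀ a ∈ A, a ^ n = 1 → a = 1) : β = 1 := by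
  ext g
  have h := mulAut_pow_apply_of_stab A β h1 h2 n g
  rw [hn, MulAut.one_apply] at h
  have h3 : (β g * g⁻¹) ^ n = 1 := mul_eq_right.mp h.symm
  have h4 := hA _ (h2 g) h3
  show β g = g
  exact mul_inv_eq_one.mp h4

end Stab

section Res

variable {E : Type*} [Group E]

/-- Restriction of automorphisms to an invariant subgroup. -/
def resSub (X : Subgroup E) (Γ : Subgroup (MulAut E)) (hΓ : ∀ γ ∈ Γ, ∀ x ∈ X, γ x ∈ X) :
    ↥Γ →* MulAut ↥X where
  toFun γ :=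
    { toFun := fun x => ⟨(γ : MulAut E) x, hΓ γ γ.2 x x.2⟩
      invFun := fun x => ⟨(γ : MulAut E)⁻¹ x, hΓ _ (Γ.inv_mem γ.2) x x.2⟩
      left_inv := fun x => Subtype.ext (by simp)
      right_inv := fun x => Subtype.ext (by simp)
      map_mul' := fun x y => Subtype.ext (by simp) }
  map_one' := by ext x; rfl
  map_mul' a b := by ext x; rfl

theorem resSub_apply (X : Subgroup E) (Γ : Subgroup (MulAut E))
    (hΓ : ∀ γ ∈ Γ, ∀ x ∈ X, γ x ∈ X) (γ : ↥Γ) (x : ↥X) :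
    ((resSub X Γ hΓ γ x : ↥X) : E) = (γ : MulAut E) x := rfl

/-- The action of automorphisms on the Frattini quotient. -/
def frQuot (Q : Type*) [Group Q] : MulAut Q →* MulAut (Q ⧸ frattini Q) where
  toFun φ := QuotientGroup.congr (frattini Q) (frattini Q) φ
    (Subgroup.characteristic_iff_map_eq.mp inferInstance φ)
  map_one' := by
    ext x
    induction x using QuotientGroup.induction_on
    rfl
  map_mul' φ ψ := by
    ext x
    induction x using QuotientGroup.induction_on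
    rfl

theorem frQuot_mk (Q : Type*) [Group Q] (φ : MulAut Q) (x : Q) :
    frQuot Q φ (QuotientGroup.mk x) = QuotientGroup.mk (φ x) := rfl

end Res

/-- A metacyclic `p`-group has Frattini quotient of order dividing `p²`. -/
theorem index_frattini_dvd_sq_of_metacyclic {X : Type*} [Group X] [Finite X] {p : ℕ}
    [hp : Fact p.Prime] (hp2 : p ≠ 2) (hX : IsPGroup p X)
    (hm : ∃ (N : Subgroup X) (_ : N.Normal), IsCyclic N ∧ IsCyclic (X ⧸ N)) :
    (frattini X).index ∣ p ^ 2 := by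
  classical
  obtain ⟨a, b, m, t, l, k, D⟩ := exists_MCP_of_metacyclic hp2 hX hm
  have hgen : Subgroup.closure ((({a, b} : Finset X)) : Set X) = ⊤ := by
    rw [eq_top_iff]
    intro x _
    obtain ⟨u, j, rfl⟩ := D.hgen x
    exact Subgroup.mul_mem _ (Subgroup.pow_mem _ (Subgroup.subset_closure (by simp)) _)
      (Subgroup.pow_mem _ (Subgroup.subset_closure (by simp)) _)
  have h := Cfsg.Agent.Lib.helper69.index_frattini_dvd_pow hX ({a, b} : Finset X) hgen
  exact h.trans (pow_dvd_pow p Finset.card_le_two)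

/-- In an abelian `p`-group, `|Ω₁| ≥ |X : Φ(X)|`. -/
theorem index_frattini_le_card_omega {X : Type*} [Group X] [Finite X] {p : ℕ} [hp : Fact p.Prime]
    (hX : IsPGroup p X) (hcomm : ∀ a b : X, a * b = b * a) :
    (frattini X).index ≤ Nat.card {x : X // x ^ p = 1} := by
  let φ : X →* X :=
    { toFun := fun x => x ^ p
      map_one' := one_pow p
      map_mul' := fun a b => (show Commute a b from hcomm a b).mul_pow p }
  have hker : Nat.card φ.ker = Nat.card {x : X // x ^ p = 1} :=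
    Nat.card_congr (Equiv.subtypeEquivRight (fun x => by rw [MonoidHom.mem_ker]; rfl))
  have hrange : φ.range ≤ frattini X := by
    rintro _ ⟨x, rfl⟩
    exact Cfsg.Agent.Lib.helper3.pow_prime_mem_frattini hX x
  have h1 : Nat.card φ.ker * Nat.card φ.range = Nat.card X := by
    rw [← Subgroup.index_ker, Subgroup.card_mul_index]
  have h2 : Nat.card (frattini X) * (frattini X).index = Nat.card X := Subgroup.card_mul_index _
  have h3 : Nat.card φ.range ≤ Nat.card (frattini X) :=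
    Nat.le_of_dvd Nat.card_pos (Subgroup.card_dvd_of_le hrange)
  rw [← hker]
  have h4 : Nat.card (frattini X) * (frattini X).index ≤ Nat.card (frattini X) * Nat.card φ.ker := by
    rw [h2, ← h1, mul_comm]
    exact Nat.mul_le_mul_right _ h3
  exact Nat.le_of_mul_le_mul_left h4 Nat.card_pos

theorem radKey {E : Type*} [Group E] [Finite E] {p : ℕ} [hp : Fact p.Prime] (hp2 : p ≠ 2)
    (hE : IsPGroup p E) (X : Subgroup E)
    (hm : ∃ (N : Subgroup ↥X) (_ : N.Normal), IsCyclic N ∧ IsCyclic (↥X ⧸ N))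
    (Γ : Subgroup (MulAut E)) (hΓ : ∀ γ ∈ Γ, ∀ x ∈ X, γ x ∈ X)
    (c : MulAut E) (hc : c ∈ Γ) (hcX : ∀ e, c e * e⁻¹ ∈ X) (k : ℕ) (hck : c ^ p ^ k = 1) :
    ∃ D : Subgroup (MulAut E), D ≤ Γ ∧ (∀ a ∈ Γ, ∀ d ∈ D, a * d * a⁻¹ ∈ D) ∧ IsPGroup p D ∧
      (c ∈ D ∨ ∃ ζ ∈ Γ, (∀ x ∈ X, ζ x = x⁻¹) ∧ (∀ e, ζ e * e⁻¹ ∈ X) ∧ ζ * c * ζ⁻¹ * c⁻¹ ∈ D ∧
        p ^ 2 ≤ Nat.card {x : E // x ∈ X ∧ x ^ p = 1}) := by
  classical
  have hXp : IsPGroup p ↥X := hE.to_subgroup X
  have hidx : (frattini ↥X).index ∣ p ^ 2 := index_frattini_dvd_sq_of_metacyclic hp2 hXp hm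
  have hVcomm : ∀ a b : ↥X ⧸ frattini ↥X, a * b = b * a := by
    have h := (Subgroup.Normal.quotient_commutative_iff_commutator_le (N := frattini ↥X)).mpr
      (Cfsg.Agent.Lib.helper3.commutator_le_frattini hXp)
    exact fun a b => h.is_comm.comm a b
  have hVexp : ∀ v : ↥X ⧸ frattini ↥X, v ^ p = 1 := by
    intro v
    obtain ⟨x, rfl⟩ := QuotientGroup.mk_surjective v
    rw [← QuotientGroup.mk_pow, QuotientGroup.eq_one_iff]
    exact Cfsg.Agent.Lib.helper3.pow_prime_mem_frattini hXp x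
  have hVcard : Nat.card (↥X ⧸ frattini ↥X) ∣ p ^ 2 := by
    rw [← Subgroup.index_eq_card]; exact hidx
  obtain ⟨ρ, hρ⟩ : ∃ ρ : ↥Γ →* MulAut (↥X ⧸ frattini ↥X),
      ρ = (frQuot ↥X).comp (resSub X Γ hΓ) := ⟨_, rfl⟩
  have hρmk : ∀ (γ : ↥Γ) (x : ↥X),
      ρ γ (QuotientGroup.mk x) = QuotientGroup.mk (resSub X Γ hΓ γ x) := by
    intro γ x; rw [hρ]; rfl
  obtain ⟨N, hNdef⟩ : ∃ N : Subgroup ↥Γ, N = (trivMod X).comap Γ.subtype := ⟨_, rfl⟩
  have hNmem : ∀ γ : ↥Γ, γ ∈ N ↔ ∀ e, (γ : MulAut E) e * e⁻¹ ∈ X := by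
    intro γ; rw [hNdef]; rfl
  have hNnorm : ∀ h : ↥Γ, ∀ n ∈ N, h * n * h⁻¹ ∈ N := by
    intro h n hn
    rw [hNdef, Subgroup.mem_comap] at hn ⊢
    exact conj_mem_trivMod X _ _ (hΓ h h.2) hn
  have key : ∀ L : Subgroup (↥X ⧸ frattini ↥X), (∀ h : ↥Γ, ∀ v ∈ L, ρ h v ∈ L) →
      ∃ D' : Subgroup ↥Γ, (∀ γ : ↥Γ, γ ∈ D' ↔ γ ∈ N ∧ ρ γ ∈ fixSub L ∧ ρ γ ∈ trivMod L) ∧
        (∀ a : ↥Γ, ∀ d ∈ D', a * d * a⁻¹ ∈ D') ∧ IsPGroup p D' := by
    intro L hL
    refine ⟨N ⊓ ((fixSub L ⊓ trivMod L).comap ρ), ?_, ?_, ?_⟩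
    · intro γ
      rw [Subgroup.mem_inf, Subgroup.mem_comap, Subgroup.mem_inf]
    · intro a d hd
      rw [Subgroup.mem_inf, Subgroup.mem_comap, Subgroup.mem_inf] at hd ⊢
      refine ⟨hNnorm a d hd.1, ?_, ?_⟩
      · rw [map_mul, map_mul, map_inv]
        exact conj_mem_fixSub L _ _ (fun v hv => by rw [← map_inv]; exact hL a⁻¹ v hv) hd.2.1
      · rw [map_mul, map_mul, map_inv]
        exact conj_mem_trivMod L _ _ (hL a) hd.2.2
    · rintro ⟨γ, hγ⟩
      rw [Subgroup.mem_inf, Subgroup.mem_comap, Subgroup.mem_inf] at hγ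
      have hn0 : orderOf γ ≠ 0 := (orderOf_pos γ).ne'
      obtain ⟨e, m, hpm, hem⟩ := Nat.exists_eq_pow_mul_and_not_dvd hn0 p hp.out.ne_one
      refine ⟨e, Subtype.ext ?_⟩
      show γ ^ p ^ e = 1
      obtain ⟨γ', hγ'⟩ : ∃ γ' : ↥Γ, γ' = γ ^ p ^ e := ⟨_, rfl⟩
      rw [← hγ']
      have hγ'm : γ' ^ m = 1 := by rw [hγ', ← pow_mul, ← hem, pow_orderOf_eq_one]
      have hγ'N : γ' ∈ N := by rw [hγ']; exact N.pow_mem hγ.1 _
      have hγ'1 : ρ γ' ∈ fixSub L := by rw [hγ', map_pow]; exact (fixSub L).pow_mem hγ.2.1 _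
      have hγ'2 : ρ γ' ∈ trivMod L := by rw [hγ', map_pow]; exact (trivMod L).pow_mem hγ.2.2 _
      have hcop : Nat.Coprime m p := by
        rw [Nat.coprime_comm, Nat.Prime.coprime_iff_not_dvd hp.out]; exact hpm
      have hρ1 : ρ γ' = 1 := by
        apply mulAut_eq_one_of_stab L (ρ γ') hγ'1 hγ'2 m (by rw [← map_pow, hγ'm, map_one])
        intro a _ ha
        have h1 : orderOf a ∣ m := orderOf_dvd_of_pow_eq_one ha
        have h2 : orderOf a ∣ p := orderOf_dvd_of_pow_eq_one (hVexp a)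
        exact orderOf_eq_one_iff.mp (Nat.eq_one_of_dvd_coprimes hcop h1 h2)
      have hres1 : resSub X Γ hΓ γ' = 1 := by
        apply mulAut_eq_one_of_coprime_trivial_mod_frattini hXp _ m hcop
          (by rw [← map_pow, hγ'm, map_one])
        intro x
        rw [← QuotientGroup.eq_one_iff, QuotientGroup.mk_mul, QuotientGroup.mk_inv, ← hρmk, hρ1]
        exact mul_inv_cancel _
      have hfixX : ∀ x ∈ X, (γ' : MulAut E) x = x := by
        intro x hx
        have h := resSub_apply X Γ hΓ γ' ⟨x, hx⟩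
        rw [hres1] at h
        exact h.symm
      have h1 : (γ' : MulAut E) = 1 := by
        apply mulAut_eq_one_of_stab X _ hfixX ((hNmem γ').mp hγ'N) m
          (congrArg Subtype.val hγ'm)
        intro a _ ha
        obtain ⟨j, hj⟩ := hE a
        have h1 : orderOf a ∣ m := orderOf_dvd_of_pow_eq_one ha
        have h2 : orderOf a ∣ p ^ j := orderOf_dvd_of_pow_eq_one hj
        exact orderOf_eq_one_iff.mp (Nat.eq_one_of_dvd_coprimes (hcop.pow_right j) h1 h2)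
      exact Subtype.ext h1
  obtain ⟨t, ht⟩ : ∃ t : ↥Γ, t = ⟨c, hc⟩ := ⟨_, rfl⟩
  have htN : t ∈ N := by rw [hNmem, ht]; exact hcX
  have htk : t ^ p ^ k = 1 := by rw [ht]; exact Subtype.ext hck
  rcases gl2_key' hVcomm hVexp hVcard ρ N hNnorm t htN k htk with
    ⟨ζ₀, hζ₀N, hζ₀inv, hcardV⟩ | ⟨L, hLinv, hLfix, hLtriv⟩
  · obtain ⟨D', hD'mem, hD'norm, hD'p⟩ := key ⊥
      (fun h v hv => by rw [Subgroup.mem_bot] at hv ⊢; rw [hv, map_one])
    refine ⟨D'.map Γ.subtype, ?_, ?_, hD'p.map _, Or.inr ?_⟩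
    · rintro _ ⟨d, -, rfl⟩; exact d.2
    · rintro a ha _ ⟨d, hd, rfl⟩
      exact ⟨⟨a, ha⟩ * d * ⟨a, ha⟩⁻¹, hD'norm ⟨a, ha⟩ d hd, rfl⟩
    · have hn0 : orderOf ζ₀ ≠ 0 := (orderOf_pos ζ₀).ne'
      obtain ⟨e, m, hpm, hem⟩ := Nat.exists_eq_pow_mul_and_not_dvd hn0 p hp.out.ne_one
      obtain ⟨ζ, hζ⟩ : ∃ ζ : ↥Γ, ζ = ζ₀ ^ p ^ e := ⟨_, rfl⟩
      have hζm : ζ ^ m = 1 := by rw [hζ, ← pow_mul, ← hem, pow_orderOf_eq_one]
      have hζN : ζ ∈ N := by rw [hζ]; exact N.pow_mem hζ₀N _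
      have hcop : Nat.Coprime m p := by
        rw [Nat.coprime_comm, Nat.Prime.coprime_iff_not_dvd hp.out]; exact hpm
      have hodd : Odd (p ^ e) := (hp.out.odd_of_ne_two hp2).pow
      have hζinv : ∀ v, ρ ζ v = v⁻¹ := by
        intro v
        rw [hζ, map_pow]
        have hpow : ∀ n : ℕ, (ρ ζ₀ ^ n) v = if Even n then v else v⁻¹ := by
          intro n
          induction n with
          | zero => simp
          | succ n ih =>
            rw [pow_succ', MulAut.mul_apply, ih]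
            by_cases hn : Even n
            · rw [if_pos hn, if_neg (by rw [Nat.even_add_one]; exact not_not.mpr hn), hζ₀inv]
            · rw [if_neg hn, if_pos (by rw [Nat.even_add_one]; exact hn), map_inv, hζ₀inv,
                inv_inv]
        rw [hpow, if_neg (Nat.not_even_iff_odd.mpr hodd)]
      have hζX : ∀ x : ↥X, resSub X Γ hΓ ζ x = x⁻¹ := by
        apply inv_of_inverting_aut hp2 hXp hm _ m hcop (by rw [← map_pow, hζm, map_one])
        intro x
        rw [← QuotientGroup.eq_one_iff, QuotientGroup.mk_mul, ← hρmk, hζinv]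
        exact inv_mul_cancel _
      have hXcomm : ∀ a b : ↥X, a * b = b * a := by
        intro a b
        have h1 := map_mul (resSub X Γ hΓ ζ) a b
        rw [hζX, hζX, hζX, mul_inv_rev] at h1
        have h2 := congrArg (fun z => z⁻¹) h1
        simp only [mul_inv_rev, inv_inv] at h2
        exact h2
      have hAinv : ∀ u, (ρ ζ)⁻¹ u = u⁻¹ := by
        intro u
        have h := MulAut.inv_apply_self _ (ρ ζ) u⁻¹
        rw [hζinv, inv_inv] at h
        exact h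
      have hcomm1 : ∀ v, (ρ (ζ * t * ζ⁻¹ * t⁻¹)) v = v := by
        intro v
        rw [map_mul ρ, map_mul ρ, map_mul ρ, map_inv ρ, map_inv ρ]
        show ρ ζ (ρ t ((ρ ζ)⁻¹ ((ρ t)⁻¹ v))) = v
        rw [hAinv, map_inv, hζinv, inv_inv, MulAut.apply_inv_self]
      refine ⟨(ζ : MulAut E), ζ.2, ?_, (hNmem ζ).mp hζN, ?_, ?_⟩
      · intro x hx
        exact congrArg Subtype.val (hζX ⟨x, hx⟩)
      · refine ⟨ζ * t * ζ⁻¹ * t⁻¹, ?_, ?_⟩
        · show ζ * t * ζ⁻¹ * t⁻¹ ∈ D'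
          rw [hD'mem]
          refine ⟨N.mul_mem (hNnorm ζ t htN) (N.inv_mem htN), ?_, ?_⟩
          · intro v _
            exact hcomm1 v
          · intro v
            rw [hcomm1 v, mul_inv_cancel]
            exact Subgroup.one_mem _
        · rw [ht]; rfl
      · have h1 := index_frattini_le_card_omega hXp hXcomm
        have h2 : (frattini ↥X).index = p ^ 2 := by rw [Subgroup.index_eq_card]; exact hcardV
        have h3 : Nat.card {x : ↥X // x ^ p = 1} = Nat.card {x : E // x ∈ X ∧ x ^ p = 1} :=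
          Nat.card_congr
            { toFun := fun y => ⟨y.1.1, y.1.2, congrArg Subtype.val y.2⟩
              invFun := fun z => ⟨⟨z.1, z.2.1⟩, Subtype.ext z.2.2⟩
              left_inv := fun y => rfl
              right_inv := fun z => rfl }
        rw [← h3, ← h2]
        exact h1
  · obtain ⟨D', hD'mem, hD'norm, hD'p⟩ := key L hLinv
    refine ⟨D'.map Γ.subtype, ?_, ?_, hD'p.map _, Or.inl ?_⟩
    · rintro _ ⟨d, -, rfl⟩; exact d.2
    · rintro a ha _ ⟨d, hd, rfl⟩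
      exact ⟨⟨a, ha⟩ * d * ⟨a, ha⟩⁻¹, hD'norm ⟨a, ha⟩ d hd, rfl⟩
    · refine ⟨t, ?_, by rw [ht]; rfl⟩
      show t ∈ D'
      rw [hD'mem]
      exact ⟨htN, hLfix, hLtriv⟩

end Cfsg.Agent.Lib.helper65
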