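import Mathlib
import Cfsg.Agent.Lib.helper65.RadKey

/-!
# Stabilisers of a chain of length three in a `p`-group (helper65)

`chain3_pgroup`: let `E` be a finite `p`-group, `Γ ≤ Aut(E)` leaving the subgroups `X` and `Y`
invariant, and `c ∈ Γ` acting trivially on `E / X`, on `X` modulo `Y` and on `Y`. Then `c` lies in a
`p`-subgroup of `Γ` normalised by `Γ`.
-/

set_option autoImplicit false

namespace Cfsg.Agent.Lib.helper65

open Subgroup

/-- Pointwise version of `mulAut_pow_apply_of_stab`. -/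
theorem mulAut_pow_apply_of_stab_at {G : Type*} [Group G] (A : Subgroup G) (β : MulAut G)
    (h1 : ∀ a ∈ A, β a = a) (g : G) (h2 : β g * g⁻¹ ∈ A) (n : ℕ) :
    (β ^ n) g = (β g * g⁻¹) ^ n * g := by
  induction n with
  | zero => simp
  | succ n ih =>
    have e1 : (β ^ (n + 1)) g = β ((β ^ n) g) := by rw [pow_succ', MulAut.mul_apply]
    rw [e1, ih, map_mul, map_pow, h1 _ h2]
    have e2 : (β g * g⁻¹) ^ (n + 1) * g = (β g * g⁻¹) ^ n * β g := by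
      rw [pow_succ, mul_assoc, inv_mul_cancel_right]
    rw [e2]

/-- In a `p`-group an element killed by a number prime to `p` is trivial. -/
theorem eq_one_of_pow_coprime {E : Type*} [Group E] {p : ℕ} [hp : Fact p.Prime]
    (hE : IsPGroup p E) {m : ℕ} (hcop : Nat.Coprime m p) {a : E} (ha : a ^ m = 1) : a = 1 := by
  obtain ⟨j, hj⟩ := hE a
  have h1 : orderOf a ∣ m := orderOf_dvd_of_pow_eq_one ha
  have h2 : orderOf a ∣ p ^ j := orderOf_dvd_of_pow_eq_one hj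
  exact orderOf_eq_one_iff.mp (Nat.eq_one_of_dvd_coprimes (hcop.pow_right j) h1 h2)

theorem chain3_pgroup {E : Type*} [Group E] [Finite E] {p : ℕ} [hp : Fact p.Prime]
    (hE : IsPGroup p E) (X Y : Subgroup E) (Γ : Subgroup (MulAut E))
    (hΓX : ∀ γ ∈ Γ, ∀ x ∈ X, γ x ∈ X) (hΓY : ∀ γ ∈ Γ, ∀ y ∈ Y, γ y ∈ Y)
    (c : MulAut E) (hc : c ∈ Γ) (hc1 : ∀ e, c e * e⁻¹ ∈ X) (hc2 : ∀ x ∈ X, c x * x⁻¹ ∈ Y)
    (hc3 : ∀ y ∈ Y, c y = y) :
    ∃ D : Subgroup (MulAut E), D ≤ Γ ∧ (∀ a ∈ Γ, ∀ d ∈ D, a * d * a⁻¹ ∈ D) ∧ IsPGroup p D ∧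
      c ∈ D := by
  obtain ⟨D, hDdef⟩ : ∃ D : Subgroup (MulAut E), D =
      { carrier := {γ | γ ∈ Γ ∧ γ ∈ trivMod X ∧ (∀ x ∈ X, γ x * x⁻¹ ∈ Y) ∧ γ ∈ fixSub Y}
        one_mem' := ⟨Γ.one_mem, (trivMod X).one_mem, fun x _ => by
          show x * x⁻¹ ∈ Y
          rw [mul_inv_cancel]; exact Y.one_mem, (fixSub Y).one_mem⟩
        mul_mem' := by
          rintro a b ⟨ha1, ha2, ha3, ha4⟩ ⟨hb1, hb2, hb3, hb4⟩
          refine ⟨Γ.mul_mem ha1 hb1, (trivMod X).mul_mem ha2 hb2, fun x hx => ?_,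
            (fixSub Y).mul_mem ha4 hb4⟩
          have e : (a * b) x * x⁻¹ = (a (b x) * (b x)⁻¹) * (b x * x⁻¹) := by
            rw [MulAut.mul_apply]; group
          rw [e]
          exact Y.mul_mem (ha3 _ (hΓX b hb1 x hx)) (hb3 x hx)
        inv_mem' := by
          rintro a ⟨ha1, ha2, ha3, ha4⟩
          refine ⟨Γ.inv_mem ha1, (trivMod X).inv_mem ha2, fun x hx => ?_, (fixSub Y).inv_mem ha4⟩
          have hx' : a⁻¹ x ∈ X := hΓX a⁻¹ (Γ.inv_mem ha1) x hx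
          have h := ha3 _ hx'
          rw [MulAut.apply_inv_self] at h
          have h' := Y.inv_mem h
          rw [mul_inv_rev, inv_inv] at h'
          exact h' } := ⟨_, rfl⟩
  have hmem : ∀ γ : MulAut E, γ ∈ D ↔
      (γ ∈ Γ ∧ γ ∈ trivMod X ∧ (∀ x ∈ X, γ x * x⁻¹ ∈ Y) ∧ γ ∈ fixSub Y) := by
    intro γ; rw [hDdef]; exact Iff.rfl
  refine ⟨D, fun d hd => ((hmem d).mp hd).1, ?_, ?_, (hmem c).mpr ⟨hc, hc1, hc2, hc3⟩⟩
  · intro a ha d hd
    obtain ⟨hd1, hd2, hd3, hd4⟩ := (hmem d).mp hd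
    refine (hmem _).mpr ⟨Γ.mul_mem (Γ.mul_mem ha hd1) (Γ.inv_mem ha),
      conj_mem_trivMod X a d (hΓX a ha) hd2, fun x hx => ?_,
      conj_mem_fixSub Y a d (fun v hv => hΓY a⁻¹ (Γ.inv_mem ha) v hv) hd4⟩
    have hx' : a⁻¹ x ∈ X := hΓX a⁻¹ (Γ.inv_mem ha) x hx
    have h := hΓY a ha _ (hd3 _ hx')
    rw [map_mul, map_inv, MulAut.apply_inv_self] at h
    exact h
  · rintro ⟨d, hd⟩
    have hn0 : orderOf d ≠ 0 := (orderOf_pos d).ne'
    obtain ⟨e, m, hpm, hem⟩ := Nat.exists_eq_pow_mul_and_not_dvd hn0 p hp.out.ne_one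
    refine ⟨e, ?_⟩
    obtain ⟨d', hd'⟩ : ∃ d' : MulAut E, d' = d ^ p ^ e := ⟨_, rfl⟩
    have hd'm : d' ^ m = 1 := by rw [hd', ← pow_mul, ← hem, pow_orderOf_eq_one]
    have hcop : Nat.Coprime m p := by
      rw [Nat.coprime_comm, Nat.Prime.coprime_iff_not_dvd hp.out]; exact hpm
    have hd'D : d' ∈ D := by rw [hd']; exact D.pow_mem hd _
    obtain ⟨-, h2, h3, h4⟩ := (hmem d').mp hd'D
    have hfixX : ∀ x ∈ X, d' x = x := by
      intro x hx
      have h := mulAut_pow_apply_of_stab_at Y d' h4 x (h3 x hx) m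
      rw [hd'm, MulAut.one_apply] at h
      have h5 : (d' x * x⁻¹) ^ m = 1 := mul_eq_right.mp h.symm
      exact mul_inv_eq_one.mp (eq_one_of_pow_coprime hE hcop h5)
    have h6 : d' = 1 := by
      apply mulAut_eq_one_of_stab X d' hfixX h2 m hd'm
      intro a _ ha
      exact eq_one_of_pow_coprime hE hcop ha
    apply Subtype.ext
    show d ^ p ^ e = 1
    rw [← hd']; exact h6

end Cfsg.Agent.Lib.helper65
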