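import Mathlib
import Cfsg.Prelude.Def_OddOrderLocal
import Cfsg.Prelude.Def_OddOrder
import Cfsg.Agent.Lib.lead.Hall
import Cfsg.Agent.Lib.helper29.Basic
import Cfsg.Agent.Lib.helper29.FittingHall
import Cfsg.Agent.Lib.helper8.BG1355
import Cfsg.Agent.Lib.helper13.BG11a
import Cfsg.Agent.Lib.helper60.BGTI
import Cfsg.Agent.Lib.helper86.BG1356L
import Cfsg.Agent.S1350
import Cfsg.Agent.S1351
import Cfsg.Agent.S1352
import Cfsg.Agent.S1362
import Cfsg.Agent.S1365
import Cfsg.Agent.S1371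

/-!
# Maximal subgroups of Type II (towards S1538)

For a maximal subgroup `M` of Type II with data `(W₁, U, W₂)` in a minimal simple group of odd
order: `σ(M)` contains no prime divisor of `#U`, `M_σ = M_F`, `#W₁ ∈ κ(M)`, `M` is not of Type I,
III or IV, and the sets `A₁(M) ⊆ A(M) ⊆ A₀(M)` are TI-subsets with normalizer `M`.
-/

set_option autoImplicit false
open Cfsg

namespace Cfsg.Agent.Lib.helper65.BGType2

variable {G : Type*} [Group G]

/-- A subgroup mapping a set into itself by conjugation normalizes it. -/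
theorem le_normalizer_of_conj {M : Subgroup G} {X : Set G}
    (h : ∀ m ∈ M, ∀ x ∈ X, m * x * m⁻¹ ∈ X) : M ≤ Subgroup.normalizer X := by
  intro m hm
  rw [Subgroup.mem_set_normalizer_iff]
  intro x
  constructor
  · exact h m hm x
  · intro hx
    have := h m⁻¹ (M.inv_mem hm) _ hx
    simpa [mul_assoc] using this

/-- In a simple group, the normalizer of an `M`-invariant subset of a maximal subgroup `M`
containing a non-identity element is `M`. -/
theorem normalizer_eq_of_coatom' (hs : IsSimpleGroup G) {M : Subgroup G} (hM : IsCoatom M)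
    {X : Set G} (hXM : X ⊆ (M : Set G)) (hne : ∃ x ∈ X, x ≠ 1)
    (h1 : M ≤ Subgroup.normalizer X) : Subgroup.normalizer X = M := by
  rcases hM.le_iff.mp h1 with h2 | h2
  · exfalso
    have hn : (Subgroup.closure X).Normal := by
      constructor
      intro n hn g
      induction hn using Subgroup.closure_induction with
      | mem x hx =>
        apply Subgroup.subset_closure
        have hg : g ∈ Subgroup.normalizer X := by rw [h2]; trivial
        exact ((Subgroup.mem_set_normalizer_iff.mp hg) x).mp hx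
      | one => simp
      | mul a b _ _ ha hb =>
        have : g * (a * b) * g⁻¹ = (g * a * g⁻¹) * (g * b * g⁻¹) := by group
        rw [this]; exact Subgroup.mul_mem _ ha hb
      | inv a _ ha =>
        have : g * a⁻¹ * g⁻¹ = (g * a * g⁻¹)⁻¹ := by group
        rw [this]; exact Subgroup.inv_mem _ ha
    obtain ⟨x, hx, hx1⟩ := hne
    rcases hn.eq_bot_or_eq_top with h3 | h3
    · have : x ∈ Subgroup.closure X := Subgroup.subset_closure hx
      rw [h3, Subgroup.mem_bot] at this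
      exact hx1 this
    · have h4 : Subgroup.closure X ≤ M := (Subgroup.closure_le M).mpr hXM
      rw [h3] at h4
      exact hM.1 (top_le_iff.mp h4)
  · exact h2

theorem normalizer_eq_of_coatom (hs : IsSimpleGroup G) {M : Subgroup G} (hM : IsCoatom M)
    {X : Set G} (hXM : X ⊆ (M : Set G)) (hne : ∃ x ∈ X, x ≠ 1)
    (h : ∀ m ∈ M, ∀ x ∈ X, m * x * m⁻¹ ∈ X) : Subgroup.normalizer X = M :=
  normalizer_eq_of_coatom' hs hM hXM hne (le_normalizer_of_conj h)

theorem conj_mem_derived {M : Subgroup G} {m x : G} (hm : m ∈ M)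
    (hx : x ∈ (⁅M, M⁆ : Subgroup G)) : m * x * m⁻¹ ∈ (⁅M, M⁆ : Subgroup G) := by
  rw [← Subgroup.map_subtype_commutator] at hx ⊢
  obtain ⟨y, hy, rfl⟩ := hx
  have hn : (commutator M).Normal := inferInstance
  exact ⟨⟨m, hm⟩ * y * ⟨m, hm⟩⁻¹, hn.conj_mem y hy ⟨m, hm⟩, rfl⟩

theorem mem_map_conj_iff {A : Subgroup G} {m x : G} :
    x ∈ A.map (MulAut.conj m).toMonoidHom ↔ m⁻¹ * x * m ∈ A := by
  constructor
  · rintro ⟨y, hy, rfl⟩
    simpa [mul_assoc] using hy
  · intro h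
    exact ⟨m⁻¹ * x * m, h, by simp [mul_assoc]⟩

theorem pow_card_of_mem [Finite G] {A : Subgroup G} {x : G} (hx : x ∈ A) :
    x ^ Nat.card A = 1 :=
  orderOf_dvd_iff_pow_eq_one.mp (Subgroup.orderOf_dvd_natCard A hx)

/-- An element of `M` whose order is coprime to the index in `M` of a subgroup `N` normal in `M`
lies in `N`. -/
theorem mem_of_coprime_normal [Finite G] {M N : Subgroup G} (hNM : N ≤ M)
    (hn : M ≤ Subgroup.normalizer (N : Set G)) {x : G} (hx : x ∈ M)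
    (h : (orderOf x).Coprime (N.relIndex M)) : x ∈ N := by
  have : (N.subgroupOf M).Normal := (Subgroup.normal_subgroupOf_iff_le_normalizer hNM).mpr hn
  have h1 : orderOf (QuotientGroup.mk' (N.subgroupOf M) (⟨x, hx⟩ : M)) ∣ orderOf x := by
    have := orderOf_map_dvd (QuotientGroup.mk' (N.subgroupOf M)) (⟨x, hx⟩ : M)
    rwa [Subgroup.orderOf_mk] at this
  have h2 : orderOf (QuotientGroup.mk' (N.subgroupOf M) (⟨x, hx⟩ : M)) ∣ N.relIndex M := by
    rw [Subgroup.relIndex, Subgroup.index_eq_card]; exact orderOf_dvd_natCard _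
  have h3 := Nat.eq_one_of_dvd_coprimes h h1 h2
  rw [orderOf_eq_one_iff] at h3
  have h4 : (⟨x, hx⟩ : M) ∈ N.subgroupOf M := (QuotientGroup.eq_one_iff _).mp h3
  exact Subgroup.mem_subgroupOf.mp h4

/-- Hall subgroups of the same order of a solvable subgroup `M` are conjugate in `M`. -/
theorem conj_in [Finite G] {M : Subgroup G} (hMs : Group.IsSolvable M) (A B : Subgroup G)
    (hA : A ≤ M) (hB : B ≤ M) (hcop : (Nat.card A).Coprime (A.relIndex M))
    (hcard : Nat.card B = Nat.card A) :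
    ∃ m ∈ M, B = A.map (MulAut.conj m).toMonoidHom := by
  have h1 : Nat.card (A.subgroupOf M) = Nat.card A :=
    Nat.card_congr (Subgroup.subgroupOfEquivOfLe hA).toEquiv
  have h2 : Nat.card (B.subgroupOf M) = Nat.card B :=
    Nat.card_congr (Subgroup.subgroupOfEquivOfLe hB).toEquiv
  obtain ⟨m, hm⟩ := Cfsg.Agent.Lib.lead.conj_of_coprime_of_isSolvable (A.subgroupOf M)
    (B.subgroupOf M) (by rw [h1]; exact hcop) (by rw [h1, h2, hcard])
  refine ⟨(m : G), m.2, ?_⟩
  ext x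
  constructor
  · intro hx
    have hxM : x ∈ M := hB hx
    have h3 : (⟨x, hxM⟩ : M) ∈ B.subgroupOf M := Subgroup.mem_subgroupOf.mpr hx
    rw [hm] at h3
    obtain ⟨y, hy, hyx⟩ := h3
    refine ⟨(y : G), Subgroup.mem_subgroupOf.mp hy, ?_⟩
    have := congrArg Subtype.val hyx
    simpa using this
  · rintro ⟨y, hy, rfl⟩
    have hyM : y ∈ M := hA hy
    have h3 : (MulAut.conj m).toMonoidHom (⟨y, hyM⟩ : M) ∈ B.subgroupOf M := by
      rw [hm]; exact ⟨⟨y, hyM⟩, Subgroup.mem_subgroupOf.mpr hy, rfl⟩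
    have := Subgroup.mem_subgroupOf.mp h3
    simpa using this

/-- An element of `M` whose order is coprime to `|M : M_F|` lies in `M_F`. -/
theorem mem_fittingHallOf_of_coprime [Finite G] (M : Subgroup G) {x : G} (hx : x ∈ M)
    (h : (orderOf x).Coprime ((fittingHallOf M).relIndex M)) : x ∈ fittingHallOf M := by
  rw [Cfsg.Agent.Lib.helper29.mem_fittingHallOf_iff M hx]
  rw [Cfsg.Agent.Lib.helper29.relIndex_fittingHallOf] at h
  have h1 : orderOf (QuotientGroup.mk' (fittingHall M) (⟨x, hx⟩ : M)) ∣ orderOf x := by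
    have := orderOf_map_dvd (QuotientGroup.mk' (fittingHall M)) (⟨x, hx⟩ : M)
    rwa [Subgroup.orderOf_mk] at this
  have h2 : orderOf (QuotientGroup.mk' (fittingHall M) (⟨x, hx⟩ : M)) ∣ (fittingHall M).index := by
    rw [Subgroup.index_eq_card]; exact orderOf_dvd_natCard _
  have h3 := Nat.eq_one_of_dvd_coprimes h h1 h2
  rw [orderOf_eq_one_iff] at h3
  exact (QuotientGroup.eq_one_iff _).mp h3


section TypeP

variable [Finite G] {M W₁ U W₂ : Subgroup G}

theorem card_D_mul (hP : IsTypePWith M W₁ U W₂) :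
    Nat.card (⁅M, M⁆ : Subgroup G) * Nat.card W₁ = Nat.card M :=
  Cfsg.Agent.Lib.helper29.IsComplIn.card_mul hP.W₁_compl

theorem card_H_mul (hP : IsTypePWith M W₁ U W₂) :
    Nat.card (fittingHallOf M) * Nat.card U = Nat.card (⁅M, M⁆ : Subgroup G) :=
  Cfsg.Agent.Lib.helper29.IsComplIn.card_mul hP.U_compl

theorem coprime_W_D (hP : IsTypePWith M W₁ U W₂) :
    (Nat.card W₁).Coprime (Nat.card (⁅M, M⁆ : Subgroup G)) := by
  have := hP.W₁_hall
  rwa [← Cfsg.Agent.Lib.helper29.IsComplIn.card_left hP.W₁_compl] at this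

theorem relIndex_H (hP : IsTypePWith M W₁ U W₂) :
    (fittingHallOf M).relIndex M = Nat.card U * Nat.card W₁ := by
  have h1 : Nat.card (fittingHallOf M) * (fittingHallOf M).relIndex M = Nat.card M := by
    rw [Cfsg.Agent.Lib.helper29.card_fittingHallOf, Cfsg.Agent.Lib.helper29.relIndex_fittingHallOf]
    exact Subgroup.card_mul_index _
  have h2 := card_D_mul hP
  rw [← card_H_mul hP, mul_assoc] at h2
  rw [← h2] at h1
  exact Nat.eq_of_mul_eq_mul_left Nat.card_pos h1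

theorem coprime_H_UW (hP : IsTypePWith M W₁ U W₂) :
    (Nat.card (fittingHallOf M)).Coprime (Nat.card U * Nat.card W₁) := by
  rw [← relIndex_H hP]; exact Cfsg.Agent.Lib.helper29.fittingHallOf_coprime M

theorem coprime_U_W (hP : IsTypePWith M W₁ U W₂) : (Nat.card U).Coprime (Nat.card W₁) := by
  have h := (coprime_W_D hP).symm
  rw [← card_H_mul hP] at h
  exact Nat.Coprime.coprime_mul_left h

omit [Finite G] in
theorem U_le (hP : IsTypePWith M W₁ U W₂) : U ≤ M :=
  hP.U_compl.2.1.trans (Cfsg.Agent.Lib.helper29.commutator_self_le M)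

theorem relIndex_U (hP : IsTypePWith M W₁ U W₂) :
    U.relIndex M = Nat.card (fittingHallOf M) * Nat.card W₁ := by
  have hUM : U ≤ M := U_le hP
  have h1 : Nat.card U * U.relIndex M = Nat.card M := by
    rw [Subgroup.relIndex, ← Nat.card_congr (Subgroup.subgroupOfEquivOfLe hUM).toEquiv]
    exact Subgroup.card_mul_index _
  have h2 := card_D_mul hP
  rw [← card_H_mul hP] at h2
  have h3 : Nat.card U * U.relIndex M =
      Nat.card U * (Nat.card (fittingHallOf M) * Nat.card W₁) := by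
    rw [h1, ← h2]; ring
  exact Nat.eq_of_mul_eq_mul_left Nat.card_pos h3

/-- No prime of `σ(M)` divides `#U` when `U` is abelian with `N_G(U) ⊄ M`. -/
theorem sigma_not_dvd_card_U (hP : IsTypePWith M W₁ U W₂) (hUc : IsMulCommutative U)
    (hNU : ¬ Subgroup.normalizer (U : Set G) ≤ M) {p : ℕ} (hp : p ∈ sigma M) :
    ¬ p ∣ Nat.card U := by
  intro hdvd
  have hpp : p.Prime := hp.1
  have : Fact p.Prime := ⟨hpp⟩
  have hUM : U ≤ M := U_le hP
  obtain ⟨P⟩ : Nonempty (Sylow p U) := inferInstance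
  have hPn : (P : Subgroup U).Normal := by
    constructor
    intro n hn g
    have : g * n * g⁻¹ = n := by rw [hUc.is_comm.comm g n]; group
    rw [this]; exact hn
  have huniq : ∀ u : U, (∃ k : ℕ, u ^ p ^ k = 1) → u ∈ (P : Subgroup U) := by
    intro u ⟨k, hk⟩
    have hz : IsPGroup p (Subgroup.zpowers u) := by
      rintro ⟨g, hg⟩
      obtain ⟨i, rfl⟩ := Subgroup.mem_zpowers_iff.mp hg
      refine ⟨k, Subtype.ext ?_⟩
      simp only [Subgroup.coe_pow, Subgroup.coe_one]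
      rw [← zpow_natCast, ← zpow_mul, mul_comm, zpow_mul, zpow_natCast, hk, one_zpow]
    obtain ⟨Q, hQ⟩ := hz.exists_le_sylow
    have := Sylow.unique_of_normal P hPn
    have : Q = P := Subsingleton.elim _ _
    rw [← this]; exact hQ (Subgroup.mem_zpowers u)
  set X : Subgroup G := (P : Subgroup U).map U.subtype with hX
  have hXU : X ≤ U := Subgroup.map_subtype_le _
  have hXp : IsPGroup p X := P.2.map _
  have hXi : ¬ p ∣ X.index := by
    rw [hX, Subgroup.index_map_subtype]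
    intro h
    rcases (Nat.Prime.dvd_mul hpp).mp h with h1 | h1
    · exact P.not_dvd_index h1
    · rw [← Subgroup.relIndex_mul_index hUM, relIndex_U hP] at h1
      rcases (Nat.Prime.dvd_mul hpp).mp h1 with h2 | h2
      · rcases (Nat.Prime.dvd_mul hpp).mp h2 with h3 | h3
        · exact hpp.one_lt.ne' (Nat.eq_one_of_dvd_coprimes
            (Nat.Coprime.coprime_mul_right_right (coprime_H_UW hP)) h3 hdvd)
        · exact hpp.one_lt.ne' (Nat.eq_one_of_dvd_coprimes (coprime_U_W hP) hdvd h3)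
      · exact Cfsg.Agent.Lib.helper8.bg_sigma_not_dvd_index M hp h2
  have hXM := Cfsg.Agent.Lib.helper13.sigma_normalizer_le M hp X (hXU.trans hUM) hXp hXi
  apply hNU
  refine le_trans ?_ hXM
  have key : ∀ n ∈ Subgroup.normalizer (U : Set G), ∀ x ∈ (X : Set G), n * x * n⁻¹ ∈ (X : Set G) := by
    intro n hn x hx
    have hxU : x ∈ U := hXU hx
    have hnx : n * x * n⁻¹ ∈ U := (Subgroup.mem_normalizer_iff.mp hn x).mp hxU
    obtain ⟨k, hk⟩ := hXp ⟨x, hx⟩
    have hk' : x ^ p ^ k = 1 := by simpa using congrArg Subtype.val hk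
    have : (⟨n * x * n⁻¹, hnx⟩ : U) ∈ (P : Subgroup U) := by
      apply huniq
      refine ⟨k, Subtype.ext ?_⟩
      simp only [Subgroup.coe_pow, Subgroup.coe_one]
      rw [conj_pow, hk']; group
    exact ⟨⟨n * x * n⁻¹, hnx⟩, this, rfl⟩
  exact le_normalizer_of_conj key

/-- For `M` of Type II, `M_σ = M_F`. -/
theorem sigmaCore_eq (hG : IsMinSimpleOddOrder G) (hM : IsCoatom M)
    (hP : IsTypePWith M W₁ U W₂) (hUc : IsMulCommutative U)
    (hNU : ¬ Subgroup.normalizer (U : Set G) ≤ M) :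
    sigmaCore M = fittingHallOf M := by
  apply le_antisymm _ (Cfsg.Agent.Lib.helper8.BG1355.fittingHallOf_le_sigmaCore hG M hM)
  intro x hx
  have hxD : x ∈ ⁅M, M⁆ := Cfsg.Agent.Lib.helper8.BG1355.sigmaCore_le_commutator hG M hM hx
  have hxM : x ∈ M := Cfsg.Agent.Lib.helper29.commutator_self_le M hxD
  apply mem_fittingHallOf_of_coprime M hxM
  rw [relIndex_H hP]
  apply Nat.Coprime.mul_right
  · apply Nat.coprime_of_dvd
    intro p hp h1 h2
    have h3 : p ∣ Nat.card (sigmaCore M) := h1.trans (Subgroup.orderOf_dvd_natCard _ hx)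
    have h4 : p ∈ sigma M := (Cfsg.Agent.S1350.result hG M hM).1.2.1 p hp h3
    exact sigma_not_dvd_card_U hP hUc hNU h4 h2
  · exact Nat.Coprime.coprime_dvd_left (Subgroup.orderOf_dvd_natCard _ hxD) (coprime_W_D hP).symm

/-- For `M` of Type II, `#W₁ ∈ κ(M)`. -/
theorem card_W_mem_kappa (hG : IsMinSimpleOddOrder G) (hM : IsCoatom M)
    (hP : IsTypePWith M W₁ U W₂) (hq : (Nat.card W₁).Prime) (hUc : IsMulCommutative U)
    (hNU : ¬ Subgroup.normalizer (U : Set G) ≤ M) : Nat.card W₁ ∈ kappa M := by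
  have hMs : Group.IsSolvable M := hG.2.2.2 M hM.1
  have hσ := sigmaCore_eq hG hM hP hUc hNU
  have hW₁M : W₁ ≤ M := hP.W₁_compl.2.1
  have hqM : Nat.card W₁ ∣ Nat.card M := Dvd.intro_left _ (card_D_mul hP)
  have hqσ : Nat.card W₁ ∉ sigma M := by
    intro h
    have h1 := (Cfsg.Agent.S1350.result hG M hM).1.2.2 _ hq h
    rw [hσ, relIndex_H hP] at h1
    exact h1 (dvd_mul_left _ _)
  refine ⟨hq, hqM, hqσ, ?_⟩
  intro P
  have : Fact (Nat.card W₁).Prime := ⟨hq⟩
  have hPc : Nat.card P = Nat.card W₁ := by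
    rw [Sylow.card_eq_multiplicity]
    have hfac : (Nat.card M).factorization (Nat.card W₁) = 1 := by
      rw [← card_D_mul hP, Nat.factorization_mul Nat.card_pos.ne' hq.ne_zero]
      have h0 : (Nat.card (⁅M, M⁆ : Subgroup G)).factorization (Nat.card W₁) = 0 :=
        Nat.factorization_eq_zero_of_not_dvd (fun h => hq.one_lt.ne'
          (Nat.eq_one_of_dvd_coprimes (coprime_W_D hP) dvd_rfl h))
      simp [h0, hq.factorization_self]
    rw [hfac, pow_one]
  constructor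
  · exact isCyclic_of_prime_card hPc
  · obtain ⟨m, hm, hconj⟩ := conj_in hMs W₁ ((P : Subgroup M).map M.subtype) hW₁M
      (Subgroup.map_subtype_le _) hP.W₁_hall
      (by rw [Subgroup.card_map_of_injective M.subtype_injective]; exact hPc)
    obtain ⟨w, hw, hw1⟩ := Cfsg.Agent.Lib.helper29.exists_ne_one_of_ne_bot hP.W₁_ne
    obtain ⟨z, hz, hz1⟩ := Cfsg.Agent.Lib.helper29.exists_ne_one_of_ne_bot hP.selfNormalizing.2.1
    have hmw : m * w * m⁻¹ ∈ (P : Subgroup M).map M.subtype := by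
      rw [hconj, mem_map_conj_iff]
      have : m⁻¹ * (m * w * m⁻¹) * m = w := by group
      rw [this]; exact hw
    obtain ⟨x, hxP, hxe⟩ := hmw
    have hzH : z ∈ fittingHallOf M := (hP.W₂_le hz).1
    have hwz : w * z = z * w := by
      have h1 : z ∈ (⁅M, M⁆ : Subgroup G) ⊓ Subgroup.centralizer ({w} : Set G) := by
        rw [hP.W₂_centralizer w hw hw1]; exact hz
      exact (Subgroup.mem_centralizer_iff.mp h1.2) w rfl
    have hx' : (x : G) = m * w * m⁻¹ := hxe
    refine ⟨x, hxP, ?_, m * z * m⁻¹, ?_, ?_, ?_⟩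
    · rintro rfl
      apply hw1
      have h2 : m * w * m⁻¹ = 1 := by rw [← hx']; rfl
      exact conj_eq_one_iff.mp h2
    · rw [hσ]
      exact (Subgroup.mem_normalizer_iff.mp
        (Cfsg.Agent.Lib.helper29.le_normalizer_fittingHallOf M hm) z).mp hzH
    · rw [Ne, conj_eq_one_iff]; exact hz1
    · rw [hx']
      calc m * w * m⁻¹ * (m * z * m⁻¹) = m * (w * z) * m⁻¹ := by group
        _ = m * (z * w) * m⁻¹ := by rw [hwz]
        _ = m * z * m⁻¹ * (m * w * m⁻¹) := by group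

/-- For `M` of Type II there is a standard factorisation `M = K U' M_σ` with `#K = #W₁`. -/
theorem exists_decomp (hG : IsMinSimpleOddOrder G) (hM : IsCoatom M)
    (hP : IsTypePWith M W₁ U W₂) (hq : (Nat.card W₁).Prime) (hUc : IsMulCommutative U)
    (hNU : ¬ Subgroup.normalizer (U : Set G) ≤ M) :
    ∃ K U' : Subgroup G, IsSigmaDecomposition M K U' ∧ K ≠ ⊥ ∧ Nat.card K = Nat.card W₁ := by
  obtain ⟨⟨K, hK⟩, hcyc⟩ := Cfsg.Agent.S1351.result hG M hM
  obtain ⟨⟨U', hU'⟩, -⟩ := Cfsg.Agent.S1352.result hG M hM K (hcyc K hK) hK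
  have hκ := card_W_mem_kappa hG hM hP hq hUc hNU
  have hKM : K ≤ M := hK.1
  have hcardK : Nat.card K * K.relIndex M = Nat.card M := by
    rw [Subgroup.relIndex, ← Nat.card_congr (Subgroup.subgroupOfEquivOfLe hKM).toEquiv]
    exact Subgroup.card_mul_index _
  have hqK : Nat.card W₁ ∣ Nat.card K := by
    have h1 := hK.2.2 _ hq hκ
    have h3 : Nat.card W₁ ∣ Nat.card K * K.relIndex M := by
      rw [hcardK]; exact Dvd.intro_left _ (card_D_mul hP)
    exact ((Nat.Prime.dvd_mul hq).mp h3).resolve_right h1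
  have hK1 : K ≠ ⊥ := by
    rintro rfl
    rw [Subgroup.card_bot] at hqK
    exact hq.one_lt.ne' (Nat.dvd_one.mp hqK)
  refine ⟨K, U', hU', hK1, Nat.dvd_antisymm ?_ hqK⟩
  have hDeq := (Cfsg.Agent.S1365.result hG M hM K U' hU' hK1).1
  have hDM : (⁅M, M⁆ : Subgroup G) ≤ M := Cfsg.Agent.Lib.helper29.commutator_self_le M
  have hDn : M ≤ Subgroup.normalizer ((⁅M, M⁆ : Subgroup G) : Set G) :=
    le_normalizer_of_conj (fun m hm x hx => conj_mem_derived hm hx)
  have : ((⁅M, M⁆ : Subgroup G).subgroupOf M).Normal :=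
    (Subgroup.normal_subgroupOf_iff_le_normalizer hDM).mpr hDn
  have hinf : K ⊓ (⁅M, M⁆ : Subgroup G) = ⊥ := by
    rw [eq_bot_iff]
    rintro x ⟨hxK, hxD⟩
    rw [hDeq, sup_comm] at hxD
    have hUn : U' ≤ Subgroup.normalizer (sigmaCore M : Set G) :=
      hU'.compl.1.trans (Cfsg.Agent.Lib.helper13.le_normalizer_sigmaCore M)
    obtain ⟨s, hs, u, hu, rfl⟩ :=
      Cfsg.Agent.Lib.helper29.exists_mul_of_mem_sup_of_le_normalizer hUn hxD
    have hu1 : u = 1 := by
      have : u ∈ U' ⊓ (K ⊔ sigmaCore M) := by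
        refine ⟨hu, ?_⟩
        have : u = s⁻¹ * (s * u) := by group
        rw [this]
        exact Subgroup.mul_mem _ (Subgroup.inv_mem _ (Subgroup.mem_sup_right hs))
          (Subgroup.mem_sup_left hxK)
      rw [hU'.compl.2.2.1, Subgroup.mem_bot] at this
      exact this
    rw [hu1, mul_one] at hxK ⊢
    rw [Subgroup.mem_bot]
    by_contra hs1
    have ho : orderOf s ≠ 1 := fun h => hs1 (orderOf_eq_one_iff.mp h)
    obtain ⟨p, hp, hpd⟩ := Nat.exists_prime_and_dvd ho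
    have h1 : p ∈ kappa M := hK.2.1 p hp (hpd.trans (Subgroup.orderOf_dvd_natCard _ hxK))
    have h2 : p ∈ sigma M := (Cfsg.Agent.S1350.result hG M hM).1.2.1 p hp
      (hpd.trans (Subgroup.orderOf_dvd_natCard _ hs))
    exact h1.2.2.1 h2
  have hpow : ∀ x ∈ K, x ^ Nat.card W₁ = 1 := by
    intro x hx
    have hxM := hKM hx
    have h2 : Nat.card (M ⧸ (⁅M, M⁆ : Subgroup G).subgroupOf M) = Nat.card W₁ := by
      rw [← Subgroup.index_eq_card]
      exact (Cfsg.Agent.Lib.helper29.IsComplIn.card_right hP.W₁_compl).symm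
    have h1 : (QuotientGroup.mk' ((⁅M, M⁆ : Subgroup G).subgroupOf M) ⟨x, hxM⟩) ^ Nat.card W₁
        = 1 := by
      rw [← h2]; exact pow_card_eq_one'
    rw [← map_pow] at h1
    have h3 : (⟨x, hxM⟩ : M) ^ Nat.card W₁ ∈ (⁅M, M⁆ : Subgroup G).subgroupOf M :=
      (QuotientGroup.eq_one_iff _).mp h1
    have h4 : x ^ Nat.card W₁ ∈ K ⊓ (⁅M, M⁆ : Subgroup G) :=
      ⟨K.pow_mem hx _, by simpa using Subgroup.mem_subgroupOf.mp h3⟩
    rw [hinf, Subgroup.mem_bot] at h4
    exact h4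
  have := hcyc K hK
  obtain ⟨g, hg⟩ := IsCyclic.exists_generator (α := K)
  have hcard : Nat.card K = orderOf g := (orderOf_eq_card_of_forall_mem_zpowers hg).symm
  rw [hcard]
  apply orderOf_dvd_of_pow_eq_one
  apply Subtype.ext
  simpa using hpow g g.2

/-- A subgroup of Type II is not of Type I. -/
theorem not_typeI (hG : IsMinSimpleOddOrder G) (hM : IsCoatom M)
    (hP : IsTypePWith M W₁ U W₂) (hq : (Nat.card W₁).Prime) : ¬ IsOfTypeI M := by
  rintro ⟨⟨-, -, -, -, E, -, hE, -, E₀, -, hexp, hreg⟩, -⟩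
  have : Fact (Nat.card W₁).Prime := ⟨hq⟩
  have hMs : Group.IsSolvable M := hG.2.2.2 M hM.1
  have hEc : Nat.card E = Nat.card U * Nat.card W₁ := by
    rw [← hE.symm.index_eq_card, ← Cfsg.Agent.Lib.helper29.relIndex_fittingHallOf, relIndex_H hP]
  obtain ⟨e', he'⟩ := exists_prime_orderOf_dvd_card' (G := E) (Nat.card W₁)
    (by rw [hEc]; exact dvd_mul_left _ _)
  have h1 : Nat.card W₁ ∣ Monoid.exponent E := he' ▸ Monoid.order_dvd_exponent e'
  rw [← hexp] at h1
  obtain ⟨e, he⟩ := exists_prime_orderOf_dvd_card' (G := E₀) (Nat.card W₁)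
    (h1.trans Group.exponent_dvd_nat_card)
  set eG : G := ((e : M) : G) with heG
  have hoe : orderOf eG = Nat.card W₁ := by
    rw [heG, Subgroup.orderOf_coe, Subgroup.orderOf_coe, he]
  have heM : eG ∈ M := (e : M).2
  obtain ⟨m, hm, hconj⟩ := conj_in hMs W₁ (Subgroup.zpowers eG) hP.W₁_compl.2.1
    (by rw [Subgroup.zpowers_le]; exact heM) hP.W₁_hall (by rw [Nat.card_zpowers, hoe])
  have h2 : eG ∈ W₁.map (MulAut.conj m).toMonoidHom := by
    rw [← hconj]; exact Subgroup.mem_zpowers eG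
  rw [mem_map_conj_iff] at h2
  have heq : eG = m * (m⁻¹ * eG * m) * m⁻¹ := by group
  have hw1 : m⁻¹ * eG * m ≠ 1 := by
    intro h
    have h3 : eG = 1 := by rw [heq, h]; group
    rw [h3, orderOf_one] at hoe
    exact hq.one_lt.ne hoe
  obtain ⟨z, hz, hz1⟩ := Cfsg.Agent.Lib.helper29.exists_ne_one_of_ne_bot hP.selfNormalizing.2.1
  have hzH : z ∈ fittingHallOf M := (hP.W₂_le hz).1
  have hwz : m⁻¹ * eG * m * z = z * (m⁻¹ * eG * m) := by
    have h3 : z ∈ (⁅M, M⁆ : Subgroup G) ⊓ Subgroup.centralizer ({m⁻¹ * eG * m} : Set G) := by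
      rw [hP.W₂_centralizer _ h2 hw1]; exact hz
    exact (Subgroup.mem_centralizer_iff.mp h3.2) _ rfl
  have hxH : m * z * m⁻¹ ∈ fittingHallOf M :=
    (Subgroup.mem_normalizer_iff.mp
      (Cfsg.Agent.Lib.helper29.le_normalizer_fittingHallOf M hm) z).mp hzH
  have hxM : m * z * m⁻¹ ∈ M := Cfsg.Agent.Lib.helper29.fittingHallOf_le M hxH
  have hx' : (⟨m * z * m⁻¹, hxM⟩ : M) ∈ fittingHall M :=
    (Cfsg.Agent.Lib.helper29.mem_fittingHallOf_iff M hxM).mp hxH
  have hcomm : (e : M) * ⟨m * z * m⁻¹, hxM⟩ = ⟨m * z * m⁻¹, hxM⟩ * (e : M) := by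
    apply Subtype.ext
    show eG * (m * z * m⁻¹) = m * z * m⁻¹ * eG
    calc eG * (m * z * m⁻¹) = m * (m⁻¹ * eG * m * z) * m⁻¹ := by group
      _ = m * (z * (m⁻¹ * eG * m)) * m⁻¹ := by rw [hwz]
      _ = m * z * m⁻¹ * eG := by group
  have he1 : (e : M) ≠ 1 := by
    intro h
    have h3 : orderOf (e : M) = 1 := by rw [h, orderOf_one]
    rw [Subgroup.orderOf_coe, he] at h3
    exact hq.one_lt.ne' h3
  have h4 := hreg (e : M) e.2 he1 _ hx' hcomm
  apply hz1
  have h5 : m * z * m⁻¹ = 1 := congrArg Subtype.val h4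
  exact conj_eq_one_iff.mp h5

/-- Complements of `M_F` in `M'` for two sets of type-P data are conjugate in `M`, so the
condition `N_G(U) ≤ M` does not depend on the data. -/
theorem normalizer_not_le_of (hG : IsMinSimpleOddOrder G) (hM : IsCoatom M)
    (hP : IsTypePWith M W₁ U W₂) (hNU : ¬ Subgroup.normalizer (U : Set G) ≤ M)
    {W₁' U' W₂' : Subgroup G} (hP' : IsTypePWith M W₁' U' W₂') :
    ¬ Subgroup.normalizer (U' : Set G) ≤ M := by
  intro h
  have hMs : Group.IsSolvable M := hG.2.2.2 M hM.1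
  have hc : Nat.card U' = Nat.card U :=
    Nat.eq_of_mul_eq_mul_left Nat.card_pos ((card_H_mul hP').trans (card_H_mul hP).symm)
  obtain ⟨m, hm, hconj⟩ := conj_in hMs U U' (U_le hP) (U_le hP')
    (by
      rw [relIndex_U hP]
      exact Nat.Coprime.mul_right (Nat.Coprime.coprime_mul_right_right (coprime_H_UW hP)).symm
        (coprime_U_W hP)) hc
  apply hNU
  intro n hn
  have h1 : m * n * m⁻¹ ∈ Subgroup.normalizer (U' : Set G) := by
    rw [Subgroup.mem_normalizer_iff]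
    intro y
    rw [hconj, mem_map_conj_iff, mem_map_conj_iff, (Subgroup.mem_normalizer_iff.mp hn) (m⁻¹ * y * m)]
    have : m⁻¹ * (m * n * m⁻¹ * y * (m * n * m⁻¹)⁻¹) * m = n * (m⁻¹ * y * m) * n⁻¹ := by group
    rw [this]
  have h2 := h h1
  have : n = m⁻¹ * (m * n * m⁻¹) * m := by group
  rw [this]
  exact M.mul_mem (M.mul_mem (M.inv_mem hm) h2) hm

end TypeP


/-- **S1538.** For a maximal subgroup `M` of Type II, each of `A₀(M)`, `A(M)`, `A₁(M)` is a
TI-subset of `G` with normalizer `M`. -/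
theorem typeII_TI [Finite G] (hG : IsMinSimpleOddOrder G) (M : Subgroup G) (hM : IsCoatom M)
    (hII : IsOfTypeII M) :
    (IsTISubset (typeA0 M) ∧ Subgroup.normalizer (typeA0 M) = M) ∧
    (IsTISubset (typeA M) ∧ Subgroup.normalizer (typeA M) = M) ∧
    (IsTISubset (typeA1 M) ∧ Subgroup.normalizer (typeA1 M) = M) := by
  obtain ⟨W₁, U, W₂, hP, hU1, hq, hTIF, hUc, hNU, -, -⟩ := hII
  have hs : IsSimpleGroup G := hG.2.1
  have hσ := sigmaCore_eq hG hM hP hUc hNU
  obtain ⟨K, U', hKU, hK1, hKq⟩ := exists_decomp hG hM hP hq hUc hNU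
  have hDeq : (⁅M, M⁆ : Subgroup G) = U' ⊔ sigmaCore M :=
    (Cfsg.Agent.S1365.result hG M hM K U' hKU hK1).1
  have hTIb := Cfsg.Agent.S1362.result hG M hM K U' hKU
  obtain ⟨hCeq, hTIc⟩ := Cfsg.Agent.S1371.result hG M hM K U' hKU hK1
  have hnI := not_typeI hG hM hP hq
  have hcore : typeCore M = fittingHallOf M := by
    unfold typeCore
    rw [if_neg]
    rintro (⟨W₁', U'', W₂', hP', -, -, -, -, hN⟩ | ⟨W₁', U'', W₂', hP', -, -, -, -, hN⟩)
    · exact normalizer_not_le_of hG hM hP hNU hP' hN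
    · exact normalizer_not_le_of hG hM hP hNU hP' hN
  have hDM : (⁅M, M⁆ : Subgroup G) ≤ M := Cfsg.Agent.Lib.helper29.commutator_self_le M
  have hHD : fittingHallOf M ≤ (⁅M, M⁆ : Subgroup G) := hP.U_compl.1
  have hHM : fittingHallOf M ≤ M := hHD.trans hDM
  have hH1 : ∃ x ∈ fittingHallOf M, x ≠ 1 := by
    apply Cfsg.Agent.Lib.helper29.exists_ne_one_of_ne_bot
    intro h
    apply hP.H_not_cyclic
    rw [h]
    infer_instance
  have hHn := Cfsg.Agent.Lib.helper29.le_normalizer_fittingHallOf M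
  have hDn : M ≤ Subgroup.normalizer ((⁅M, M⁆ : Subgroup G) : Set G) :=
    le_normalizer_of_conj (fun m hm x hx => conj_mem_derived hm hx)
  have hDrel : (⁅M, M⁆ : Subgroup G).relIndex M = Nat.card W₁ :=
    (Cfsg.Agent.Lib.helper29.IsComplIn.card_right hP.W₁_compl).symm
  -- order invariants
  have hIb : ∀ x ∈ M, x ∉ fittingHallOf M → x ^ Nat.card (fittingHallOf M) ≠ 1 := by
    intro x hxM hxH h
    apply hxH
    apply mem_fittingHallOf_of_coprime M hxM
    exact Nat.Coprime.coprime_dvd_left (orderOf_dvd_of_pow_eq_one h)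
      (Cfsg.Agent.Lib.helper29.fittingHallOf_coprime M)
  have hIc : ∀ x ∈ M, x ∉ (⁅M, M⁆ : Subgroup G) →
      x ^ Nat.card (⁅M, M⁆ : Subgroup G) ≠ 1 := by
    intro x hxM hxD h
    apply hxD
    apply mem_of_coprime_normal hDM hDn hxM
    rw [hDrel]
    exact Nat.Coprime.coprime_dvd_left (orderOf_dvd_of_pow_eq_one h) (coprime_W_D hP).symm
  have hconjpow : ∀ (g x : G) (n : ℕ), (g * x * g⁻¹) ^ n = 1 ↔ x ^ n = 1 := by
    intro g x n
    rw [conj_pow, conj_eq_one_iff]
  -- membership descriptions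
  have mA1 : ∀ x, x ∈ typeA1 M ↔ (x ∈ fittingHallOf M ∧ x ≠ 1) := by
    intro x
    unfold typeA1
    rw [hcore]
    simp
  have mA : ∀ a, a ∈ typeA M ↔ (a ∈ (⁅M, M⁆ : Subgroup G) ∧ a ≠ 1 ∧
      ∃ x ∈ fittingHallOf M, x ≠ 1 ∧ a * x = x * a) := by
    intro a
    unfold typeA
    rw [if_neg hnI, hcore]
    rfl
  have mA0 : ∀ v, v ∈ typeA0 M ↔ (v ∈ typeA M ∨ (¬ IsOfTypeI M ∧
      ∃ W₁ U W₂ : Subgroup G, IsTypePWith M W₁ U W₂ ∧
        ∃ m ∈ M, ∃ w ∈ W₁ ⊔ W₂, w ∉ W₁ ∧ w ∉ W₂ ∧ v = m * w * m⁻¹)) := fun v => Iff.rfl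
  -- the classes `A(M) ∖ M_σ` and the conjugates of `Ŵ`
  have hXbD : ∀ x ∈ sigmaA M U' \ (sigmaCore M : Set G),
      x ∈ (⁅M, M⁆ : Subgroup G) ∧ x ∉ fittingHallOf M := by
    intro x hx
    refine ⟨?_, ?_⟩
    · rw [hDeq]; exact hx.1.2
    · rw [← hσ]; exact hx.2
  have hXcD : ∀ x ∈ sigmaA0 M K \ sigmaA M U', x ∈ M ∧ x ∉ (⁅M, M⁆ : Subgroup G) := by
    intro x hx
    refine ⟨hx.1.1.1, fun h => hx.2 ⟨hx.1.1, ?_⟩⟩
    show x ∈ ((U' ⊔ sigmaCore M : Subgroup G) : Set G)
    rw [← hDeq]; exact h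
  have hNa : Subgroup.normalizer (fittingOf M : Set G) = M := by
    obtain ⟨x, hx, hx1⟩ := hH1
    exact normalizer_eq_of_coatom' hs hM (Cfsg.Agent.Lib.helper86.BG1356.fittingOf_le_self M)
      ⟨x, Cfsg.Agent.Lib.helper86.BG1356.fittingHallOf_le_fittingOf M hx, hx1⟩
      (Cfsg.Agent.Lib.helper86.BG1356.le_normalizer_fittingOf M)
  have hNb : ∀ x ∈ sigmaA M U' \ (sigmaCore M : Set G),
      Subgroup.normalizer (sigmaA M U' \ (sigmaCore M : Set G)) = M := by
    intro x hx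
    refine normalizer_eq_of_coatom hs hM (fun y hy => hy.1.1.1) ⟨x, hx, ?_⟩
      (fun m hm y hy => Cfsg.Agent.Lib.helper60.BGTI.conj_mem_sigmaA_diff M K U' hKU m hm y hy)
    rintro rfl
    exact hx.2 (Subgroup.one_mem _)
  have hNc : ∀ x ∈ sigmaA0 M K \ sigmaA M U',
      Subgroup.normalizer (sigmaA0 M K \ sigmaA M U') = M := by
    intro x hx
    refine normalizer_eq_of_coatom hs hM (fun y hy => hy.1.1.1) ⟨x, hx, ?_⟩ ?_
    · rintro rfl
      exact (hXcD 1 hx).2 (Subgroup.one_mem _)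
    · intro m hm y hy
      rw [← hCeq] at hy ⊢
      obtain ⟨m₀, hm₀, z, hz, rfl⟩ := hy
      exact ⟨m * m₀, M.mul_mem hm hm₀, z, hz, by group⟩
  -- classification of the elements of `A₀(M)`
  have hcls : ∀ x ∈ typeA0 M, (x ∈ fittingHallOf M ∧ x ≠ 1) ∨
      x ∈ sigmaA M U' \ (sigmaCore M : Set G) ∨ x ∈ sigmaA0 M K \ sigmaA M U' := by
    intro x hx
    rcases (mA0 x).mp hx with hxA | ⟨-, W₁'', U'', W₂'', hP'', m, hm, w, hw, hw1, hw2, rfl⟩
    · obtain ⟨hxD, hx1, y, hy, hy1, hxy⟩ := (mA x).mp hxA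
      by_cases hxH : x ∈ fittingHallOf M
      · exact Or.inl ⟨hxH, hx1⟩
      · refine Or.inr (Or.inl ⟨⟨⟨hDM hxD, y, by rw [hσ]; exact hy, hy1, hxy⟩, ?_⟩, ?_⟩)
        · show x ∈ ((U' ⊔ sigmaCore M : Subgroup G) : Set G)
          rw [← hDeq]; exact hxD
        · rw [hσ]; exact hxH
    · right; right
      obtain ⟨a, ha, b, hb, rfl⟩ := Cfsg.Agent.Lib.helper29.exists_mul_of_mem_sup_of_commute
        hP''.selfNormalizing.2.2.2.1 hw
      have ha1 : a ≠ 1 := by
        rintro rfl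
        apply hw2
        simpa using hb
      have hb1 : b ≠ 1 := by
        rintro rfl
        apply hw1
        simpa using ha
      have hab : a * b = b * a := hP''.selfNormalizing.2.2.2.1 a ha b hb
      have hbH : b ∈ fittingHallOf M := (hP''.W₂_le hb).1
      have hbD : b ∈ (⁅M, M⁆ : Subgroup G) := hHD hbH
      have haM : a ∈ M := hP''.W₁_compl.2.1 ha
      have haD : a ∉ (⁅M, M⁆ : Subgroup G) := by
        intro h
        have : a ∈ (⁅M, M⁆ : Subgroup G) ⊓ W₁'' := ⟨h, ha⟩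
        rw [hP''.W₁_compl.2.2.1, Subgroup.mem_bot] at this
        exact ha1 this
      have hxM : m * (a * b) * m⁻¹ ∈ M :=
        M.mul_mem (M.mul_mem hm (M.mul_mem haM (hDM hbD))) (M.inv_mem hm)
      have hcW : Nat.card W₁'' = Nat.card W₁ :=
        Nat.eq_of_mul_eq_mul_left Nat.card_pos ((card_D_mul hP'').trans (card_D_mul hP).symm)
      have h1 : m * (a * b) * m⁻¹ ∈ sigmaHat M := by
        refine ⟨hxM, m * b * m⁻¹, ?_, ?_, ?_⟩
        · rw [hσ]; exact (Subgroup.mem_normalizer_iff.mp (hHn hm) b).mp hbH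
        · rw [Ne, conj_eq_one_iff]; exact hb1
        · calc m * (a * b) * m⁻¹ * (m * b * m⁻¹) = m * (a * b * b) * m⁻¹ := by group
            _ = m * (b * (a * b)) * m⁻¹ := by
              have hc : a * b * b = b * (a * b) := by
                conv_lhs => rw [hab]
                rw [mul_assoc]
              rw [hc]
            _ = m * b * m⁻¹ * (m * (a * b) * m⁻¹) := by group
      have h2 : m * (a * b) * m⁻¹ ∉ {c | ∃ k ∈ K, k ≠ 1 ∧ ∃ m' ∈ M, c = m' * k * m'⁻¹} := by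
        rintro ⟨k, hk, -, m', -, he⟩
        have hk' : k ^ Nat.card W₁ = 1 := by rw [← hKq]; exact pow_card_of_mem hk
        have h3 : (m * (a * b) * m⁻¹) ^ Nat.card W₁ = 1 := by
          rw [he, conj_pow, hk']; group
        rw [conj_pow, conj_eq_one_iff, (show Commute a b from hab).mul_pow] at h3
        have ha' : a ^ Nat.card W₁ = 1 := by rw [← hcW]; exact pow_card_of_mem ha
        rw [ha', one_mul] at h3
        have h4 : orderOf b ∣ Nat.card W₁ := orderOf_dvd_of_pow_eq_one h3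
        have h5 : orderOf b ∣ Nat.card (⁅M, M⁆ : Subgroup G) :=
          Subgroup.orderOf_dvd_natCard _ hbD
        exact hb1 (orderOf_eq_one_iff.mp (Nat.eq_one_of_dvd_coprimes (coprime_W_D hP) h4 h5))
      have h3 : m * (a * b) * m⁻¹ ∉ sigmaA M U' := by
        rintro ⟨-, h⟩
        have h' : m * (a * b) * m⁻¹ ∈ (⁅M, M⁆ : Subgroup G) := by rw [hDeq]; exact h
        have h'' : a * b ∈ (⁅M, M⁆ : Subgroup G) := by
          have := conj_mem_derived (M.inv_mem hm) h'
          simpa [mul_assoc] using this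
        apply haD
        have : a = a * b * b⁻¹ := by group
        rw [this]
        exact Subgroup.mul_mem _ h'' (Subgroup.inv_mem _ hbD)
      exact ⟨⟨h1, h2⟩, h3⟩
  have hA0M : typeA0 M ⊆ (M : Set G) := by
    intro x hx
    rcases hcls x hx with ⟨h, -⟩ | h | h
    · exact hHM h
    · exact h.1.1.1
    · exact h.1.1.1
  -- the key fusion statement
  have key : ∀ g : G, ∀ x ∈ typeA0 M, g * x * g⁻¹ ∈ typeA0 M → g ∈ M := by
    intro g x hx hgx
    rcases hcls x hx with ⟨hxH, hx1⟩ | hxb | hxc <;>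
      rcases hcls _ hgx with ⟨hyH, hy1⟩ | hyb | hyc
    · by_contra hg
      exact hx1 (hTIF g (by rw [hNa]; exact hg) x
        (Cfsg.Agent.Lib.helper86.BG1356.fittingHallOf_le_fittingOf M hxH)
        (Cfsg.Agent.Lib.helper86.BG1356.fittingHallOf_le_fittingOf M hyH))
    · exfalso
      exact hIb _ hyb.1.1.1 (hXbD _ hyb).2 ((hconjpow g x _).mpr (pow_card_of_mem hxH))
    · exfalso
      exact hIc _ (hXcD _ hyc).1 (hXcD _ hyc).2 ((hconjpow g x _).mpr (pow_card_of_mem (hHD hxH)))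
    · exfalso
      exact hIb _ hxb.1.1.1 (hXbD _ hxb).2 ((hconjpow g x _).mp (pow_card_of_mem hyH))
    · by_contra hg
      have h1 := hTIb g (by rw [hNb x hxb]; exact hg) x hxb hyb
      exact hxb.2 (by rw [h1]; exact Subgroup.one_mem _)
    · exfalso
      exact hIc _ (hXcD _ hyc).1 (hXcD _ hyc).2
        ((hconjpow g x _).mpr (pow_card_of_mem (hXbD _ hxb).1))
    · exfalso
      exact hIc _ (hXcD _ hxc).1 (hXcD _ hxc).2
        ((hconjpow g x _).mp (pow_card_of_mem (hHD hyH)))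
    · exfalso
      exact hIc _ (hXcD _ hxc).1 (hXcD _ hxc).2
        ((hconjpow g x _).mp (pow_card_of_mem (hXbD _ hyb).1))
    · by_contra hg
      have h1 := hTIc g (by rw [hNc x hxc]; exact hg) x hxc hyc
      exact (hXcD _ hxc).2 (by rw [h1]; exact Subgroup.one_mem _)
  have fin : ∀ X : Set G, X ⊆ typeA0 M → (∃ x ∈ X, x ≠ 1) →
      (∀ m ∈ M, ∀ x ∈ X, m * x * m⁻¹ ∈ X) →
      IsTISubset X ∧ Subgroup.normalizer X = M := by
    intro X hsub hne hinv
    have hN := normalizer_eq_of_coatom hs hM (hsub.trans hA0M) hne hinv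
    refine ⟨?_, hN⟩
    intro g hg x hx hgx
    exfalso
    apply hg
    rw [hN]
    exact key g x (hsub hx) (hsub hgx)
  have s1 : typeA1 M ⊆ typeA M := by
    intro x hx
    obtain ⟨hxH, hx1⟩ := (mA1 x).mp hx
    exact (mA x).mpr ⟨hHD hxH, hx1, x, hxH, hx1, rfl⟩
  have s2 : typeA M ⊆ typeA0 M := fun x hx => (mA0 x).mpr (Or.inl hx)
  obtain ⟨x₀, hx₀, hx₀1⟩ := hH1
  have n1 : x₀ ∈ typeA1 M := (mA1 x₀).mpr ⟨hx₀, hx₀1⟩
  have i1 : ∀ m ∈ M, ∀ x ∈ typeA1 M, m * x * m⁻¹ ∈ typeA1 M := by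
    intro m hm x hx
    obtain ⟨hxH, hx1⟩ := (mA1 x).mp hx
    refine (mA1 _).mpr ⟨(Subgroup.mem_normalizer_iff.mp (hHn hm) x).mp hxH, ?_⟩
    rw [Ne, conj_eq_one_iff]; exact hx1
  have i2 : ∀ m ∈ M, ∀ x ∈ typeA M, m * x * m⁻¹ ∈ typeA M := by
    intro m hm x hx
    obtain ⟨hxD, hx1, y, hy, hy1, hxy⟩ := (mA x).mp hx
    refine (mA _).mpr ⟨conj_mem_derived hm hxD, ?_, m * y * m⁻¹,
      (Subgroup.mem_normalizer_iff.mp (hHn hm) y).mp hy, ?_, ?_⟩
    · rw [Ne, conj_eq_one_iff]; exact hx1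
    · rw [Ne, conj_eq_one_iff]; exact hy1
    · calc m * x * m⁻¹ * (m * y * m⁻¹) = m * (x * y) * m⁻¹ := by group
        _ = m * (y * x) * m⁻¹ := by rw [hxy]
        _ = m * y * m⁻¹ * (m * x * m⁻¹) := by group
  have i3 : ∀ m ∈ M, ∀ x ∈ typeA0 M, m * x * m⁻¹ ∈ typeA0 M := by
    intro m hm x hx
    rcases (mA0 x).mp hx with hxA | ⟨h0, W₁'', U'', W₂'', hP'', m₀, hm₀, w, hw, hw1, hw2, rfl⟩
    · exact (mA0 _).mpr (Or.inl (i2 m hm x hxA))
    · exact (mA0 _).mpr (Or.inr ⟨h0, W₁'', U'', W₂'', hP'', m * m₀, M.mul_mem hm hm₀, w, hw,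
        hw1, hw2, by group⟩)
  exact ⟨fin _ subset_rfl ⟨x₀, s2 (s1 n1), hx₀1⟩ i3, fin _ s2 ⟨x₀, s1 n1, hx₀1⟩ i2,
    fin _ (s1.trans s2) ⟨x₀, n1, hx₀1⟩ i1⟩

end Cfsg.Agent.Lib.helper65.BGType2
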