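import Mathlib
import Cfsg.Prelude.Def_OddOrderLocal
import Cfsg.Prelude.Def_OddOrderChar
import Cfsg.Agent.Lib.helper65.BGType2
import Cfsg.Agent.Lib.helper88.BG1433
import Cfsg.Agent.Lib.helper60.BGTI
import Cfsg.Agent.Lib.helper54.BGTypes
import Cfsg.Agent.Lib.helper3.BG1390
import Cfsg.Agent.Lib.helper69.BGKappaA
import Cfsg.Agent.S1350
import Cfsg.Agent.S1351
import Cfsg.Agent.S1352
import Cfsg.Agent.S1354
import Cfsg.Agent.S1355
import Cfsg.Agent.S1356
import Cfsg.Agent.S1357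
import Cfsg.Agent.S1362
import Cfsg.Agent.S1363
import Cfsg.Agent.S1364
import Cfsg.Agent.S1365
import Cfsg.Agent.S1370
import Cfsg.Agent.S1371
import Cfsg.Agent.S1374
import Cfsg.Agent.S1375
import Cfsg.Agent.S1378
import Cfsg.Agent.S1432
import Cfsg.Agent.S1436

/-!
# Dade's hypothesis for the sets `A₁(M)`, `A(M)`, `A₀(M)` (statement S1537)

Let `M = K U M_σ` be a standard factorisation of a maximal subgroup of a minimal simple group of odd
order.  The set `A₀σ = A₀(M) ∖ {1}` (in the `σ`-language: `sigmaA0 M K ∖ {1}`) splits into three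
classes that are not fused in `G`:

* `M_σ ∖ {1}`: fusion is controlled by `M` (S1374), `R(a)` is described by S1375;
* `A(M) ∖ M_σ`: a TI-subset with normalizer `M` (S1362);
* `A₀(M) ∖ A(M)`: a TI-subset with normalizer `M` (S1371).

This gives Dade's hypothesis for `A₀σ` (`dade_A0`); it passes to `M`-invariant subsets
(`dade_subset`), and the sets `typeA1 M`, `typeA M`, `typeA0 M` of the type language are such
subsets (`typeA1_sub`, `typeA_sub`, `typeA0_sub`).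
-/

set_option autoImplicit false

namespace Cfsg.Agent.Lib.helper65.BGDade

open Cfsg Subgroup
open Cfsg.Agent.Lib.helper65.BGType2
open Cfsg.Agent.Lib.helper88.BG1433 (supportR_le_centralizer supportR_eq_bot_of_le
  supportR_eq_of_unique fusion_of_H1374 centralizer_le_of_le_map_conj self_mem_centralizer)

variable {G : Type*} [Group G]

/-! ### Generic facts -/

/-- Dade's hypothesis passes to `L`-invariant subsets. -/
theorem dade_subset {A B : Set G} {L : Subgroup G} {H : G → Subgroup G}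
    (h : DadeHypothesis A L H) (hBA : B ⊆ A) (hB : ∀ x ∈ L, ∀ b ∈ B, x * b * x⁻¹ ∈ B) :
    DadeHypothesis B L H where
  one_not_mem := fun h1 => h.one_not_mem (hBA h1)
  subset := hBA.trans h.subset
  conj_mem := hB
  fusion := fun a ha g hg => h.fusion a (hBA ha) g (hBA hg)
  le_centralizer := fun a ha => h.le_centralizer a (hBA ha)
  conj_mem_H := fun a ha => h.conj_mem_H a (hBA ha)
  inf_eq_bot := fun a ha => h.inf_eq_bot a (hBA ha)
  sup_eq := fun a ha => h.sup_eq a (hBA ha)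
  coprime := fun a ha b hb => h.coprime a (hBA ha) b (hBA hb)

/-- Membership in a normal Hall subgroup `N` of `M` is detected by the `|N|`-th power. -/
theorem mem_iff_pow_card [Finite G] {M N : Subgroup G} (hNM : N ≤ M)
    (hn : M ≤ normalizer (N : Set G)) (hcop : (Nat.card N).Coprime (N.relIndex M)) {x : G}
    (hx : x ∈ M) : x ∈ N ↔ x ^ Nat.card N = 1 := by
  constructor
  · exact fun h => pow_card_of_mem h
  · intro h
    apply mem_of_coprime_normal hNM hn hx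
    exact Nat.Coprime.coprime_dvd_left (orderOf_dvd_of_pow_eq_one h) hcop

/-- The `n`-th power being trivial is a conjugation invariant. -/
theorem conj_pow_eq_one_iff (g a : G) (n : ℕ) : (g * a * g⁻¹) ^ n = 1 ↔ a ^ n = 1 := by
  rw [conj_pow]
  constructor
  · intro h
    have e : a ^ n = g⁻¹ * (g * a ^ n * g⁻¹) * g := by group
    rw [e, h]; group
  · intro h
    rw [h]; group

theorem conj_eq_of_mem_centralizer {a c : G} (hc : c ∈ centralizer ({a} : Set G)) :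
    c * a * c⁻¹ = a := by
  have h := Subgroup.mem_centralizer_iff.mp hc a rfl
  rw [← h]; group

/-- Elements of a TI-subset with normalizer `M` are only fused by elements of `M`. -/
theorem mem_of_TI {X : Set G} {M : Subgroup G} (hTI : IsTISubset X)
    (hN : normalizer X = M) {a g : G} (ha : a ∈ X) (ha1 : a ≠ 1) (hg : g * a * g⁻¹ ∈ X) :
    g ∈ M := by
  by_contra h
  exact ha1 (hTI g (hN ▸ h) a ha hg)

/-! ### The standard factorisation -/

theorem hat_conj {M : Subgroup G} {m a : G} (hm : m ∈ M) (ha : a ∈ sigmaHat M) :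
    m * a * m⁻¹ ∈ sigmaHat M := by
  obtain ⟨haM, y, hy, hy1, hay⟩ := ha
  have hn := Subgroup.mem_normalizer_iff.mp (Cfsg.Agent.Lib.helper13.le_normalizer_sigmaCore M hm)
  refine ⟨M.mul_mem (M.mul_mem hm haM) (M.inv_mem hm), m * y * m⁻¹, (hn y).mp hy, ?_, ?_⟩
  · intro h
    apply hy1
    have e : y = m⁻¹ * (m * y * m⁻¹) * m := by group
    rw [e, h]; group
  · calc m * a * m⁻¹ * (m * y * m⁻¹) = m * (a * y) * m⁻¹ := by group
      _ = m * (y * a) * m⁻¹ := by rw [hay]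
      _ = m * y * m⁻¹ * (m * a * m⁻¹) := by group

theorem sigmaA0_conj {M K : Subgroup G} {m a : G} (hm : m ∈ M) (ha : a ∈ sigmaA0 M K) :
    m * a * m⁻¹ ∈ sigmaA0 M K := by
  obtain ⟨haH, hak⟩ := ha
  refine ⟨hat_conj hm haH, ?_⟩
  rintro ⟨k, hk, hk1, m', hm', he⟩
  apply hak
  refine ⟨k, hk, hk1, m⁻¹ * m', M.mul_mem (M.inv_mem hm) hm', ?_⟩
  have e : a = m⁻¹ * (m * a * m⁻¹) * m := by group
  rw [e, he]; group

theorem A0_conj {M K : Subgroup G} {m a : G} (hm : m ∈ M) (ha : a ∈ sigmaA0 M K \ {1}) :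
    m * a * m⁻¹ ∈ sigmaA0 M K \ {1} := by
  refine ⟨sigmaA0_conj hm ha.1, ?_⟩
  intro h
  apply ha.2
  have h' : m * a * m⁻¹ = 1 := h
  have e : a = m⁻¹ * (m * a * m⁻¹) * m := by group
  show a = 1
  rw [e, h']; group

/-- `U` complements `M_σ` in `U M_σ`. -/
theorem compl_U_Ms {M K U : Subgroup G} (hKU : IsSigmaDecomposition M K U) :
    IsComplIn U (sigmaCore M) (U ⊔ sigmaCore M) := by
  obtain ⟨hUM, hKMs, hdisj, hprod⟩ := hKU.compl
  have hn : M ≤ normalizer (sigmaCore M : Set G) :=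
    Cfsg.Agent.Lib.helper13.le_normalizer_sigmaCore M
  refine ⟨le_sup_left, le_sup_right, ?_, ?_⟩
  · rw [eq_bot_iff, ← hdisj]
    exact inf_le_inf_left _ le_sup_right
  · intro m hm
    rw [sup_comm] at hm
    obtain ⟨n, hn', u, hu, rfl⟩ := Cfsg.Agent.Lib.helper1.mem_sup_normal_left (hUM.trans hn) hm
    refine ⟨u, hu, u⁻¹ * n * u, ?_, by group⟩
    have h2 := (Subgroup.mem_normalizer_iff.mp (hn (M.inv_mem (hUM hu))) n).mp hn'
    rwa [inv_inv] at h2

/-- `K` complements `U M_σ` in `M`. -/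
theorem compl_D_K [Finite G] {M K U : Subgroup G} (hKU : IsSigmaDecomposition M K U)
    (hHall : IsPiHallOf (sigma M) (sigmaCore M) M) : IsComplIn (U ⊔ sigmaCore M) K M := by
  obtain ⟨hUM, hKMs, hdisj, hprod⟩ := hKU.compl
  have hKM : K ≤ M := hKU.hall.1
  have hn : M ≤ normalizer (sigmaCore M : Set G) :=
    Cfsg.Agent.Lib.helper13.le_normalizer_sigmaCore M
  have hKs : K ⊓ sigmaCore M = ⊥ := Cfsg.Agent.Lib.helper69.bgk_K_inf_sigmaCore hKU.hall hHall
  refine ⟨sup_le hUM hHall.1, hKM, ?_, ?_⟩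
  · rw [eq_bot_iff]
    rintro x ⟨hxD, hxK⟩
    have hxD' : x ∈ sigmaCore M ⊔ U := by
      have h : x ∈ U ⊔ sigmaCore M := hxD
      rwa [sup_comm] at h
    obtain ⟨n, hn', u, hu, rfl⟩ := Cfsg.Agent.Lib.helper1.mem_sup_normal_left (hUM.trans hn) hxD'
    have hu1 : u ∈ U ⊓ (K ⊔ sigmaCore M) := by
      refine ⟨hu, ?_⟩
      have e : u = n⁻¹ * (n * u) := by group
      rw [e]
      exact (K ⊔ sigmaCore M).mul_mem ((K ⊔ sigmaCore M).inv_mem (Subgroup.mem_sup_right hn'))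
        (Subgroup.mem_sup_left hxK)
    rw [hdisj, mem_bot] at hu1
    subst hu1
    rw [mul_one] at hxK ⊢
    have h2 : n ∈ K ⊓ sigmaCore M := ⟨hxK, hn'⟩
    rw [hKs] at h2
    exact h2
  · intro m hm
    obtain ⟨u, hu, c, hc, rfl⟩ := hprod m hm
    rw [sup_comm] at hc
    obtain ⟨n, hn', k, hk, rfl⟩ := Cfsg.Agent.Lib.helper1.mem_sup_normal_left (hKM.trans hn) hc
    refine ⟨u * n, ?_, k, hk, by group⟩
    exact (U ⊔ sigmaCore M).mul_mem (Subgroup.mem_sup_left hu) (Subgroup.mem_sup_right hn')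

theorem coprime_Ms [Finite G] {M : Subgroup G} (hHall : IsPiHallOf (sigma M) (sigmaCore M) M) :
    (Nat.card (sigmaCore M)).Coprime ((sigmaCore M).relIndex M) :=
  Nat.coprime_of_dvd fun p hp h1 h2 => hHall.2.2 p hp (hHall.2.1 p hp h1) h2

theorem coprime_K_Ms [Finite G] {M K : Subgroup G} (hK : IsPiHallOf (kappa M) K M)
    (hHall : IsPiHallOf (sigma M) (sigmaCore M) M) :
    (Nat.card K).Coprime (Nat.card (sigmaCore M)) :=
  Nat.coprime_of_dvd fun p hp h1 h2 => (hK.2.1 p hp h1).2.2.1 (hHall.2.1 p hp h2)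

theorem coprime_D_K [Finite G] {M K U : Subgroup G} (hKU : IsSigmaDecomposition M K U)
    (hHall : IsPiHallOf (sigma M) (sigmaCore M) M) :
    (Nat.card ↥(U ⊔ sigmaCore M)).Coprime (Nat.card K) := by
  rw [← Cfsg.Agent.Lib.helper29.IsComplIn.card_mul (compl_U_Ms hKU)]
  apply Nat.Coprime.mul_left
  · apply Nat.coprime_of_dvd
    intro p hp h1 h2
    exact ((Cfsg.Agent.Lib.helper69.bgk_decomp_hall hHall hKU).2.1 p hp h1).2.1
      (hKU.hall.2.1 p hp h2)
  · exact (coprime_K_Ms hKU.hall hHall).symm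

theorem coprime_D [Finite G] {M K U : Subgroup G} (hKU : IsSigmaDecomposition M K U)
    (hHall : IsPiHallOf (sigma M) (sigmaCore M) M) :
    (Nat.card ↥(U ⊔ sigmaCore M)).Coprime ((U ⊔ sigmaCore M).relIndex M) := by
  rw [← Cfsg.Agent.Lib.helper29.IsComplIn.card_right (compl_D_K hKU hHall)]
  exact coprime_D_K hKU hHall

theorem K_ne_bot_of_not_mem {M K U : Subgroup G} (hKU : IsSigmaDecomposition M K U) {a : G}
    (haM : a ∈ M) (haD : a ∉ U ⊔ sigmaCore M) : K ≠ ⊥ := by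
  intro hK
  apply haD
  obtain ⟨u, hu, b, hb, rfl⟩ := hKU.compl.2.2.2 a haM
  rw [hK, bot_sup_eq] at hb
  exact (U ⊔ sigmaCore M).mul_mem (Subgroup.mem_sup_left hu) (Subgroup.mem_sup_right hb)

/-- Fusion of elements of `A(M) ∖ M_σ` takes place in `M`. -/
theorem ti2 [Finite G] (hG : IsMinSimpleOddOrder G) {M K U : Subgroup G} (hM : IsCoatom M)
    (hKU : IsSigmaDecomposition M K U) {a : G} (haH : a ∈ sigmaHat M)
    (haD : a ∈ U ⊔ sigmaCore M) (haMs : a ∉ sigmaCore M) {g : G}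
    (hgH : g * a * g⁻¹ ∈ sigmaHat M) (hgD : g * a * g⁻¹ ∈ U ⊔ sigmaCore M)
    (hgMs : g * a * g⁻¹ ∉ sigmaCore M) : g ∈ M := by
  have ha : a ∈ sigmaA M U \ (sigmaCore M : Set G) := ⟨⟨haH, haD⟩, haMs⟩
  have ha1 : a ≠ 1 := fun h => haMs (h ▸ one_mem _)
  have hN : normalizer (sigmaA M U \ (sigmaCore M : Set G)) = M :=
    normalizer_eq_of_coatom hG.2.1 hM (fun x hx => hx.1.1.1) ⟨a, ha, ha1⟩
      (fun m hm x hx => Cfsg.Agent.Lib.helper60.BGTI.conj_mem_sigmaA_diff M K U hKU m hm x hx)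
  exact mem_of_TI (Cfsg.Agent.S1362.result hG M hM K U hKU) hN ha ha1 ⟨⟨hgH, hgD⟩, hgMs⟩

/-- Fusion of elements of `A₀(M) ∖ A(M)` takes place in `M`. -/
theorem ti3 [Finite G] (hG : IsMinSimpleOddOrder G) {M K U : Subgroup G} (hM : IsCoatom M)
    (hKU : IsSigmaDecomposition M K U) {a : G} (haA : a ∈ sigmaA0 M K)
    (haD : a ∉ U ⊔ sigmaCore M) {g : G}
    (hgA : g * a * g⁻¹ ∈ sigmaA0 M K) (hgD : g * a * g⁻¹ ∉ U ⊔ sigmaCore M) : g ∈ M := by
  have hK1 : K ≠ ⊥ := K_ne_bot_of_not_mem hKU haA.1.1 haD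
  have ha : a ∈ sigmaA0 M K \ sigmaA M U := ⟨haA, fun h => haD h.2⟩
  have ha1 : a ≠ 1 := fun h => haD (h ▸ one_mem _)
  have hDn := Cfsg.Agent.Lib.helper60.BGTI.le_normalizer_U_sup M K U hKU
  have hN : normalizer (sigmaA0 M K \ sigmaA M U) = M := by
    refine normalizer_eq_of_coatom hG.2.1 hM (fun x hx => hx.1.1.1) ⟨a, ha, ha1⟩ ?_
    intro m hm x hx
    refine ⟨sigmaA0_conj hm hx.1, fun h => hx.2 ⟨hx.1.1, ?_⟩⟩
    have h2 := (Subgroup.mem_normalizer_iff.mp (hDn (M.inv_mem hm)) (m * x * m⁻¹)).mp h.2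
    have e : m⁻¹ * (m * x * m⁻¹) * m⁻¹⁻¹ = x := by group
    rwa [e] at h2
  exact mem_of_TI (Cfsg.Agent.S1371.result hG M hM K U hKU hK1).2 hN ha ha1
    ⟨hgA, fun h => hgD h.2⟩

/-! ### Dade's hypothesis for `A₀σ` -/

/-- The statement S1374 for `G`. -/
theorem h1374 [Finite G] (hG : IsMinSimpleOddOrder G) : Cfsg.Agent.Lib.helper88.BG1433.H1374 G :=
  fun M hM x hx hx1 => Cfsg.Agent.S1374.result hG M hM x hx hx1

/-- `N_G(M) = M`. -/
theorem normalizer_self [Finite G] (hG : IsMinSimpleOddOrder G) {M : Subgroup G} (hM : IsCoatom M)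
    {a : G} (haM : a ∈ M) (ha1 : a ≠ 1) : normalizer (M : Set G) = M :=
  normalizer_eq_of_coatom hG.2.1 hM (X := (M : Set G)) subset_rfl ⟨a, haM, ha1⟩
    (fun _ hm _ hx => M.mul_mem (M.mul_mem hm hx) (M.inv_mem hm))

/-- `M` controls fusion in `M_σ`. -/
theorem fusion_Ms [Finite G] (hG : IsMinSimpleOddOrder G) {M : Subgroup G} (hM : IsCoatom M)
    {a : G} (haMs : a ∈ sigmaCore M) (ha1 : a ≠ 1) {g : G} (hg : g * a * g⁻¹ ∈ M) :
    ∃ x ∈ M, x * a * x⁻¹ = g * a * g⁻¹ := by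
  have haM : a ∈ M := (Cfsg.Agent.S1350.result hG M hM).1.1 haMs
  have hag : a ∈ M.map (MulAut.conj g⁻¹).toMonoidHom := by
    rw [mem_map_conj_iff, inv_inv]; exact hg
  obtain ⟨c, hc, hcg⟩ := fusion_of_H1374 (h1374 hG) M hM haMs ha1 g⁻¹ hag
  have key : ∀ y : G, c⁻¹ * y * c ∈ M ↔ g * y * g⁻¹ ∈ M := by
    intro y
    have h1 : y ∈ M.map (MulAut.conj c).toMonoidHom ↔ y ∈ M.map (MulAut.conj g⁻¹).toMonoidHom := by
      rw [hcg]
    rwa [mem_map_conj_iff, mem_map_conj_iff, inv_inv] at h1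
  have hgc : g * c ∈ M := by
    rw [← normalizer_self hG hM haM ha1, Subgroup.mem_normalizer_iff]
    intro h
    have h2 := key (c * h * c⁻¹)
    have e1 : c⁻¹ * (c * h * c⁻¹) * c = h := by group
    have e2 : g * (c * h * c⁻¹) * g⁻¹ = g * c * h * (g * c)⁻¹ := by group
    rw [e1, e2] at h2
    exact h2
  refine ⟨g * c, hgc, ?_⟩
  have e : g * c * a * (g * c)⁻¹ = g * (c * a * c⁻¹) * g⁻¹ := by group
  rw [e, conj_eq_of_mem_centralizer hc]

/-- **Dade's hypothesis for `A₀(M) ∖ {1}`** (in the language of the standard factorisation). -/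
theorem dade_A0 [Finite G] (hG : IsMinSimpleOddOrder G) {M K U : Subgroup G} (hM : IsCoatom M)
    (hKU : IsSigmaDecomposition M K U) :
    DadeHypothesis (sigmaA0 M K \ {1}) M (supportR M) := by
  obtain ⟨hHall, hHallG, -⟩ := Cfsg.Agent.S1350.result hG M hM
  have hMsM : sigmaCore M ≤ M := hHall.1
  have hn : M ≤ normalizer (sigmaCore M : Set G) :=
    Cfsg.Agent.Lib.helper13.le_normalizer_sigmaCore M
  have hDn : M ≤ normalizer ((U ⊔ sigmaCore M : Subgroup G) : Set G) :=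
    Cfsg.Agent.Lib.helper60.BGTI.le_normalizer_U_sup M K U hKU
  have hDM : U ⊔ sigmaCore M ≤ M := sup_le hKU.compl.1 hMsM
  have hMs_iff : ∀ x ∈ M, (x ∈ sigmaCore M ↔ x ^ Nat.card (sigmaCore M) = 1) :=
    fun x hx => mem_iff_pow_card hMsM hn (coprime_Ms hHall) hx
  have hD_iff : ∀ x ∈ M, (x ∈ U ⊔ sigmaCore M ↔ x ^ Nat.card ↥(U ⊔ sigmaCore M) = 1) :=
    fun x hx => mem_iff_pow_card hDM hDn (coprime_D hKU hHall) hx
  -- centralizers of the elements outside `M_σ`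
  have hcent : ∀ a ∈ sigmaA0 M K \ {1}, a ∉ sigmaCore M → centralizer ({a} : Set G) ≤ M := by
    intro a ha haMs c hc
    have hca : c * a * c⁻¹ = a := conj_eq_of_mem_centralizer hc
    by_cases haD : a ∈ U ⊔ sigmaCore M
    · exact ti2 hG hM hKU ha.1.1 haD haMs (g := c) (hca.symm ▸ ha.1.1) (hca.symm ▸ haD)
        (hca.symm ▸ haMs)
    · exact ti3 hG hM hKU ha.1 haD (g := c) (hca.symm ▸ ha.1) (hca.symm ▸ haD)
  -- the subgroups `R(a)`
  have hR : ∀ a ∈ sigmaA0 M K \ {1},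
      (centralizer ({a} : Set G) ≤ M ∧ supportR M a = ⊥) ∨
      (a ∈ sigmaCore M ∧ ¬ centralizer ({a} : Set G) ≤ M ∧ ∃ N : Subgroup G, IsCoatom N ∧
        centralizer ({a} : Set G) ≤ N ∧
        supportR M a = sigmaCore N ⊓ centralizer ({a} : Set G) ∧
        centralizer ({a} : Set G) ≤
          normalizer ((sigmaCore N ⊓ centralizer ({a} : Set G) : Subgroup G) : Set G) ∧
        IsComplIn (M ⊓ centralizer ({a} : Set G)) (sigmaCore N ⊓ centralizer ({a} : Set G))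
          (centralizer ({a} : Set G))) := by
    intro a ha
    by_cases hc : centralizer ({a} : Set G) ≤ M
    · exact Or.inl ⟨hc, supportR_eq_bot_of_le M a hc⟩
    · have haMs : a ∈ sigmaCore M := by
        by_contra h
        exact hc (hcent a ha h)
      have ha1 : a ≠ 1 := ha.2
      obtain ⟨N, ⟨hN, haN⟩, hu, hF, hnorm, hcompl, -, -⟩ :=
        Cfsg.Agent.S1375.result hG M hM a haMs ha1 hc
      refine Or.inr ⟨haMs, hc, N, hN, haN, ?_, hnorm, hcompl⟩
      rw [supportR_eq_of_unique M a hc N hN haN hu, hF]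
  refine ⟨fun h => h.2 rfl, fun a ha => ha.1.1.1, fun x hx a ha => A0_conj hx ha, ?_,
    fun a _ => supportR_le_centralizer M a, ?_, ?_, ?_, ?_⟩
  · -- fusion
    intro a ha g hg
    have haM : a ∈ M := ha.1.1.1
    have hbM : g * a * g⁻¹ ∈ M := hg.1.1.1
    have e1 : (a ∈ sigmaCore M ↔ g * a * g⁻¹ ∈ sigmaCore M) := by
      rw [hMs_iff a haM, hMs_iff _ hbM, conj_pow_eq_one_iff]
    have e2 : (a ∈ U ⊔ sigmaCore M ↔ g * a * g⁻¹ ∈ U ⊔ sigmaCore M) := by
      rw [hD_iff a haM, hD_iff _ hbM, conj_pow_eq_one_iff]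
    by_cases haMs : a ∈ sigmaCore M
    · exact fusion_Ms hG hM haMs ha.2 hbM
    · by_cases haD : a ∈ U ⊔ sigmaCore M
      · exact ⟨g, ti2 hG hM hKU ha.1.1 haD haMs hg.1.1 (e2.mp haD) (fun h => haMs (e1.mpr h)),
          rfl⟩
      · exact ⟨g, ti3 hG hM hKU ha.1 haD hg.1 (fun h => haD (e2.mpr h)), rfl⟩
  · -- `C_G(a)` normalizes `R(a)`
    intro a ha c hc u hu
    rcases hR a ha with ⟨-, h⟩ | ⟨-, -, N, -, -, hRe, hnorm, -⟩
    · rw [h, mem_bot] at hu
      rw [hu]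
      have e : c * 1 * c⁻¹ = (1 : G) := by group
      rw [e]; exact one_mem _
    · rw [hRe] at hu ⊢
      exact (Subgroup.mem_normalizer_iff.mp (hnorm hc) u).mp hu
  · -- `R(a) ∩ C_M(a) = 1`
    intro a ha
    rcases hR a ha with ⟨-, h⟩ | ⟨-, -, N, -, -, hRe, -, hcompl⟩
    · rw [h, bot_inf_eq]
    · rw [hRe, inf_comm]; exact hcompl.2.2.1
  · -- `R(a) C_M(a) = C_G(a)`
    intro a ha
    rcases hR a ha with ⟨hc, h⟩ | ⟨-, -, N, -, -, hRe, -, hcompl⟩
    · rw [h, bot_sup_eq]; exact inf_eq_right.mpr hc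
    · rw [hRe]
      apply le_antisymm (sup_le inf_le_right inf_le_right)
      intro c hc
      obtain ⟨m, hm, r, hr, rfl⟩ := hcompl.2.2.2 c hc
      exact Subgroup.mul_mem _ (Subgroup.mem_sup_right hm) (Subgroup.mem_sup_left hr)
  · -- coprimality
    intro a ha b hb
    rcases hR a ha with ⟨-, h⟩ | ⟨haMs, hc, N, hN, haN, hRe, -, -⟩
    · rw [h, Subgroup.card_bot]; exact Nat.coprime_one_left _
    · rw [hRe]
      apply Nat.coprime_of_dvd
      intro p hp hp1 hp2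
      have ha1 : a ≠ 1 := ha.2
      have hpN : p ∈ sigma N :=
        Cfsg.Agent.Lib.helper71.BG12.mem_sigma_of_dvd_card_sigmaCore N hp
          (hp1.trans (Subgroup.card_dvd_of_le inf_le_left))
      have hpM : p ∣ Nat.card M := hp2.trans (Subgroup.card_dvd_of_le inf_le_left)
      obtain ⟨hκ, hτ⟩ :=
        (Cfsg.Agent.S1436.result hG M hM a haMs ha1 hc N hN haN).1 ⟨p, hpN, hpM⟩
      have hpσ : p ∉ sigma M := by
        intro hpσ
        obtain ⟨g, hg⟩ := (Cfsg.Agent.S1378.result hG).2 M N hM hN ⟨p, hpσ, hpN⟩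
        have hxg : a ∈ M.map (MulAut.conj g).toMonoidHom := hg ▸ haN (self_mem_centralizer a)
        obtain ⟨c, hc', hcg⟩ := fusion_of_H1374 (h1374 hG) M hM haMs ha1 g hxg
        exact hc (centralizer_le_of_le_map_conj M hc' (by rw [hcg, ← hg]; exact haN))
      -- a non-identity `σ(M)'`-element of `M` centralizes no non-identity element of `M_σ`
      have claim : ∀ z ∈ M, z ≠ 1 → (∀ q : ℕ, q.Prime → q ∣ orderOf z → q ∉ sigma M) →
          ∀ y ∈ sigmaCore M, y ≠ 1 → z * y ≠ y * z := by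
        intro z hz hz1 hzσ y hy hy1 hzy
        have hzc : z ∈ M ⊓ centralizer ({y} : Set G) :=
          ⟨hz, Subgroup.mem_centralizer_iff.mpr fun w hw => by
            rw [Set.mem_singleton_iff.mp hw]; exact hzy.symm⟩
        have ho : orderOf z ≠ 1 := fun h => hz1 (orderOf_eq_one_iff.mp h)
        obtain ⟨q, hq, hqd⟩ := Nat.exists_prime_and_dvd ho
        rcases Cfsg.Agent.S1432.result hG M hM y hy hy1 z hzc hz1 hzσ with ⟨h1, -⟩ | ⟨h1, -⟩
        · have h2 := h1 q hq hqd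
          rw [hκ] at h2; exact h2
        · have h2 := h1 q hq hqd
          rw [hτ] at h2; exact h2
      have : Fact p.Prime := ⟨hp⟩
      obtain ⟨z, hz⟩ := exists_prime_orderOf_dvd_card' p hp2
      have hzo : orderOf (z : G) = p := by rw [Subgroup.orderOf_coe]; exact hz
      have hzM : (z : G) ∈ M := z.2.1
      have hzb : b * (z : G) = (z : G) * b := Subgroup.mem_centralizer_iff.mp z.2.2 b rfl
      have hz1 : (z : G) ≠ 1 := by
        intro h
        rw [h, orderOf_one] at hzo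
        exact hp.one_lt.ne hzo
      have hzσ : ∀ q : ℕ, q.Prime → q ∣ orderOf (z : G) → q ∉ sigma M := by
        intro q hq hqd
        rw [hzo] at hqd
        rwa [(Nat.prime_dvd_prime_iff_eq hq hp).mp hqd]
      obtain ⟨hbM, y, hy, hy1, hby⟩ := hb.1.1
      have hb1 : b ≠ 1 := hb.2
      have hob : orderOf b ≠ 1 := fun h => hb1 (orderOf_eq_one_iff.mp h)
      obtain ⟨s, hsp, hsd⟩ := Nat.exists_prime_and_dvd hob
      have hb'o : orderOf (b ^ (orderOf b / s)) = s :=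
        orderOf_pow_orderOf_div (orderOf_pos b).ne' hsd
      have hb'M : b ^ (orderOf b / s) ∈ M := M.pow_mem hbM _
      have hb'1 : b ^ (orderOf b / s) ≠ 1 := by
        intro h
        rw [h, orderOf_one] at hb'o
        exact hsp.one_lt.ne hb'o
      by_cases hsσ : s ∈ sigma M
      · have hidx : ¬ s ∣ (piCore (sigma M) ↥M).index := by
          rw [← Cfsg.Agent.Lib.helper71.BGA.relIndex_map_subtype]
          exact hHall.2.2 s hsp hsσ
        have hb'Ms : b ^ (orderOf b / s) ∈ sigmaCore M :=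
          Cfsg.Agent.Lib.helper54.BGTypes.mem_map_of_orderOf_prime (piCore (sigma M) ↥M) hsp hidx
            hb'M hb'o
        refine claim z hzM hz1 hzσ _ hb'Ms hb'1 ?_
        exact ((show Commute b (z : G) from hzb).pow_left _).eq.symm
      · refine claim _ hb'M hb'1 ?_ y hy hy1 ?_
        · intro q hq hqd
          rw [hb'o] at hqd
          rwa [(Nat.prime_dvd_prime_iff_eq hq hsp).mp hqd]
        · exact ((show Commute b y from hby).pow_left _).eq

/-! ### The dictionary between the type language and the standard factorisation -/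

/-- A maximal subgroup of Type I has `K = 1`. -/
theorem K_eq_bot_of_typeI [Finite G] (hG : IsMinSimpleOddOrder G) {M K U : Subgroup G}
    (hM : IsCoatom M) (hKU : IsSigmaDecomposition M K U) (hI : IsOfTypeI M) : K = ⊥ := by
  obtain ⟨hsol, -, -, -, U', -, hcompl, -, ⟨U₀, hU₀le, hexp, hfpf⟩⟩ := id hI.1
  by_contra hne
  obtain ⟨-, hks1, hksF, -⟩ := Cfsg.Agent.S1364.result hG M hM K U hKU hne
  obtain ⟨y, hy1⟩ := (Subgroup.ne_bot_iff_exists_ne_one).mp hks1
  have hKcard : Nat.card K ≠ 1 := fun h => hne (Subgroup.card_eq_one.mp h)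
  obtain ⟨p, hp, hpK⟩ := Nat.exists_prime_and_dvd hKcard
  have hpκ := hKU.hall.2.1 p hp hpK
  have hpF : ¬ p ∣ Nat.card (fittingHall ↥M) := fun h =>
    hpκ.2.2.1 (Cfsg.Agent.Lib.helper26.BG1375.mem_sigma_of_dvd_card_fittingHall hG hM hp h)
  have hpU' : p ∣ Nat.card U' := by
    have h1 := hcompl.card_mul_card
    have h2 : p ∣ Nat.card ↥M := hpκ.2.1
    rw [← h1] at h2
    exact (hp.dvd_mul.mp h2).resolve_left hpF
  obtain ⟨u, huU₀, huo⟩ := Cfsg.Agent.Lib.helper3.BG1390.exists_order_in_sub U' U₀ hexp hp hpU'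
  have huo' : orderOf (u : G) = p := by rw [Subgroup.orderOf_coe]; exact huo
  obtain ⟨m, hm, hmK⟩ := Cfsg.Agent.Lib.helper3.BG1366.hallOf_conj_le hsol hKU.hall
    (Y := zpowers (u : G)) ((zpowers_le).2 u.2) (fun q hq hd => by
      rw [Nat.card_zpowers, huo'] at hd
      exact ((Nat.prime_dvd_prime_iff_eq hq hp).mp hd) ▸ hpκ)
  have hk : m * (u : G) * m⁻¹ ∈ K := hmK _ (mem_zpowers _)
  have hyc : (m * (u : G) * m⁻¹) * (y : G) = (y : G) * (m * (u : G) * m⁻¹) :=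
    (mem_centralizer_iff.mp y.2.2) _ hk
  have hyF : (y : G) ∈ fittingHallOf M := hksF y.2
  have hmn : m⁻¹ ∈ normalizer (fittingHallOf M : Set G) :=
    Cfsg.Agent.Lib.helper29.le_normalizer_fittingHallOf M (M.inv_mem hm)
  have hy'F : m⁻¹ * (y : G) * m ∈ fittingHallOf M := by
    have h := (mem_normalizer_iff.mp hmn (y : G)).mp hyF
    rwa [inv_inv] at h
  obtain ⟨y', hy', hy'e⟩ := hy'F
  have hu1 : u ≠ 1 := by
    intro h
    rw [h, orderOf_one] at huo
    exact hp.one_lt.ne huo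
  have hcomm : u * y' = y' * u := by
    apply Subtype.ext
    show (u : G) * (y' : G) = (y' : G) * (u : G)
    have e0 : (y' : G) = m⁻¹ * (y : G) * m := hy'e
    have e1 : (u : G) * (m⁻¹ * (y : G) * m) = m⁻¹ * (m * (u : G) * m⁻¹ * (y : G)) * m := by
      group
    have e2 : m⁻¹ * (y : G) * m * (u : G) = m⁻¹ * ((y : G) * (m * (u : G) * m⁻¹)) * m := by
      group
    rw [e0, e1, e2, hyc]
  have h3 := hfpf u huU₀ hu1 y' hy' hcomm
  apply hy1
  have e0 : (y' : G) = m⁻¹ * (y : G) * m := hy'e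
  rw [h3] at e0
  have e4 : (y : G) = m * (m⁻¹ * (y : G) * m) * m⁻¹ := by group
  rw [← e0] at e4
  apply Subtype.ext
  rw [e4]
  simp

/-- Statement S1382, direction `⇒`: for `M` of Type III or IV, `K ≠ 1` and `U = 1`. -/
theorem typeIII_IV [Finite G] (hG : IsMinSimpleOddOrder G) {M K U : Subgroup G} (hM : IsCoatom M)
    (hKU : IsSigmaDecomposition M K U) (h : IsOfTypeIII M ∨ IsOfTypeIV M) : K ≠ ⊥ ∧ U = ⊥ := by
  have h2 := (Cfsg.Agent.Lib.helper54.BGTypes.s1382_of hG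
    (fun M hM K hKc hK => Cfsg.Agent.S1354.result hG M hM K hKc hK)
    (fun M hM => Cfsg.Agent.S1355.result hG M hM)
    (fun M hM => Cfsg.Agent.S1356.result hG M hM)
    (fun M hM K U hKU hne => Cfsg.Agent.S1357.result hG M hM K U hKU hne)
    (fun M hM K U hKU hK1 => Cfsg.Agent.S1363.result hG M hM K U hKU hK1)
    (fun M hM K U hKU hK1 => Cfsg.Agent.S1364.result hG M hM K U hKU hK1)
    (fun M hM K U hKU hK1 => Cfsg.Agent.S1365.result hG M hM K U hKU hK1)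
    (fun M hM K U hKU hK1 => Cfsg.Agent.S1370.result hG M hM K U hKU hK1)
    M hM K U hKU).mp h
  exact ⟨h2.1, h2.2.1⟩

/-- `M_s ≤ M_σ`. -/
theorem typeCore_le [Finite G] (hG : IsMinSimpleOddOrder G) {M K U : Subgroup G} (hM : IsCoatom M)
    (hKU : IsSigmaDecomposition M K U) : typeCore M ≤ sigmaCore M := by
  unfold typeCore
  split_ifs with h
  · obtain ⟨hK1, hU⟩ := typeIII_IV hG hM hKU h
    rw [(Cfsg.Agent.S1365.result hG M hM K U hKU hK1).1, hU, bot_sup_eq]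
  · exact (Cfsg.Agent.S1355.result hG M hM).2.1

theorem typeCore_ne_bot [Finite G] (hG : IsMinSimpleOddOrder G) {M : Subgroup G}
    (hM : IsCoatom M) : typeCore M ≠ ⊥ := by
  obtain ⟨hF1, hFs, hsD, -, -⟩ := Cfsg.Agent.S1355.result hG M hM
  unfold typeCore
  split_ifs with h
  · intro h0
    apply hF1
    rw [eq_bot_iff, ← h0]
    exact hFs.trans hsD
  · exact hF1

theorem typeCore_conj {M : Subgroup G} {m x : G} (hm : m ∈ M) (hx : x ∈ typeCore M) :
    m * x * m⁻¹ ∈ typeCore M := by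
  unfold typeCore at hx ⊢
  split_ifs at hx ⊢ with h
  · exact conj_mem_derived hm hx
  · exact (Subgroup.mem_normalizer_iff.mp
      (Cfsg.Agent.Lib.helper29.le_normalizer_fittingHallOf M hm) x).mp hx

theorem conj_comm {m a x : G} (h : a * x = x * a) :
    m * a * m⁻¹ * (m * x * m⁻¹) = m * x * m⁻¹ * (m * a * m⁻¹) := by
  calc m * a * m⁻¹ * (m * x * m⁻¹) = m * (a * x) * m⁻¹ := by group
    _ = m * (x * a) * m⁻¹ := by rw [h]
    _ = m * x * m⁻¹ * (m * a * m⁻¹) := by group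

/-- The non-identity elements of `M_σ` lie in `A₀σ`. -/
theorem Ms_sub_A0 [Finite G] {M K : Subgroup G} (hK : IsPiHallOf (kappa M) K M)
    (hHall : IsPiHallOf (sigma M) (sigmaCore M) M) {x : G} (hx : x ∈ sigmaCore M) (hx1 : x ≠ 1) :
    x ∈ sigmaA0 M K \ {1} := by
  refine ⟨⟨⟨hHall.1 hx, x, hx, hx1, rfl⟩, ?_⟩, hx1⟩
  rintro ⟨k, hk, hk1, m, hm, he⟩
  apply hk1
  have hn := Subgroup.mem_normalizer_iff.mp
    (Cfsg.Agent.Lib.helper13.le_normalizer_sigmaCore M (M.inv_mem hm))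
  have h2 : k ∈ K ⊓ sigmaCore M := by
    refine ⟨hk, ?_⟩
    have h3 := (hn x).mp hx
    rw [he] at h3
    have e : m⁻¹ * (m * k * m⁻¹) * m⁻¹⁻¹ = k := by group
    rwa [e] at h3
  rw [Cfsg.Agent.Lib.helper69.bgk_K_inf_sigmaCore hK hHall, mem_bot] at h2
  exact h2

theorem typeA1_sub [Finite G] (hG : IsMinSimpleOddOrder G) {M K U : Subgroup G} (hM : IsCoatom M)
    (hKU : IsSigmaDecomposition M K U) : typeA1 M ⊆ sigmaA0 M K \ {1} := by
  intro x hx
  exact Ms_sub_A0 hKU.hall (Cfsg.Agent.S1350.result hG M hM).1 (typeCore_le hG hM hKU hx.1)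
    (fun h => hx.2 h)

theorem typeA1_ne [Finite G] (hG : IsMinSimpleOddOrder G) {M : Subgroup G} (hM : IsCoatom M) :
    ∃ x ∈ typeA1 M, x ≠ 1 := by
  obtain ⟨x, hx1⟩ := (Subgroup.ne_bot_iff_exists_ne_one).mp (typeCore_ne_bot hG hM)
  have hx1' : (x : G) ≠ 1 := fun h => hx1 (Subtype.ext h)
  exact ⟨x, ⟨x.2, hx1'⟩, hx1'⟩

theorem typeA_sub [Finite G] (hG : IsMinSimpleOddOrder G) {M K U : Subgroup G} (hM : IsCoatom M)
    (hKU : IsSigmaDecomposition M K U) : typeA M ⊆ sigmaA0 M K \ {1} := by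
  obtain ⟨hHall, -, -⟩ := Cfsg.Agent.S1350.result hG M hM
  obtain ⟨hF1, hFs, hsD, hDlt, -⟩ := Cfsg.Agent.S1355.result hG M hM
  intro a ha
  unfold typeA at ha
  split_ifs at ha with hI
  · obtain ⟨haM, ha1, x, hx, hx1, hax⟩ := ha
    have hK := K_eq_bot_of_typeI hG hM hKU hI
    refine ⟨⟨⟨haM, x, hFs hx, hx1, hax⟩, ?_⟩, ha1⟩
    rintro ⟨k, hk, hk1, -⟩
    rw [hK, mem_bot] at hk
    exact hk1 hk
  · obtain ⟨haD, ha1, x, hx, hx1, hax⟩ := ha
    refine ⟨⟨⟨hDlt.le haD, x, typeCore_le hG hM hKU hx, hx1, hax⟩, ?_⟩, ha1⟩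
    rintro ⟨k, hk, hk1, m, hm, he⟩
    have hK1 : K ≠ ⊥ := fun h => hk1 (by rw [h, mem_bot] at hk; exact hk)
    have hD := (Cfsg.Agent.S1365.result hG M hM K U hKU hK1).1
    have hkD : k ∈ (⁅M, M⁆ : Subgroup G) := by
      have h3 := conj_mem_derived (M.inv_mem hm) haD
      rw [he] at h3
      have e : m⁻¹ * (m * k * m⁻¹) * m⁻¹⁻¹ = k := by group
      rwa [e] at h3
    rw [hD] at hkD
    have h2 : k ∈ (U ⊔ sigmaCore M) ⊓ K := ⟨hkD, hk⟩
    rw [(compl_D_K hKU hHall).2.2.1, mem_bot] at h2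
    exact hk1 h2

theorem typeA_conj {M : Subgroup G} {m a : G} (hm : m ∈ M) (ha : a ∈ typeA M) :
    m * a * m⁻¹ ∈ typeA M := by
  unfold typeA at ha ⊢
  split_ifs at ha ⊢ with hI
  · obtain ⟨haM, ha1, x, hx, hx1, hax⟩ := ha
    exact ⟨M.mul_mem (M.mul_mem hm haM) (M.inv_mem hm), (fun h => ha1 (conj_eq_one_iff.mp h)), m * x * m⁻¹,
      (Subgroup.mem_normalizer_iff.mp
        (Cfsg.Agent.Lib.helper29.le_normalizer_fittingHallOf M hm) x).mp hx,
      (fun h => hx1 (conj_eq_one_iff.mp h)), conj_comm hax⟩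
  · obtain ⟨haD, ha1, x, hx, hx1, hax⟩ := ha
    exact ⟨conj_mem_derived hm haD, (fun h => ha1 (conj_eq_one_iff.mp h)), m * x * m⁻¹, typeCore_conj hm hx,
      (fun h => hx1 (conj_eq_one_iff.mp h)), conj_comm hax⟩

theorem typeA_ne [Finite G] (hG : IsMinSimpleOddOrder G) {M K U : Subgroup G} (hM : IsCoatom M)
    (hKU : IsSigmaDecomposition M K U) : ∃ x ∈ typeA M, x ≠ 1 := by
  obtain ⟨hHall, -, -⟩ := Cfsg.Agent.S1350.result hG M hM
  obtain ⟨hF1, hFs, hsD, hDlt, -⟩ := Cfsg.Agent.S1355.result hG M hM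
  unfold typeA
  split_ifs with hI
  · obtain ⟨x, hx1⟩ := (Subgroup.ne_bot_iff_exists_ne_one).mp hF1
    have hx1' : (x : G) ≠ 1 := fun h => hx1 (Subtype.ext h)
    exact ⟨x, ⟨hHall.1 (hFs x.2), hx1', x, x.2, hx1', rfl⟩, hx1'⟩
  · obtain ⟨x, hx1⟩ := (Subgroup.ne_bot_iff_exists_ne_one).mp (typeCore_ne_bot hG hM)
    have hx1' : (x : G) ≠ 1 := fun h => hx1 (Subtype.ext h)
    exact ⟨x, ⟨hsD (typeCore_le hG hM hKU x.2), hx1', x, x.2, hx1', rfl⟩, hx1'⟩

/-- The elements of `W₁W₂ ∖ (W₁ ∪ W₂)` lie in `A₀σ`, for any type-P data of `M`. -/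
theorem W_sub [Finite G] (hG : IsMinSimpleOddOrder G) {M K U : Subgroup G} (hM : IsCoatom M)
    (hKU : IsSigmaDecomposition M K U) {W₁ U' W₂ : Subgroup G} (hP : IsTypePWith M W₁ U' W₂)
    {w : G} (hw : w ∈ W₁ ⊔ W₂) (hw1 : w ∉ W₁) (hw2 : w ∉ W₂) : w ∈ sigmaA0 M K \ {1} := by
  obtain ⟨hHall, -, -⟩ := Cfsg.Agent.S1350.result hG M hM
  obtain ⟨hF1, hFs, hsD, hDlt, -⟩ := Cfsg.Agent.S1355.result hG M hM
  obtain ⟨hW1, hW2, hinf, hcomm, -, -⟩ := hP.selfNormalizing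
  obtain ⟨a, ha, b, hb, rfl⟩ := Cfsg.Agent.Lib.helper29.exists_mul_of_mem_sup_of_commute hcomm hw
  have ha1 : a ≠ 1 := by
    rintro rfl
    rw [one_mul] at hw2
    exact hw2 hb
  have hb1 : b ≠ 1 := by
    rintro rfl
    rw [mul_one] at hw1
    exact hw1 ha
  have haM : a ∈ M := hP.W₁_compl.2.1 ha
  have hbMs : b ∈ sigmaCore M := hFs (hP.W₂_le hb).1
  have hab : a * b = b * a := hcomm a ha b hb
  have hne : a * b ≠ 1 := by
    intro h
    have h2 : a ∈ W₁ ⊓ W₂ := ⟨ha, by rw [eq_inv_of_mul_eq_one_left h]; exact W₂.inv_mem hb⟩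
    rw [hinf, mem_bot] at h2
    exact ha1 h2
  have hcb : a * b * b = b * (a * b) := by
    calc a * b * b = b * a * b := by rw [hab]
      _ = b * (a * b) := mul_assoc _ _ _
  refine ⟨⟨⟨M.mul_mem haM (hHall.1 hbMs), b, hbMs, hb1, hcb⟩, ?_⟩, hne⟩
  rintro ⟨k, hk, hk1, m, hm, he⟩
  have h1 : (a * b) ^ Nat.card K = 1 := by
    rw [he, conj_pow, pow_card_of_mem hk]; group
  rw [(show Commute a b from hab).mul_pow] at h1
  have h2 : b ^ Nat.card K ∈ W₁ ⊓ W₂ :=
    ⟨by rw [eq_inv_of_mul_eq_one_right h1]; exact W₁.inv_mem (W₁.pow_mem ha _), W₂.pow_mem hb _⟩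
  rw [hinf, mem_bot] at h2
  have h3 : orderOf b ∣ Nat.card K := orderOf_dvd_of_pow_eq_one h2
  have h4 : orderOf b ∣ Nat.card (sigmaCore M) := Subgroup.orderOf_dvd_natCard _ hbMs
  have h5 : orderOf b = 1 := Nat.eq_one_of_dvd_coprimes (coprime_K_Ms hKU.hall hHall) h3 h4
  exact hb1 (orderOf_eq_one_iff.mp h5)

theorem typeA0_sub [Finite G] (hG : IsMinSimpleOddOrder G) {M K U : Subgroup G} (hM : IsCoatom M)
    (hKU : IsSigmaDecomposition M K U) : typeA0 M ⊆ sigmaA0 M K \ {1} := by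
  rintro v (hv | ⟨-, W₁, U', W₂, hP, m, hm, w, hw, hw1, hw2, rfl⟩)
  · exact typeA_sub hG hM hKU hv
  · exact A0_conj hm (W_sub hG hM hKU hP hw hw1 hw2)

theorem typeA0_conj {M : Subgroup G} {m a : G} (hm : m ∈ M) (ha : a ∈ typeA0 M) :
    m * a * m⁻¹ ∈ typeA0 M := by
  rcases ha with ha | ⟨hI, W₁, U', W₂, hP, m', hm', w, hw, hw1, hw2, rfl⟩
  · exact Or.inl (typeA_conj hm ha)
  · exact Or.inr ⟨hI, W₁, U', W₂, hP, m * m', M.mul_mem hm hm', w, hw, hw1, hw2, by group⟩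

/-- **Statement S1537.** -/
theorem dade_main [Finite G] (hG : IsMinSimpleOddOrder G) (M : Subgroup G) (hM : IsCoatom M)
    (A : Set G) (hA : A = typeA1 M ∨ A = typeA M ∨ A = typeA0 M) :
    normalizer A = M ∧ DadeHypothesis A M (supportR M) := by
  obtain ⟨⟨K, hK⟩, hcyc⟩ := Cfsg.Agent.S1351.result hG M hM
  obtain ⟨⟨U, hKU⟩, -⟩ := Cfsg.Agent.S1352.result hG M hM K (hcyc K hK) hK
  have hd := dade_A0 hG hM hKU
  have key : ∀ B : Set G, B ⊆ sigmaA0 M K \ {1} → (∀ m ∈ M, ∀ b ∈ B, m * b * m⁻¹ ∈ B) →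
      (∃ x ∈ B, x ≠ 1) → normalizer B = M ∧ DadeHypothesis B M (supportR M) := by
    intro B hB hinv hne
    exact ⟨normalizer_eq_of_coatom hG.2.1 hM (fun x hx => (hB hx).1.1.1) hne hinv,
      dade_subset hd hB hinv⟩
  rcases hA with rfl | rfl | rfl
  · exact key _ (typeA1_sub hG hM hKU)
      (fun m hm b hb => ⟨typeCore_conj hm hb.1, fun h => hb.2 (conj_eq_one_iff.mp h)⟩)
      (typeA1_ne hG hM)
  · exact key _ (typeA_sub hG hM hKU) (fun m hm b hb => typeA_conj hm hb) (typeA_ne hG hM hKU)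
  · obtain ⟨x, hx, hx1⟩ := typeA_ne hG hM hKU
    exact key _ (typeA0_sub hG hM hKU) (fun m hm b hb => typeA0_conj hm hb)
      ⟨x, Or.inl hx, hx1⟩

end Cfsg.Agent.Lib.helper65.BGDade
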