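import Cfsg.Agent.Lib.helper48.LBRefl

/-!
Piece O-REFL of the S2686 split: basic facts on the reflection matrices `refl G v`.
-/

set_option autoImplicit false

namespace Cfsg.Agent.Lib.helper65.S2686

open Matrix Cfsg
open Cfsg.Agent.Lib.helper48.LB

variable {F : Type*} [Field F] {ι : Type} [Fintype ι] [DecidableEq ι]

theorem orefl_ext (A B : Matrix ι ι F) (h : ∀ u, A *ᵥ u = B *ᵥ u) : A = B :=
  Matrix.mulVec_injective (funext h)

theorem orefl_symm (G : Matrix ι ι F) (hG : Gᵀ = G) (x y : ι → F) :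
    x ⬝ᵥ G *ᵥ y = y ⬝ᵥ G *ᵥ x := by
  rw [Matrix.dotProduct_mulVec, ← Matrix.mulVec_transpose, hG, dotProduct_comm]

theorem orefl_apply (G : Matrix ι ι F) (v u : ι → F) :
    refl G v *ᵥ u = u - (2 * (u ⬝ᵥ G *ᵥ v) / (v ⬝ᵥ G *ᵥ v)) • v := by
  rw [refl_mulVec, dotProduct_comm]

theorem orefl_bil_sub_smul (G : Matrix ι ι F) (x v y : ι → F) (r : F) :
    (x - r • v) ⬝ᵥ G *ᵥ y = x ⬝ᵥ G *ᵥ y - r * (v ⬝ᵥ G *ᵥ y) := by
  rw [sub_dotProduct, smul_dotProduct, smul_eq_mul]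

theorem orefl_bil_conj (G h : Matrix ι ι F) (x y : ι → F) :
    x ⬝ᵥ (hᵀ * G * h) *ᵥ y = (h *ᵥ x) ⬝ᵥ G *ᵥ (h *ᵥ y) := by
  rw [Matrix.mul_assoc, ← Matrix.mulVec_mulVec, Matrix.dotProduct_mulVec, Matrix.vecMul_transpose,
    ← Matrix.mulVec_mulVec]

theorem orefl_ne_zero (G : Matrix ι ι F) (v : ι → F) (hv : v ⬝ᵥ G *ᵥ v ≠ 0) : v ≠ 0 := by
  rintro rfl
  exact hv (by simp)

theorem refl_mul_self (G : Matrix ι ι F) (hG : Gᵀ = G) (v : ι → F) (hv : v ⬝ᵥ G *ᵥ v ≠ 0) :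
    refl G v * refl G v = 1 := by
  apply orefl_ext
  intro u
  rw [← Matrix.mulVec_mulVec, Matrix.one_mulVec, orefl_apply, orefl_apply, orefl_bil_sub_smul]
  ext i
  simp only [Pi.sub_apply, Pi.smul_apply, smul_eq_mul]
  field_simp
  ring

theorem refl_isometry (G : Matrix ι ι F) (hG : Gᵀ = G) (v : ι → F) (hv : v ⬝ᵥ G *ᵥ v ≠ 0) :
    (refl G v)ᵀ * G * refl G v = G := by
  apply orefl_ext
  intro y
  ext i
  have key : ∀ x : ι → F, x ⬝ᵥ ((refl G v)ᵀ * G * refl G v) *ᵥ y = x ⬝ᵥ G *ᵥ y := by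
    intro x
    rw [orefl_bil_conj, orefl_apply, orefl_apply, orefl_bil_sub_smul, Matrix.mulVec_sub,
      Matrix.mulVec_smul, dotProduct_sub, dotProduct_smul, dotProduct_sub, dotProduct_smul,
      smul_eq_mul, smul_eq_mul, orefl_symm G hG v y]
    field_simp
    ring
  have h1 := key (Pi.single i 1)
  rwa [single_one_dotProduct, single_one_dotProduct] at h1

theorem refl_det (G : Matrix ι ι F) (v : ι → F) (hv : v ⬝ᵥ G *ᵥ v ≠ 0) : (refl G v).det = -1 := by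
  have e : refl G v = 1 + Matrix.replicateCol Unit ((-(2 / (v ⬝ᵥ G *ᵥ v))) • v) *
      Matrix.replicateRow Unit (G *ᵥ v) := by
    rw [← Matrix.vecMulVec_eq Unit]
    unfold Cfsg.Agent.Lib.helper48.LB.refl
    ext i j
    simp only [Matrix.sub_apply, Matrix.add_apply, Matrix.smul_apply, Matrix.vecMulVec_apply,
      Pi.smul_apply, smul_eq_mul]
    ring
  have hq : (G *ᵥ v) ⬝ᵥ v = v ⬝ᵥ G *ᵥ v := dotProduct_comm _ _
  rw [e, Matrix.det_one_add_replicateCol_mul_replicateRow, dotProduct_smul, smul_eq_mul, hq]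
  field_simp
  ring

theorem refl_conj (G : Matrix ι ι F) (hG : Gᵀ = G) (h h' : Matrix ι ι F) (hh : h * h' = 1) (c : F)
    (hc : c ≠ 0) (hsim : hᵀ * G * h = c • G) (v : ι → F) :
    h' * refl G v * h = refl G (h' *ᵥ v) := by
  have hh' : h' * h = 1 := mul_eq_one_comm.mp hh
  have e1 : (G *ᵥ v) ᵥ* h = c • (G *ᵥ (h' *ᵥ v)) := by
    rw [← Matrix.mulVec_transpose, Matrix.mulVec_mulVec, ← Matrix.smul_mulVec, ← hsim,
      ← Matrix.mulVec_mulVec (h' *ᵥ v), Matrix.mulVec_mulVec v, hh, Matrix.one_mulVec]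
  have e2 : v ⬝ᵥ G *ᵥ v = c * ((h' *ᵥ v) ⬝ᵥ G *ᵥ (h' *ᵥ v)) := by
    have e3 : c * ((h' *ᵥ v) ⬝ᵥ G *ᵥ (h' *ᵥ v)) = (h' *ᵥ v) ⬝ᵥ (c • G) *ᵥ (h' *ᵥ v) := by
      rw [Matrix.smul_mulVec, dotProduct_smul, smul_eq_mul]
    have e4 : h *ᵥ (h' *ᵥ v) = v := by rw [Matrix.mulVec_mulVec, hh, Matrix.one_mulVec]
    rw [e3, ← hsim, orefl_bil_conj, e4]
  unfold Cfsg.Agent.Lib.helper48.LB.refl
  rw [Matrix.mul_sub, Matrix.sub_mul, Matrix.mul_one, hh', Matrix.mul_smul, Matrix.smul_mul,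
    Matrix.mul_vecMulVec, Matrix.vecMulVec_mul, e1, e2, Matrix.vecMulVec_smul, smul_smul]
  congr 2
  by_cases hq : (h' *ᵥ v) ⬝ᵥ G *ᵥ (h' *ᵥ v) = 0
  · rw [hq]; simp
  · field_simp

theorem orefl_perp_apply (G : Matrix ι ι F) (hG : Gᵀ = G) (a b : ι → F)
    (hab : a ⬝ᵥ G *ᵥ b = 0) (u : ι → F) :
    (refl G a * refl G b) *ᵥ u = u - (2 * (u ⬝ᵥ G *ᵥ b) / (b ⬝ᵥ G *ᵥ b)) • b -
      (2 * (u ⬝ᵥ G *ᵥ a) / (a ⬝ᵥ G *ᵥ a)) • a := by
  have hba : b ⬝ᵥ G *ᵥ a = 0 := by rw [orefl_symm G hG, hab]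
  rw [← Matrix.mulVec_mulVec, orefl_apply G b, orefl_apply G a, orefl_bil_sub_smul, hba, mul_zero,
    sub_zero]

theorem refl_perp_sq (G : Matrix ι ι F) (hG : Gᵀ = G) (a b : ι → F) (ha : a ⬝ᵥ G *ᵥ a ≠ 0)
    (hb : b ⬝ᵥ G *ᵥ b ≠ 0) (hab : a ⬝ᵥ G *ᵥ b = 0) :
    (refl G a * refl G b) * (refl G a * refl G b) = 1 := by
  have hba : b ⬝ᵥ G *ᵥ a = 0 := by rw [orefl_symm G hG, hab]
  apply orefl_ext
  intro u
  rw [← Matrix.mulVec_mulVec, Matrix.one_mulVec, orefl_perp_apply G hG a b hab u,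
    orefl_perp_apply G hG a b hab]
  simp only [sub_dotProduct, smul_dotProduct, smul_eq_mul, hab, hba, mul_zero, sub_zero]
  ext i
  simp only [Pi.sub_apply, Pi.smul_apply, smul_eq_mul]
  field_simp
  ring

/-- In dimension at least `3` two linear conditions have a common nonzero solution. -/
theorem orefl_exists_perp (h3 : 3 ≤ Fintype.card ι) (x y : ι → F) :
    ∃ u : ι → F, u ≠ 0 ∧ x ⬝ᵥ u = 0 ∧ y ⬝ᵥ u = 0 := by
  let M : Matrix (Fin 2) ι F := Matrix.of ![x, y]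
  have hker : LinearMap.ker (Matrix.mulVecLin M) ≠ ⊥ := by
    apply LinearMap.ker_ne_bot_of_finrank_lt
    rw [Module.finrank_fin_fun, Module.finrank_fintype_fun_eq_card]
    omega
  obtain ⟨u, hu, hu0⟩ := (Submodule.ne_bot_iff _).mp hker
  refine ⟨u, hu0, ?_, ?_⟩
  · have h1 := congrFun (LinearMap.mem_ker.mp hu) 0
    simpa [M, Matrix.mulVec] using h1
  · have h1 := congrFun (LinearMap.mem_ker.mp hu) 1
    simpa [M, Matrix.mulVec] using h1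

theorem refl_perp_not_scalar (h2 : (2 : F) ≠ 0) (G : Matrix ι ι F) (hG : Gᵀ = G)
    (h3 : 3 ≤ Fintype.card ι) (a b : ι → F) (ha : a ⬝ᵥ G *ᵥ a ≠ 0) (hb : b ⬝ᵥ G *ᵥ b ≠ 0)
    (hab : a ⬝ᵥ G *ᵥ b = 0) (c : F) : refl G a * refl G b ≠ c • (1 : Matrix ι ι F) := by
  intro h
  have ha0 : a ≠ 0 := orefl_ne_zero G a ha
  -- applying to `a` gives `c = -1`
  have e1 := orefl_perp_apply G hG a b hab a
  rw [h, Matrix.smul_mulVec, Matrix.one_mulVec, hab, mul_zero, zero_div, zero_smul, sub_zero] at e1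
  have e2 : (2 * (a ⬝ᵥ G *ᵥ a) / (a ⬝ᵥ G *ᵥ a)) = 2 := by field_simp
  rw [e2] at e1
  have hc : c = -1 := by
    obtain ⟨i, hi⟩ : ∃ i, a i ≠ 0 := by
      by_contra hne
      apply ha0
      ext i
      by_contra hi
      exact hne ⟨i, hi⟩
    have e3 := congrFun e1 i
    simp only [Pi.sub_apply, Pi.smul_apply, smul_eq_mul] at e3
    have e4 : (c + 1) * a i = 0 := by linear_combination e3
    rcases mul_eq_zero.mp e4 with h5 | h5
    · linear_combination h5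
    · exact absurd h5 hi
  -- a vector orthogonal to `a` and `b` is fixed
  obtain ⟨u, hu0, hua, hub⟩ := orefl_exists_perp h3 (G *ᵥ a) (G *ᵥ b)
  have hua' : u ⬝ᵥ G *ᵥ a = 0 := by rw [dotProduct_comm]; exact hua
  have hub' : u ⬝ᵥ G *ᵥ b = 0 := by rw [dotProduct_comm]; exact hub
  have e5 := orefl_perp_apply G hG a b hab u
  rw [h, Matrix.smul_mulVec, Matrix.one_mulVec, hc] at e5
  simp only [hua', hub', mul_zero, zero_div, zero_smul, sub_zero] at e5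
  apply hu0
  ext i
  have e6 := congrFun e5 i
  simp only [Pi.smul_apply, smul_eq_mul, Pi.zero_apply] at e6 ⊢
  have e7 : 2 * u i = 0 := by linear_combination -e6
  rcases mul_eq_zero.mp e7 with h5 | h5
  · exact absurd h5 h2
  · exact h5

theorem refl_mul_scalar (h2 : (2 : F) ≠ 0) (G : Matrix ι ι F) (hG : Gᵀ = G)
    (h3 : 3 ≤ Fintype.card ι) (v w : ι → F) (hv : v ⬝ᵥ G *ᵥ v ≠ 0) (hw : w ⬝ᵥ G *ᵥ w ≠ 0) (c : F)
    (h : refl G w * refl G v = c • (1 : Matrix ι ι F)) : ∃ t : F, w = t • v := by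
  by_cases hvw : w ⬝ᵥ G *ᵥ v = 0
  · exact absurd h (refl_perp_not_scalar h2 G hG h3 w v hw hv hvw c)
  · have hvw' : v ⬝ᵥ G *ᵥ w ≠ 0 := by rwa [orefl_symm G hG]
    -- apply the product to `v`
    have e1 : (refl G w * refl G v) *ᵥ v = c • v := by
      rw [h, Matrix.smul_mulVec, Matrix.one_mulVec]
    rw [← Matrix.mulVec_mulVec, orefl_apply G v, orefl_apply G w, orefl_bil_sub_smul] at e1
    have e2 : (2 * (v ⬝ᵥ G *ᵥ v) / (v ⬝ᵥ G *ᵥ v)) = 2 := by field_simp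
    rw [e2] at e1
    refine ⟨(c + 1) * (w ⬝ᵥ G *ᵥ w) / (2 * (v ⬝ᵥ G *ᵥ w)) , ?_⟩
    ext i
    have e3 := congrFun e1 i
    simp only [Pi.sub_apply, Pi.smul_apply, smul_eq_mul] at e3 ⊢
    field_simp at e3 ⊢
    linear_combination e3

end Cfsg.Agent.Lib.helper65.S2686
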