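import Mathlib
import Cfsg.Prelude.Def_TwoFusion
import Cfsg.Agent.Lib.helper6.S3313Defs

/-!
S3313 piece R2a `cent_pair` (helper65).
-/

set_option autoImplicit false

namespace Cfsg.Agent.Lib.helper65.S3313

open Cfsg.Agent.Lib.helper6.S3313

variable {G : Type*} [Group G] [Finite G]

omit [Finite G] in
/-- Elements of an internal direct product are products `v * b`. -/
theorem idp_decomp {V B S : Subgroup G} (h : Cfsg.IsInternalDirectProduct V B S) (c : G)
    (hc : c ∈ S) : ∃ v ∈ V, ∃ b ∈ B, c = v * b := by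
  obtain ⟨hVS, hBS, hcomm, hinf, hsup⟩ := h
  rw [← hsup, ← Subgroup.closure_eq V, ← Subgroup.closure_eq B, ← Subgroup.closure_union] at hc
  induction hc using Subgroup.closure_induction with
  | mem x hx =>
    rcases hx with hx | hx
    · exact ⟨x, hx, 1, B.one_mem, by simp⟩
    · exact ⟨1, V.one_mem, x, hx, by simp⟩
  | one => exact ⟨1, V.one_mem, 1, B.one_mem, by simp⟩
  | mul a b _ _ iha ihb =>
    obtain ⟨v, hv, b1, hb1, rfl⟩ := iha
    obtain ⟨v', hv', b2, hb2, rfl⟩ := ihb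
    refine ⟨v * v', V.mul_mem hv hv', b1 * b2, B.mul_mem hb1 hb2, ?_⟩
    calc v * b1 * (v' * b2) = v * (b1 * v') * b2 := by group
      _ = v * (v' * b1) * b2 := by rw [hcomm v' hv' b1 hb1]
      _ = v * v' * (b1 * b2) := by group
  | inv a _ iha =>
    obtain ⟨v, hv, b, hb, rfl⟩ := iha
    refine ⟨v⁻¹, V.inv_mem hv, b⁻¹, B.inv_mem hb, ?_⟩
    rw [mul_inv_rev, hcomm _ (V.inv_mem hv) _ (B.inv_mem hb)]

omit [Finite G] in
/-- Uniqueness of the decomposition in an internal direct product. -/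
theorem idp_uniq {V B S : Subgroup G} (h : Cfsg.IsInternalDirectProduct V B S)
    (v : G) (hv : v ∈ V) (v' : G) (hv' : v' ∈ V) (b : G) (hb : b ∈ B) (b' : G) (hb' : b' ∈ B)
    (he : v * b = v' * b') : v = v' ∧ b = b' := by
  obtain ⟨hVS, hBS, hcomm, hinf, hsup⟩ := h
  have h1 : v'⁻¹ * v = b' * b⁻¹ := by
    calc v'⁻¹ * v = v'⁻¹ * (v * b) * b⁻¹ := by group
      _ = v'⁻¹ * (v' * b') * b⁻¹ := by rw [he]
      _ = b' * b⁻¹ := by group
  have hmem : b' * b⁻¹ ∈ V ⊓ B :=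
    ⟨h1 ▸ V.mul_mem (V.inv_mem hv') hv, B.mul_mem hb' (B.inv_mem hb)⟩
  rw [hinf, Subgroup.mem_bot] at hmem
  constructor
  · have h3 : v'⁻¹ * v = 1 := h1.trans hmem
    exact (inv_mul_eq_one.mp h3).symm
  · exact (mul_inv_eq_one.mp hmem).symm

/-- R2a -/
theorem cent_pair (z t : G) (V B : Subgroup G) (hz : orderOf z = 2) (hzt : ¬ IsConj z t)
    (hVB : Cfsg.IsInternalDirectProduct V B (Subgroup.centralizer ({t} : Set G)))
    (hV : Nat.card V = 4) (hV2 : ∀ v ∈ V, v ^ 2 = 1)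
    (hCt : ∀ x ∈ Subgroup.centralizer ({t} : Set G), orderOf x = 2 → x ∉ B → IsConj x t)
    (hBcent : ∀ b ∈ B, orderOf b = 2 →
      Nat.card {c : G // c ∈ B ∧ c * b = b * c} = 4 ∧ ∀ c ∈ B, c * b = b * c → c ^ 2 = 1)
    (y : G) (hyz : y * z = z * y) (hyt : IsConj y t) :
    Nat.card {c : G // c * z = z * c ∧ c * y = y * c} = 16 ∧
      ∀ c : G, c * z = z * c → c * y = y * c → c ^ 2 = 1 := by
  obtain ⟨h, hh⟩ := isConj_iff.mp hyt
  -- `z' = h z h⁻¹`
  obtain ⟨z', hz'⟩ : ∃ z', z' = h * z * h⁻¹ := ⟨_, rfl⟩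
  have hzz' : z = h⁻¹ * z' * h := by rw [hz']; group
  have hyy' : y = h⁻¹ * t * h := by rw [← hh]; group
  have hz'o : orderOf z' = 2 := by
    have := (MulAut.conj h).orderOf_eq z
    rw [MulAut.conj_apply] at this
    rw [hz', this, hz]
  have hz't : t * z' = z' * t := by
    rw [hz', ← hh]
    calc h * y * h⁻¹ * (h * z * h⁻¹) = h * (y * z) * h⁻¹ := by group
      _ = h * (z * y) * h⁻¹ := by rw [hyz]
      _ = h * z * h⁻¹ * (h * y * h⁻¹) := by group
  have hz'C : z' ∈ Subgroup.centralizer ({t} : Set G) := by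
    rw [Subgroup.mem_centralizer_iff]
    intro g hg
    rw [Set.mem_singleton_iff.mp hg]
    exact hz't
  have hz'B : z' ∈ B := by
    by_contra hnB
    have h1 : IsConj z' t := hCt z' hz'C hz'o hnB
    have h2 : IsConj z z' := isConj_iff.mpr ⟨h, hz'.symm⟩
    exact hzt (h2.trans h1)
  obtain ⟨h4, hsq⟩ := hBcent z' hz'B hz'o
  have hVS := hVB.1
  have hBS := hVB.2.1
  have hcomm := hVB.2.2.1
  have hmemC : ∀ g : G, g ∈ Subgroup.centralizer ({t} : Set G) ↔ g * t = t * g := by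
    intro g
    rw [Subgroup.mem_centralizer_iff]
    constructor
    · intro hg; exact (hg t rfl).symm
    · intro hg x hx; rw [Set.mem_singleton_iff.mp hx]; exact hg.symm
  -- the parametrization
  have hwd : ∀ p : V × {c : G // c ∈ B ∧ c * z' = z' * c},
      (h⁻¹ * ((p.1 : G) * p.2.1) * h) * z = z * (h⁻¹ * ((p.1 : G) * p.2.1) * h) ∧
      (h⁻¹ * ((p.1 : G) * p.2.1) * h) * y = y * (h⁻¹ * ((p.1 : G) * p.2.1) * h) := by
    rintro ⟨⟨v, hv⟩, ⟨c, hc, hcz⟩⟩
    have hvz : v * z' = z' * v := hcomm v hv z' hz'B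
    have hvt : v * t = t * v := (hmemC v).mp (hVS hv)
    have hct : c * t = t * c := (hmemC c).mp (hBS hc)
    refine ⟨?_, ?_⟩
    · show h⁻¹ * (v * c) * h * z = z * (h⁻¹ * (v * c) * h)
      rw [hzz']
      calc h⁻¹ * (v * c) * h * (h⁻¹ * z' * h) = h⁻¹ * (v * (c * z')) * h := by group
        _ = h⁻¹ * (v * (z' * c)) * h := by rw [hcz]
        _ = h⁻¹ * (v * z' * c) * h := by group
        _ = h⁻¹ * (z' * v * c) * h := by rw [hvz]
        _ = h⁻¹ * z' * h * (h⁻¹ * (v * c) * h) := by group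
    · show h⁻¹ * (v * c) * h * y = y * (h⁻¹ * (v * c) * h)
      rw [hyy']
      calc h⁻¹ * (v * c) * h * (h⁻¹ * t * h) = h⁻¹ * (v * (c * t)) * h := by group
        _ = h⁻¹ * (v * (t * c)) * h := by rw [hct]
        _ = h⁻¹ * (v * t * c) * h := by group
        _ = h⁻¹ * (t * v * c) * h := by rw [hvt]
        _ = h⁻¹ * t * h * (h⁻¹ * (v * c) * h) := by group
  let f : V × {c : G // c ∈ B ∧ c * z' = z' * c} → {c : G // c * z = z * c ∧ c * y = y * c} :=
    fun p => ⟨h⁻¹ * ((p.1 : G) * p.2.1) * h, hwd p⟩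
  have hsurj : ∀ c : G, c * z = z * c → c * y = y * c →
      ∃ v ∈ V, ∃ b ∈ B, b * z' = z' * b ∧ c = h⁻¹ * (v * b) * h := by
    intro c hcz hcy
    have hc't : (h * c * h⁻¹) * t = t * (h * c * h⁻¹) := by
      rw [← hh]
      calc h * c * h⁻¹ * (h * y * h⁻¹) = h * (c * y) * h⁻¹ := by group
        _ = h * (y * c) * h⁻¹ := by rw [hcy]
        _ = h * y * h⁻¹ * (h * c * h⁻¹) := by group
    have hc'z : (h * c * h⁻¹) * z' = z' * (h * c * h⁻¹) := by
      rw [hz']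
      calc h * c * h⁻¹ * (h * z * h⁻¹) = h * (c * z) * h⁻¹ := by group
        _ = h * (z * c) * h⁻¹ := by rw [hcz]
        _ = h * z * h⁻¹ * (h * c * h⁻¹) := by group
    obtain ⟨v, hv, b, hb, hvb⟩ := idp_decomp hVB _ ((hmemC _).mpr hc't)
    have hvz : v * z' = z' * v := hcomm v hv z' hz'B
    refine ⟨v, hv, b, hb, ?_, ?_⟩
    · rw [hvb] at hc'z
      calc b * z' = v⁻¹ * (v * b * z') := by group
        _ = v⁻¹ * (z' * (v * b)) := by rw [hc'z]
        _ = v⁻¹ * (z' * v) * b := by group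
        _ = v⁻¹ * (v * z') * b := by rw [hvz]
        _ = z' * b := by group
    · rw [← hvb]; group
  have hf : Function.Bijective f := by
    constructor
    · rintro ⟨⟨v, hv⟩, ⟨c, hc, hcz⟩⟩ ⟨⟨v', hv'⟩, ⟨c', hc', hcz'⟩⟩ he
      have he' : h⁻¹ * (v * c) * h = h⁻¹ * (v' * c') * h := congrArg Subtype.val he
      have he'' : v * c = v' * c' := by
        calc v * c = h * (h⁻¹ * (v * c) * h) * h⁻¹ := by group
          _ = h * (h⁻¹ * (v' * c') * h) * h⁻¹ := by rw [he']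
          _ = v' * c' := by group
      obtain ⟨rfl, rfl⟩ := idp_uniq hVB v hv v' hv' c hc c' hc' he''
      rfl
    · rintro ⟨c, hcz, hcy⟩
      obtain ⟨v, hv, b, hb, hbz, rfl⟩ := hsurj c hcz hcy
      exact ⟨(⟨v, hv⟩, ⟨b, hb, hbz⟩), rfl⟩
  constructor
  · have hcard := Nat.card_congr (Equiv.ofBijective f hf)
    rw [Nat.card_prod, hV, h4] at hcard
    omega
  · intro c hcz hcy
    obtain ⟨v, hv, b, hb, hbz, rfl⟩ := hsurj c hcz hcy
    have hb2 : b ^ 2 = 1 := hsq b hb hbz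
    have hv2 : v ^ 2 = 1 := hV2 v hv
    have hvb : Commute v b := hcomm v hv b hb
    calc (h⁻¹ * (v * b) * h) ^ 2 = h⁻¹ * ((v * b) * (v * b)) * h := by rw [pow_two]; group
      _ = h⁻¹ * (v ^ 2 * b ^ 2) * h := by rw [← pow_two, hvb.mul_pow]
      _ = 1 := by rw [hb2, hv2]; group

end Cfsg.Agent.Lib.helper65.S3313
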