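import Mathlib
import Cfsg.Agent.Lib.helper6.S3313Defs

/-!
S3313 piece R2b `cent_of_pair` (helper65).
-/

set_option autoImplicit false

namespace Cfsg.Agent.Lib.helper65.S3313

open Cfsg.Agent.Lib.helper6.S3313

variable {G : Type*} [Group G] [Finite G]

/-- Uniqueness of the decomposition `q * a` with `q ∈ Q`, `a ∈ K` when `K ∩ Q = 1`. -/
theorem r2b_uniq (Q K : Subgroup G) (hinf : ∀ k ∈ K, k ∈ Q → k = 1)
    (q : G) (hq : q ∈ Q) (q' : G) (hq' : q' ∈ Q) (a : G) (ha : a ∈ K) (a' : G) (ha' : a' ∈ K)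
    (h : q * a = q' * a') : q = q' ∧ a = a' := by
  have h1 : q'⁻¹ * q = a' * a⁻¹ := by
    calc q'⁻¹ * q = q'⁻¹ * (q * a) * a⁻¹ := by group
      _ = q'⁻¹ * (q' * a') * a⁻¹ := by rw [h]
      _ = a' * a⁻¹ := by group
  have h2 : a' * a⁻¹ = 1 :=
    hinf _ (K.mul_mem ha' (K.inv_mem ha)) (h1 ▸ Q.mul_mem (Q.inv_mem hq') hq)
  constructor
  · have h3 : q'⁻¹ * q = 1 := h1.trans h2
    exact (inv_mul_eq_one.mp h3).symm
  · exact (mul_inv_eq_one.mp h2).symm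

/-- R2b -/
theorem cent_of_pair (z : G) (Q K : Subgroup G)
    (hQz : ∀ q ∈ Q, q * z = z * q) (hKz : ∀ k ∈ K, k * z = z * k)
    (hnorm : ∀ k ∈ K, ∀ q ∈ Q, k * q * k⁻¹ ∈ Q) (hinf : ∀ k ∈ K, k ∈ Q → k = 1)
    (hC : ∀ c : G, c * z = z * c → ∃ q ∈ Q, ∃ k ∈ K, c = q * k)
    (k : G) (hk : k ∈ K)
    (hKcent : Nat.card {c : G // c ∈ K ∧ c * k = k * c} = 4)
    (h16 : Nat.card {c : G // c * z = z * c ∧ c * k = k * c} = 16) :
    Nat.card {q : G // q ∈ Q ∧ q * k = k * q} = 4 := by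
  have hwd : ∀ p : {q : G // q ∈ Q ∧ q * k = k * q} × {c : G // c ∈ K ∧ c * k = k * c},
      (p.1.1 * p.2.1) * z = z * (p.1.1 * p.2.1) ∧ (p.1.1 * p.2.1) * k = k * (p.1.1 * p.2.1) := by
    rintro ⟨⟨q, hq, hqk⟩, ⟨c, hc, hck⟩⟩
    refine ⟨?_, ?_⟩
    · show q * c * z = z * (q * c)
      rw [mul_assoc, hKz c hc, ← mul_assoc, hQz q hq, mul_assoc]
    · show q * c * k = k * (q * c)
      rw [mul_assoc, hck, ← mul_assoc, hqk, mul_assoc]
  let f : {q : G // q ∈ Q ∧ q * k = k * q} × {c : G // c ∈ K ∧ c * k = k * c} →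
      {c : G // c * z = z * c ∧ c * k = k * c} := fun p => ⟨p.1.1 * p.2.1, hwd p⟩
  have hf : Function.Bijective f := by
    constructor
    · rintro ⟨⟨q, hq, hqk⟩, ⟨c, hc, hck⟩⟩ ⟨⟨q', hq', hqk'⟩, ⟨c', hc', hck'⟩⟩ h
      have h' : q * c = q' * c' := congrArg Subtype.val h
      obtain ⟨rfl, rfl⟩ := r2b_uniq Q K hinf q hq q' hq' c hc c' hc' h'
      rfl
    · rintro ⟨c, hcz, hck⟩
      obtain ⟨q, hq, a, ha, rfl⟩ := hC c hcz
      -- `q * a * k = k * q * a = (k q k⁻¹) (k a)`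
      have h1 : q * (a * k) = (k * q * k⁻¹) * (k * a) := by
        calc q * (a * k) = q * a * k := by group
          _ = k * (q * a) := hck
          _ = (k * q * k⁻¹) * (k * a) := by group
      obtain ⟨e1, e2⟩ := r2b_uniq Q K hinf q hq _ (hnorm k hk q hq) _ (K.mul_mem ha hk) _
        (K.mul_mem hk ha) h1
      have hqk : q * k = k * q := by
        calc q * k = (k * q * k⁻¹) * k := by rw [← e1]
          _ = k * q := by group
      exact ⟨(⟨q, hq, hqk⟩, ⟨a, ha, e2⟩), rfl⟩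
  have hcard := Nat.card_congr (Equiv.ofBijective f hf)
  rw [Nat.card_prod, hKcent, h16] at hcard
  omega

end Cfsg.Agent.Lib.helper65.S3313
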