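import Mathlib
import Cfsg.Prelude.Def_TwoFusion
import Cfsg.Agent.Lib.helper6.S3313Defs
import Cfsg.Agent.Lib.helper65.S3313R2a

/-!
S3313 piece R3 `card_pairs_t` (helper65).
-/

set_option autoImplicit false

namespace Cfsg.Agent.Lib.helper65.S3313

open Cfsg.Agent.Lib.helper6.S3313

variable {G : Type*} [Group G] [Finite G]

omit [Finite G] in
/-- An involution inverting... : if `x ^ 2 = 1`, `y ^ 2 = 1`, `t ^ 2 = 1` and `t = (x * y) ^ m`
then `x` and `y` commute with `t`. -/
theorem r3_dihedral (x y t : G) (hx : x ^ 2 = 1) (hy : y ^ 2 = 1) (ht : t ^ 2 = 1) (m : ℕ)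
    (hm : (x * y) ^ m = t) : x * t = t * x ∧ y * t = t * y := by
  have hxi : x⁻¹ = x := by
    rw [inv_eq_iff_mul_eq_one, ← pow_two]; exact hx
  have hyi : y⁻¹ = y := by
    rw [inv_eq_iff_mul_eq_one, ← pow_two]; exact hy
  have hti : t⁻¹ = t := by
    rw [inv_eq_iff_mul_eq_one, ← pow_two]; exact ht
  have h1 : x * (x * y) * x⁻¹ = (x * y)⁻¹ := by
    rw [mul_inv_rev, hxi, hyi]
    calc x * (x * y) * x = x ^ 2 * (y * x) := by rw [pow_two]; group
      _ = y * x := by rw [hx, one_mul]
  have h2 : y * (x * y) * y⁻¹ = (x * y)⁻¹ := by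
    rw [mul_inv_rev, hxi, hyi]
    calc y * (x * y) * y = y * x * y ^ 2 := by rw [pow_two]; group
      _ = y * x := by rw [hy, mul_one]
  have e1 : x * t * x⁻¹ = t := by
    rw [← hm, ← conj_pow, h1, inv_pow, hm, hti]
  have e2 : y * t * y⁻¹ = t := by
    rw [← hm, ← conj_pow, h2, inv_pow, hm, hti]
  constructor
  · calc x * t = x * t * x⁻¹ * x := by group
      _ = t * x := by rw [e1]
  · calc y * t = y * t * y⁻¹ * y := by group
      _ = t * y := by rw [e2]

/-- R3 -/
theorem card_pairs_t (z t : G) (V B : Subgroup G) (hz : orderOf z = 2) (ht : orderOf t = 2)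
    (hzt : ¬ IsConj z t)
    (hVB : Cfsg.IsInternalDirectProduct V B (Subgroup.centralizer ({t} : Set G)))
    (hV2 : ∀ v ∈ V, v ^ 2 = 1) (htV : t ∈ V)
    (hBz : ∀ x ∈ B, orderOf x = 2 → IsConj x z)
    (hCt : ∀ x ∈ Subgroup.centralizer ({t} : Set G), orderOf x = 2 → x ∉ B → IsConj x t)
    (h195 : Nat.card {p : G × G // p.1 ∈ B ∧ orderOf p.1 = 2 ∧ p.2 ∈ B ∧ p.2 ^ 2 = 1 ∧
      Odd (orderOf (p.1 * p.2))} = 195) :
    Nat.card {p : G × G // IsConj z p.1 ∧ IsConj t p.2 ∧ t ∈ Subgroup.zpowers (p.1 * p.2)}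
      = 195 := by
  have hVS := hVB.1
  have hBS := hVB.2.1
  have hcomm := hVB.2.2.1
  have hinf := hVB.2.2.2.1
  have hmemC : ∀ g : G, g ∈ Subgroup.centralizer ({t} : Set G) ↔ g * t = t * g := by
    intro g
    rw [Subgroup.mem_centralizer_iff]
    constructor
    · intro hg; exact (hg t rfl).symm
    · intro hg x hx; rw [Set.mem_singleton_iff.mp hx]; exact hg.symm
  have ht2 : t ^ 2 = 1 := by rw [← ht]; exact pow_orderOf_eq_one t
  have ht1 : t ≠ 1 := by
    intro h1; rw [h1, orderOf_one] at ht; omega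
  have hz2 : z ^ 2 = 1 := by rw [← hz]; exact pow_orderOf_eq_one z
  have hVB1 : ∀ g : G, g ∈ V → g ∈ B → g = 1 := by
    intro g hgV hgB
    have : g ∈ V ⊓ B := ⟨hgV, hgB⟩
    rwa [hinf, Subgroup.mem_bot] at this
  have htB : t ∉ B := fun h => ht1 (hVB1 t htV h)
  -- forward map
  have hwd : ∀ p : {p : G × G // p.1 ∈ B ∧ orderOf p.1 = 2 ∧ p.2 ∈ B ∧ p.2 ^ 2 = 1 ∧
      Odd (orderOf (p.1 * p.2))},
      IsConj z p.1.1 ∧ IsConj t (t * p.1.2) ∧ t ∈ Subgroup.zpowers (p.1.1 * (t * p.1.2)) := by
    rintro ⟨⟨x, b⟩, hxB, hx2, hbB, hb2, hodd⟩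
    dsimp only at hxB hx2 hbB hb2 hodd ⊢
    have htb : Commute t b := hcomm t htV b hbB
    have htx : Commute t x := hcomm t htV x hxB
    refine ⟨(hBz x hxB hx2).symm, ?_, ?_⟩
    · -- `t * b` is an involution of `C(t)` outside `B`
      have hy2 : (t * b) ^ 2 = 1 := by rw [htb.mul_pow, ht2, hb2, one_mul]
      have hyB : t * b ∉ B := by
        intro h
        apply htB
        have : t = t * b * b⁻¹ := by group
        rw [this]
        exact B.mul_mem h (B.inv_mem hbB)
      have hy1 : t * b ≠ 1 := fun h => hyB (h ▸ B.one_mem)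
      have hyo : orderOf (t * b) = 2 := orderOf_eq_prime hy2 hy1
      have hyC : t * b ∈ Subgroup.centralizer ({t} : Set G) :=
        Subgroup.mul_mem _ (hVS htV) (hBS hbB)
      exact (hCt _ hyC hyo hyB).symm
    · obtain ⟨j, hj⟩ := hodd
      have hcomm2 : Commute t (x * b) := htx.mul_right htb
      have e : x * (t * b) = t * (x * b) := by
        calc x * (t * b) = (x * t) * b := by group
          _ = (t * x) * b := by rw [htx.eq]
          _ = t * (x * b) := by group
      have hpow : (x * (t * b)) ^ orderOf (x * b) = t := by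
        rw [e, hcomm2.mul_pow, pow_orderOf_eq_one, mul_one, hj, pow_succ, pow_mul, ht2, one_pow,
          one_mul]
      have hmem := Subgroup.npow_mem_zpowers (x * (t * b)) (orderOf (x * b))
      rwa [hpow] at hmem
  let f : {p : G × G // p.1 ∈ B ∧ orderOf p.1 = 2 ∧ p.2 ∈ B ∧ p.2 ^ 2 = 1 ∧
      Odd (orderOf (p.1 * p.2))} →
      {p : G × G // IsConj z p.1 ∧ IsConj t p.2 ∧ t ∈ Subgroup.zpowers (p.1 * p.2)} :=
    fun p => ⟨(p.1.1, t * p.1.2), hwd p⟩
  have hf : Function.Bijective f := by
    constructor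
    · rintro ⟨⟨x, b⟩, hp⟩ ⟨⟨x', b'⟩, hp'⟩ he
      have he' : (x, t * b) = (x', t * b') := congrArg Subtype.val he
      have e1 : x = x' := congrArg Prod.fst he'
      have e2 : t * b = t * b' := congrArg Prod.snd he'
      have e3 : b = b' := mul_left_cancel e2
      subst e1; subst e3; rfl
    · rintro ⟨⟨x, y⟩, hzx, hty, hmem⟩
      dsimp only at hzx hty hmem
      -- orders
      have hxo : orderOf x = 2 := by
        obtain ⟨c, hc⟩ := isConj_iff.mp hzx
        have := (MulAut.conj c).orderOf_eq z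
        rw [MulAut.conj_apply, hc] at this
        rw [this, hz]
      have hyo : orderOf y = 2 := by
        obtain ⟨c, hc⟩ := isConj_iff.mp hty
        have := (MulAut.conj c).orderOf_eq t
        rw [MulAut.conj_apply, hc] at this
        rw [this, ht]
      have hx2 : x ^ 2 = 1 := by rw [← hxo]; exact pow_orderOf_eq_one x
      have hy2 : y ^ 2 = 1 := by rw [← hyo]; exact pow_orderOf_eq_one y
      obtain ⟨m, hm⟩ : ∃ m : ℕ, (x * y) ^ m = t := by
        have := mem_powers_iff_mem_zpowers.mpr hmem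
        exact (Submonoid.mem_powers_iff _ _).mp this
      obtain ⟨hxt, hyt⟩ := r3_dihedral x y t hx2 hy2 ht2 m hm
      have hxC : x ∈ Subgroup.centralizer ({t} : Set G) := (hmemC x).mpr hxt
      have hyC : y ∈ Subgroup.centralizer ({t} : Set G) := (hmemC y).mpr hyt
      have hxB : x ∈ B := by
        by_contra hnB
        exact hzt (hzx.trans (hCt x hxC hxo hnB))
      obtain ⟨v, hv, b, hb, rfl⟩ := idp_decomp hVB y hyC
      have hvb : Commute v b := hcomm v hv b hb
      have hv2 : v ^ 2 = 1 := hV2 v hv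
      have hb2 : b ^ 2 = 1 := by
        have := hy2
        rw [hvb.mul_pow, hv2, one_mul] at this
        exact this
      have hvx : Commute v x := hcomm v hv x hxB
      have hvxb : Commute v (x * b) := hvx.mul_right hvb
      have e : x * (v * b) = v * (x * b) := by
        calc x * (v * b) = (x * v) * b := by group
          _ = (v * x) * b := by rw [hvx.eq]
          _ = v * (x * b) := by group
      rw [e, hvxb.mul_pow] at hm
      -- `(x b)^m = v^(-m) t ∈ V ∩ B`
      have hxbm : (x * b) ^ m = 1 := by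
        apply hVB1
        · have : (x * b) ^ m = (v ^ m)⁻¹ * t := by rw [← hm]; group
          rw [this]
          exact V.mul_mem (V.inv_mem (V.pow_mem hv m)) htV
        · exact B.pow_mem (B.mul_mem hxB hb) m
      rw [hxbm, mul_one] at hm
      -- `m` is odd and `v = t`
      have hmodd : Odd m := by
        rcases Nat.even_or_odd m with he | ho
        · exfalso
          obtain ⟨j, hj⟩ := he
          apply ht1
          rw [← hm, hj, ← two_mul, pow_mul, hv2, one_pow]
        · exact ho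
      have hvt : v = t := by
        obtain ⟨j, hj⟩ := hmodd
        rw [hj, pow_succ, pow_mul, hv2, one_pow, one_mul] at hm
        exact hm
      have hodd : Odd (orderOf (x * b)) :=
        Odd.of_dvd_nat hmodd (orderOf_dvd_of_pow_eq_one hxbm)
      refine ⟨⟨(x, b), hxB, hxo, hb, hb2, hodd⟩, ?_⟩
      apply Subtype.ext
      show (x, t * b) = (x, v * b)
      rw [hvt]
  have hcard := Nat.card_congr (Equiv.ofBijective f hf)
  rw [← hcard, h195]

end Cfsg.Agent.Lib.helper65.S3313
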