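import Mathlib

set_option autoImplicit false

namespace Cfsg.Agent.Lib.helper65

section ReeInvol

variable {G : Type*} [Group G]

/-- Conjugation action of the normalizer of `S` on `S`. -/
def reeConjAct (S : Subgroup G) : MulAction ↥(Subgroup.normalizer (S : Set G)) ↥S where
  smul n s := ⟨(n : G) * s * (n : G)⁻¹, (Subgroup.mem_normalizer_iff.mp n.2 _).mp s.2⟩
  one_smul s := by
    apply Subtype.ext
    show ((1 : ↥(Subgroup.normalizer (S : Set G))) : G) * s * ((1 : ↥(Subgroup.normalizer (S : Set G))) : G)⁻¹ = s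
    simp
  mul_smul n m s := by
    apply Subtype.ext
    show ((n * m : ↥(Subgroup.normalizer (S : Set G))) : G) * s * ((n * m : ↥(Subgroup.normalizer (S : Set G))) : G)⁻¹
      = (n : G) * ((m : G) * s * (m : G)⁻¹) * (n : G)⁻¹
    simp [mul_assoc]

theorem ree_exists_sylow_mem [Finite G] (a : G) (ha2 : a * a = 1) : ∃ S : Sylow 2 G, a ∈ S := by
  haveI : Fact (Nat.Prime 2) := ⟨Nat.prime_two⟩
  have hp : IsPGroup 2 (Subgroup.zpowers a) := by
    rintro ⟨g, hg⟩
    refine ⟨1, ?_⟩
    obtain ⟨k, rfl⟩ := Subgroup.mem_zpowers_iff.mp hg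
    apply Subtype.ext
    simp only [pow_one, Subgroup.coe_pow, Subgroup.coe_one]
    rw [← zpow_natCast, ← zpow_mul, mul_comm, zpow_mul, zpow_natCast, pow_two, ha2, one_zpow]
  obtain ⟨S, hS⟩ := hp.exists_le_sylow
  exact ⟨S, hS (Subgroup.mem_zpowers a)⟩

theorem ree_key [Finite G] (S : Subgroup G) (h8 : Nat.card S = 8) (hexp : ∀ x ∈ S, x * x = 1)
    (hC : Subgroup.centralizer (S : Set G) = S)
    (h168 : Nat.card (Subgroup.normalizer (S : Set G)) = 168) (x y : G) (hx : x ∈ S) (hy : y ∈ S)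
    (hx1 : x ≠ 1) (hy1 : y ≠ 1) : ∃ k : G, k * x * k⁻¹ = y := by
  haveI : Fact (Nat.Prime 7) := ⟨by norm_num⟩
  obtain ⟨c, hc⟩ := exists_prime_orderOf_dvd_card' (G := ↥(Subgroup.normalizer (S : Set G))) 7
    (by rw [h168]; norm_num)
  letI := reeConjAct S
  have hsmul : ∀ (k : ↥(Subgroup.zpowers c)) (s : ↥S),
      ((k • s : ↥S) : G) = ((k : ↥(Subgroup.normalizer (S : Set G))) : G) * s *
        ((k : ↥(Subgroup.normalizer (S : Set G))) : G)⁻¹ := fun k s => rfl
  have hZ7 : Nat.card ↥(Subgroup.zpowers c) = 7 := by rw [Nat.card_zpowers, hc]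
  have hZp : IsPGroup 7 ↥(Subgroup.zpowers c) := IsPGroup.of_card (n := 1) (by rw [hZ7]; norm_num)
  have hmod := hZp.card_modEq_card_fixedPoints (↥S)
  have hfix1 : (1 : ↥S) ∈ MulAction.fixedPoints ↥(Subgroup.zpowers c) ↥S := by
    intro k
    apply Subtype.ext
    rw [hsmul]
    simp
  have hnotall : ¬ (∀ s : ↥S, s ∈ MulAction.fixedPoints ↥(Subgroup.zpowers c) ↥S) := by
    intro hall
    have hcS : (c : G) ∈ Subgroup.centralizer (S : Set G) := by
      rw [Subgroup.mem_centralizer_iff]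
      intro s hs
      have h1 := hall ⟨s, hs⟩ ⟨c, Subgroup.mem_zpowers c⟩
      have h2 : (c : G) * s * (c : G)⁻¹ = s := congrArg Subtype.val h1
      calc s * (c : G) = ((c : G) * s * (c : G)⁻¹) * (c : G) := by rw [h2]
        _ = (c : G) * s := by group
    rw [hC] at hcS
    have h3 := hexp _ hcS
    have h7 : orderOf (c : G) = 7 := by rw [Subgroup.orderOf_coe]; exact hc
    have h4 : orderOf (c : G) ∣ 2 := orderOf_dvd_of_pow_eq_one (by rw [pow_two]; exact h3)
    rw [h7] at h4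
    have := Nat.le_of_dvd (by norm_num) h4
    omega
  have hcardfix : Nat.card (MulAction.fixedPoints ↥(Subgroup.zpowers c) ↥S) = 1 := by
    obtain ⟨s, hs⟩ := not_forall.mp hnotall
    have hlt : Nat.card (MulAction.fixedPoints ↥(Subgroup.zpowers c) ↥S) < Nat.card ↥S :=
      Finite.card_subtype_lt hs
    rw [h8] at hlt hmod
    have := hmod
    unfold Nat.ModEq at this
    omega
  have hsub : Subsingleton (MulAction.fixedPoints ↥(Subgroup.zpowers c) ↥S) :=
    (Finite.card_le_one_iff_subsingleton).mp (le_of_eq hcardfix)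
  have hnofix : ∀ z : ↥S, z ≠ 1 → z ∉ MulAction.fixedPoints ↥(Subgroup.zpowers c) ↥S := by
    intro z hz hzf
    have := hsub.elim ⟨z, hzf⟩ ⟨1, hfix1⟩
    exact hz (congrArg Subtype.val this)
  have hx' : (⟨x, hx⟩ : ↥S) ≠ 1 := fun h => hx1 (congrArg Subtype.val h)
  haveI : Fact (Nat.card ↥(Subgroup.zpowers c)).Prime := ⟨by rw [hZ7]; norm_num⟩
  have hstab : MulAction.stabilizer ↥(Subgroup.zpowers c) (⟨x, hx⟩ : ↥S) = ⊥ := by
    rcases Subgroup.eq_bot_or_eq_top_of_prime_card
      (MulAction.stabilizer ↥(Subgroup.zpowers c) (⟨x, hx⟩ : ↥S)) with h | h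
    · exact h
    · exfalso
      apply hnofix _ hx'
      intro k
      have : k ∈ MulAction.stabilizer ↥(Subgroup.zpowers c) (⟨x, hx⟩ : ↥S) := by rw [h]; trivial
      exact this
  -- the map Option Z → S
  let f : Option ↥(Subgroup.zpowers c) → ↥S := fun o =>
    match o with
    | none => 1
    | some k => k • (⟨x, hx⟩ : ↥S)
  have hne1 : ∀ k : ↥(Subgroup.zpowers c), k • (⟨x, hx⟩ : ↥S) ≠ 1 := by
    intro k hk
    have h1 : ((k : ↥(Subgroup.normalizer (S : Set G))) : G) * x *
        ((k : ↥(Subgroup.normalizer (S : Set G))) : G)⁻¹ = 1 := by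
      have := congrArg Subtype.val hk
      rw [hsmul] at this
      exact this
    apply hx1
    have h2 : x = ((k : ↥(Subgroup.normalizer (S : Set G))) : G)⁻¹ *
        (((k : ↥(Subgroup.normalizer (S : Set G))) : G) * x *
        ((k : ↥(Subgroup.normalizer (S : Set G))) : G)⁻¹) *
        ((k : ↥(Subgroup.normalizer (S : Set G))) : G) := by group
    rw [h2, h1]; group
  have hinj : Function.Injective f := by
    intro o1 o2 h
    match o1, o2 with
    | none, none => rfl
    | none, some k => exact absurd h.symm (hne1 k)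
    | some k, none => exact absurd h (hne1 k)
    | some k, some k' =>
      have h' : k • (⟨x, hx⟩ : ↥S) = k' • (⟨x, hx⟩ : ↥S) := h
      have h1 : k'⁻¹ * k ∈ MulAction.stabilizer ↥(Subgroup.zpowers c) (⟨x, hx⟩ : ↥S) := by
        rw [MulAction.mem_stabilizer_iff, mul_smul, h', inv_smul_smul]
      rw [hstab, Subgroup.mem_bot] at h1
      have : k = k' := by
        have := congrArg (fun t => k' * t) h1
        simpa using this
      rw [this]
  have hbij : Function.Bijective f := by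
    apply hinj.bijective_of_nat_card_le
    rw [Finite.card_option, hZ7, h8]
  obtain ⟨o, ho⟩ := hbij.2 ⟨y, hy⟩
  match o, ho with
  | none, ho =>
    exfalso
    apply hy1
    have : (1 : ↥S) = ⟨y, hy⟩ := ho
    exact (congrArg Subtype.val this).symm
  | some k, ho =>
    refine ⟨((k : ↥(Subgroup.normalizer (S : Set G))) : G), ?_⟩
    have h1 : k • (⟨x, hx⟩ : ↥S) = ⟨y, hy⟩ := ho
    have := congrArg Subtype.val h1
    rw [hsmul] at this
    exact this

/-- PIECE D of helper44's S1158/S1159 split: all involutions are conjugate when a Sylow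
2-subgroup is elementary abelian of order 8, self-centralizing, with normalizer of order 168. -/
theorem invol_conj_of_sylow_eight {G : Type*} [Group G] [Finite G] (hsyl : ∀ S : Sylow 2 G, Nat.card S = 8 ∧ ∀ x ∈ S, x * x = 1) (hN : ∀ S : Sylow 2 G, Subgroup.centralizer ((S : Subgroup G) : Set G) = S ∧ Nat.card (Subgroup.normalizer ((S : Subgroup G) : Set G)) = 168) {a b : G} (ha1 : a ≠ 1) (ha2 : a * a = 1) (hb1 : b ≠ 1) (hb2 : b * b = 1) : ∃ g : G, g * a * g⁻¹ = b := by
  haveI : Fact (Nat.Prime 2) := ⟨Nat.prime_two⟩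
  obtain ⟨Sa, hSa⟩ := ree_exists_sylow_mem a ha2
  obtain ⟨Sb, hSb⟩ := ree_exists_sylow_mem b hb2
  obtain ⟨g, hg⟩ := MulAction.exists_smul_eq G Sa Sb
  have hga : g * a * g⁻¹ ∈ (Sb : Subgroup G) := by
    rw [← hg, Sylow.coe_subgroup_smul]
    exact Subgroup.smul_mem_pointwise_smul a (MulAut.conj g) (Sa : Subgroup G) hSa
  have hga1 : g * a * g⁻¹ ≠ 1 := by
    intro h
    apply ha1
    have : a = g⁻¹ * (g * a * g⁻¹) * g := by group
    rw [this, h]; group
  obtain ⟨k, hk⟩ := ree_key (Sb : Subgroup G) (hsyl Sb).1 (hsyl Sb).2 (hN Sb).1 (hN Sb).2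
    (g * a * g⁻¹) b hga hSb hga1 hb1
  refine ⟨k * g, ?_⟩
  rw [← hk]; group

end ReeInvol

end Cfsg.Agent.Lib.helper65
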