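import Mathlib
import Cfsg.Agent.Lib.helper38.FQ2
import Cfsg.Agent.Lib.helper14.FQSA
import Cfsg.Agent.Lib.helper13.Count
import Cfsg.Agent.Lib.helper65.ReeInvol

set_option autoImplicit false

namespace Cfsg.Agent.Lib.helper65

open Cfsg.Agent.Lib.helper38.FQ

section FQD1

variable {S : Type*} [Group S] [Finite S]

/-- The statement of piece SA (`small_action_large`) of the S4404 split, for a fixed group. -/
def FqSALarge (S : Type*) [Group S] : Prop :=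
  ∀ (A U : Subgroup S), A ≤ Subgroup.normalizer (U : Set S) → (∀ u ∈ U, u * u = 1) →
    Nat.card ↥U ≤ 16 → ∀ (p : ℕ), p.Prime → 5 ≤ p → IsPGroup p ↥A → ∀ a : S, a ∈ A →
    a ∉ Subgroup.centralizer (U : Set S) →
    (p = 5 ∨ p = 7) ∧ a ^ p ∈ Subgroup.centralizer (U : Set S) ∧
      ∀ b ∈ A, ∃ j : ℕ, b * (a ^ j)⁻¹ ∈ Subgroup.centralizer (U : Set S)

theorem fq_pow_two_mod_seven (i : ℕ) (hi : i ≤ 4) (h1 : 2 ^ i % 7 = 1 % 7) (h2 : 2 ^ i ≠ 1) :
    2 ^ i = 8 := by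
  interval_cases i <;> simp_all

theorem fq_cube_mod_five (j : ℕ) (h : (j * (j * j)) % 5 = 1 % 5) : j % 5 = 1 := by
  have h4 : (j * (j * j)) % 5 = ((j % 5) * ((j % 5) * (j % 5))) % 5 := by
    simp [Nat.mul_mod]
  rw [h4] at h
  have h5 : j % 5 < 5 := Nat.mod_lt _ (by norm_num)
  generalize j % 5 = r at h h5 ⊢
  interval_cases r <;> simp_all

/-- A subgroup `D` of exponent 2 and order at most 16 on which an element `c` of `7`-power order
acts by conjugation without nontrivial fixed points has order `8` (if it is nontrivial). -/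
theorem fq_card_eight (D : Subgroup S) (hD2 : ∀ u ∈ D, u * u = 1) (hD16 : Nat.card ↥D ≤ 16)
    (hD1 : D ≠ ⊥) (c : S) (hcN : c ∈ Subgroup.normalizer (D : Set S)) (k : ℕ)
    (hck : c ^ 7 ^ k = 1) (hfpf : ∀ w ∈ D, c * w * c⁻¹ = w → w = 1) : Nat.card ↥D = 8 := by
  haveI : Fact (Nat.Prime 7) := ⟨by norm_num⟩
  have h2grp : IsPGroup 2 ↥D := by
    rintro ⟨g, hg⟩
    refine ⟨1, ?_⟩
    apply Subtype.ext
    simp only [pow_one, Subgroup.coe_pow, Subgroup.coe_one]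
    rw [pow_two]; exact hD2 g hg
  obtain ⟨i, hi⟩ := h2grp.exists_card_eq
  have hi4 : i ≤ 4 := by
    by_contra hcon
    have : 2 ^ 5 ≤ 2 ^ i := Nat.pow_le_pow_right (by norm_num) (by omega)
    rw [hi] at hD16
    omega
  letI := reeConjAct D
  have hsmul : ∀ (z : ↥(Subgroup.zpowers (⟨c, hcN⟩ : ↥(Subgroup.normalizer (D : Set S)))))
      (s : ↥D), ((z • s : ↥D) : S) = ((z : ↥(Subgroup.normalizer (D : Set S))) : S) * s *
        ((z : ↥(Subgroup.normalizer (D : Set S))) : S)⁻¹ := fun z s => rfl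
  have hZp : IsPGroup 7 ↥(Subgroup.zpowers (⟨c, hcN⟩ : ↥(Subgroup.normalizer (D : Set S)))) := by
    rintro ⟨g, hg⟩
    obtain ⟨z, rfl⟩ := Subgroup.mem_zpowers_iff.mp hg
    refine ⟨k, ?_⟩
    apply Subtype.ext
    apply Subtype.ext
    simp only [Subgroup.coe_pow, Subgroup.coe_zpow, Subgroup.coe_one]
    rw [← zpow_natCast, ← zpow_mul, mul_comm, zpow_mul, zpow_natCast, hck, one_zpow]
  have hmod := hZp.card_modEq_card_fixedPoints (↥D)
  have hfix : Nat.card (MulAction.fixedPoints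
      ↥(Subgroup.zpowers (⟨c, hcN⟩ : ↥(Subgroup.normalizer (D : Set S)))) ↥D) = 1 := by
    rw [Nat.card_eq_one_iff_unique]
    have hone : ∀ y : ↥D, y ∈ MulAction.fixedPoints
        ↥(Subgroup.zpowers (⟨c, hcN⟩ : ↥(Subgroup.normalizer (D : Set S)))) ↥D → y = 1 := by
      intro y hy
      apply Subtype.ext
      apply hfpf (y : S) y.2
      have := hy ⟨⟨c, hcN⟩, Subgroup.mem_zpowers _⟩
      have h2 := congrArg Subtype.val this
      rw [hsmul] at h2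
      exact h2
    refine ⟨⟨fun a b => ?_⟩, ⟨⟨1, fun z => ?_⟩⟩⟩
    · apply Subtype.ext
      rw [hone a.1 a.2, hone b.1 b.2]
    · apply Subtype.ext
      rw [hsmul]
      simp
  rw [hfix, hi] at hmod
  have hne1 : Nat.card ↥D ≠ 1 := fun h1 => hD1 (Subgroup.card_eq_one.mp h1)
  rw [hi] at hne1 ⊢
  exact fq_pow_two_mod_seven i hi4 hmod hne1

/-- Piece D1 of the S4404 split, with piece SA as a hypothesis. -/
theorem comm_trivial_or_seven_of (hSA : FqSALarge S) {M Q : Subgroup S} (h : Hyp M Q) (p : ℕ)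
    (hp : p.Prime) (hp5 : 5 ≤ p) (P : Subgroup S) (hP : IsPGroup p ↥P)
    (hQP : Q ≤ Subgroup.normalizer (P : Set S)) (x : S) (hx : Subgroup.zpowers x = Q)
    (a : S) (ha : a ∈ P) :
    x⁻¹ * a * x * a⁻¹ ∈ Subgroup.centralizer (M : Set S) ∨
      (p = 7 ∧ ⁅Q, M⁆ ≤ ⁅Subgroup.zpowers (x⁻¹ * a * x * a⁻¹), M⁆ ∧
        Nat.card ↥⁅Subgroup.zpowers (x⁻¹ * a * x * a⁻¹), M⁆ = 8) := by
  have e := h.ea
  haveI := h.normal
  obtain ⟨c, hc_def⟩ : ∃ c : S, c = x⁻¹ * a * x * a⁻¹ := ⟨_, rfl⟩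
  rw [← hc_def]
  by_cases hcM : c ∈ Subgroup.centralizer (M : Set S)
  · left; exact hcM
  right
  have hxQ : x ∈ Q := h.x_mem hx
  obtain ⟨W, hW⟩ : ∃ W : Subgroup S, W = ⁅Q, M⁆ := ⟨_, rfl⟩
  rw [← hW]
  have hWM : W ≤ M := by rw [hW]; exact h.W_le
  obtain ⟨W', hW'⟩ : ∃ W' : Subgroup S, W' = W.map (MulAut.conj a).toMonoidHom := ⟨_, rfl⟩
  have hW'M : W' ≤ M := by
    rw [hW', ← e.map_conj_self a]; exact Subgroup.map_mono hWM
  have hW'eq : W' = ⁅Subgroup.zpowers (a * x * a⁻¹), M⁆ := by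
    rw [hW', hW, ← hx, e.map_conj_comm, EA.map_conj_zpowers]
  obtain ⟨U', hU'⟩ : ∃ U' : Subgroup S, U' = W ⊔ W' := ⟨_, rfl⟩
  have hWU : W ≤ U' := by rw [hU']; exact le_sup_left
  have hW'U : W' ≤ U' := by rw [hU']; exact le_sup_right
  have hU'M : U' ≤ M := by rw [hU']; exact sup_le hWM hW'M
  have hcardW : Nat.card ↥W = 4 := by rw [hW]; exact h.card
  have hcardW' : Nat.card ↥W' = 4 := by
    rw [hW', Subgroup.card_map_of_injective (MulAut.conj a).injective]; exact hcardW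
  have hU'16 : Nat.card ↥U' ≤ 16 := by
    have hnorm : W ≤ Subgroup.normalizer (W' : Set S) := by
      refine le_trans ?_ (Subgroup.centralizer_le_normalizer _)
      intro w hw
      rw [Subgroup.mem_centralizer_iff]
      intro w' hw'
      exact e.comm _ (hW'M hw') _ (hWM hw)
    have h1 := Cfsg.Agent.Lib.helper13.card_sup_mul_card_inf W W' hnorm
    rw [hcardW, hcardW', ← hU'] at h1
    have hpos : 0 < Nat.card ↥(W ⊓ W' : Subgroup S) := Nat.card_pos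
    nlinarith
  have hU'2 : ∀ u ∈ U', u * u = 1 := fun u hu => e.sq u (hU'M hu)
  obtain ⟨T, hT⟩ : ∃ T : Subgroup S, T = e.trivOn U' hU'M := ⟨_, rfl⟩
  have hTmem : ∀ g : S, g ∈ T ↔ ∀ m ∈ M, g * m * g⁻¹ * m⁻¹ ∈ U' := by
    intro g; rw [hT]; exact e.mem_trivOn U' hU'M g
  have hxT : x ∈ T := by
    rw [hTmem]
    intro m hm
    apply hWU
    rw [hW, ← commutatorElement_def]
    exact Subgroup.commutator_mem_commutator hxQ hm
  have hx'T : a * x * a⁻¹ ∈ T := by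
    rw [hTmem]
    intro m hm
    apply hW'U
    rw [hW'eq, ← commutatorElement_def]
    exact Subgroup.commutator_mem_commutator (Subgroup.mem_zpowers _) hm
  have hc_eq : c = x⁻¹ * (a * x * a⁻¹) := by rw [hc_def]; group
  have hcT : c ∈ T := by rw [hc_eq]; exact T.mul_mem (T.inv_mem hxT) hx'T
  have hTN : T ≤ Subgroup.normalizer (U' : Set S) := by
    intro g hg
    rw [Subgroup.mem_normalizer_iff]
    intro u
    constructor
    · intro hu
      have h1 := U'.mul_mem ((hTmem g).mp hg u (hU'M hu)) hu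
      have e1 : g * u * g⁻¹ * u⁻¹ * u = g * u * g⁻¹ := by group
      rwa [e1] at h1
    · intro hu
      have hg' := T.inv_mem hg
      have h1 := U'.mul_mem ((hTmem _).mp hg' _ (hU'M hu)) hu
      have e1 : g⁻¹ * (g * u * g⁻¹) * g⁻¹⁻¹ * (g * u * g⁻¹)⁻¹ * (g * u * g⁻¹) = u := by group
      rwa [e1] at h1
  have hxNP : x ∈ Subgroup.normalizer (P : Set S) := hQP hxQ
  have hxinvNP : x⁻¹ ∈ Subgroup.normalizer (P : Set S) := Subgroup.inv_mem _ hxNP
  have hcP : c ∈ P := by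
    have h1 : x⁻¹ * a * x⁻¹⁻¹ ∈ P := (Subgroup.mem_normalizer_iff.mp hxinvNP a).mp ha
    rw [inv_inv] at h1
    rw [hc_def]; exact P.mul_mem h1 (P.inv_mem ha)
  have hp2 : Odd p := hp.odd_of_ne_two (by omega)
  have hPpow : ∀ g ∈ P, ∃ k : ℕ, g ^ p ^ k = 1 := by
    intro g hg
    obtain ⟨k, hk⟩ := hP ⟨g, hg⟩
    refine ⟨k, ?_⟩
    have h1 := congrArg Subtype.val hk
    simpa using h1
  have hstab : ∀ g ∈ P, g ∈ T → g ∈ Subgroup.centralizer (U' : Set S) →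
      g ∈ Subgroup.centralizer (M : Set S) := by
    intro g hgP hgT hgU
    obtain ⟨k, hk⟩ := hPpow g hgP
    refine e.stab g (p ^ k) hp2.pow hk U' hU'M ?_ ((hTmem g).mp hgT)
    intro u hu
    have h1 := Subgroup.mem_centralizer_iff.mp hgU u hu
    rw [← h1]; group
  have hcU : c ∉ Subgroup.centralizer (U' : Set S) := fun hcu => hcM (hstab c hcP hcT hcu)
  obtain ⟨hp57, hcp, hall⟩ := hSA (P ⊓ Subgroup.normalizer (U' : Set S)) U' inf_le_right hU'2
    hU'16 p hp hp5 (hP.to_le inf_le_left) c ⟨hcP, hTN hcT⟩ hcU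
  have hcpM : c ^ p ∈ Subgroup.centralizer (M : Set S) :=
    hstab _ (P.pow_mem hcP p) (T.pow_mem hcT p) hcp
  have hbP : x * c * x⁻¹ ∈ P := (Subgroup.mem_normalizer_iff.mp hxNP c).mp hcP
  have hbT : x * c * x⁻¹ ∈ T := T.mul_mem (T.mul_mem hxT hcT) (T.inv_mem hxT)
  obtain ⟨j, hj⟩ := hall (x * c * x⁻¹) ⟨hbP, hTN hbT⟩
  have hjM : x * c * x⁻¹ * (c ^ j)⁻¹ ∈ Subgroup.centralizer (M : Set S) :=
    hstab _ (P.mul_mem hbP (P.inv_mem (P.pow_mem hcP j)))
      (T.mul_mem hbT (T.inv_mem (T.pow_mem hcT j))) hj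
  -- the quotient by `C_S(M)`
  have hKn : (Subgroup.centralizer (M : Set S)).Normal := Subgroup.normal_centralizer
  have hπ : ∀ g : S, (QuotientGroup.mk' (Subgroup.centralizer (M : Set S))) g = 1 ↔
      g ∈ Subgroup.centralizer (M : Set S) := fun g => QuotientGroup.eq_one_iff g
  obtain ⟨X, hX⟩ : ∃ X, X = (QuotientGroup.mk' (Subgroup.centralizer (M : Set S))) x := ⟨_, rfl⟩
  obtain ⟨C, hC⟩ : ∃ C, C = (QuotientGroup.mk' (Subgroup.centralizer (M : Set S))) c := ⟨_, rfl⟩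
  have hX3 : X ^ 3 = 1 := by rw [hX, ← map_pow, hπ]; exact h.x_cube hx
  have hC1 : C ≠ 1 := by rw [hC, Ne, hπ]; exact hcM
  have hCp : C ^ p = 1 := by rw [hC, ← map_pow, hπ]; exact hcpM
  have hXC : X * C * X⁻¹ = C ^ j := by
    have h1 : (QuotientGroup.mk' (Subgroup.centralizer (M : Set S))) (x * c * x⁻¹ * (c ^ j)⁻¹) = 1 :=
      (hπ _).mpr hjM
    rw [map_mul, map_mul, map_mul, map_inv, map_inv, map_pow, ← hX, ← hC] at h1
    exact mul_inv_eq_one.mp h1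
  have hXC3 : (X * C) ^ 3 = 1 := by
    have h1 : x * c = a * x * a⁻¹ := by rw [hc_def]; group
    have h2 : (a * x * a⁻¹) ^ 3 = a * x ^ 3 * a⁻¹ := conj_pow
    rw [hX, hC, ← map_mul, ← map_pow, hπ, h1, h2]
    exact hKn.conj_mem _ (h.x_cube hx) a
  have hordC : orderOf C = p := by
    haveI := Fact.mk hp
    exact orderOf_eq_prime hCp hC1
  have hp7 : p = 7 := by
    rcases hp57 with h5 | h7
    · exfalso
      rw [h5] at hordC
      have hconj : ∀ n : ℕ, X * C ^ n * X⁻¹ = C ^ (j * n) := by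
        intro n
        rw [pow_mul, ← hXC, conj_pow]
      have h3 : C ^ (j * (j * j)) = C ^ 1 := by
        have hXXX : X * X * X = 1 := by rw [← hX3, pow_succ, pow_succ, pow_one]
        have e1 : X * (X * (X * C ^ 1 * X⁻¹) * X⁻¹) * X⁻¹ = (X * X * X) * C * (X * X * X)⁻¹ := by
          rw [pow_one]; group
        have e2 : X * (X * (X * C ^ 1 * X⁻¹) * X⁻¹) * X⁻¹ = C ^ (j * (j * j)) := by
          rw [hconj 1, hconj (j * 1), hconj (j * (j * 1)), mul_one]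
        rw [← e2, e1, hXXX, one_mul, inv_one, mul_one, pow_one]
      rw [pow_eq_pow_iff_modEq, hordC] at h3
      have hj1 : j % 5 = 1 := fq_cube_mod_five j h3
      have hCj : C ^ j = C ^ 1 := by
        rw [pow_eq_pow_iff_modEq, hordC]; exact hj1
      rw [hCj, pow_one] at hXC
      have hcomm : Commute X C := by
        have : X * C = C * X := by
          calc X * C = (X * C * X⁻¹) * X := by group
            _ = C * X := by rw [hXC]
        exact this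
      rw [hcomm.mul_pow, hX3, one_mul] at hXC3
      have h6 := orderOf_dvd_of_pow_eq_one hXC3
      rw [hordC] at h6
      have := Nat.le_of_dvd (by norm_num) h6
      omega
    · exact h7
  subst hp7
  refine ⟨rfl, ?_⟩
  obtain ⟨Dc, hDc⟩ : ∃ Dc : Subgroup S, Dc = ⁅Subgroup.zpowers c, M⁆ := ⟨_, rfl⟩
  rw [← hDc]
  have hDcU : Dc ≤ U' := by
    rw [hDc]; exact e.comm_zpowers_le c U' hU'M ((hTmem c).mp hcT)
  have hDcM : Dc ≤ M := by rw [hDc]; exact e.comm_zpowers_le_M c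
  have hfpf : ∀ w ∈ Dc, c * w * c⁻¹ = w → w = 1 := by
    intro w hw hfix
    rw [hDc] at hw
    exact e.fpf c 7 (by decide) hcpM w hw hfix
  have hDc1 : Dc ≠ ⊥ := by
    intro h0
    apply hcM
    rw [Subgroup.mem_centralizer_iff]
    intro m hm
    have h1 : c * m * c⁻¹ * m⁻¹ ∈ Dc := by
      rw [hDc]; exact (e.mem_comm_zpowers_iff c _).mpr ⟨m, hm, rfl⟩
    rw [h0, Subgroup.mem_bot] at h1
    have e1 : c * m = (c * m * c⁻¹ * m⁻¹) * (m * c) := by group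
    rw [e1, h1, one_mul]
  have hcN : c ∈ Subgroup.normalizer (Dc : Set S) := by
    rw [Subgroup.mem_normalizer_iff]
    intro w
    constructor
    · intro hw
      rw [hDc] at hw ⊢
      exact e.conj_mem_comm_zpowers c w hw
    · intro hw
      rw [hDc] at hw ⊢
      obtain ⟨m, hm, hm2⟩ := (e.mem_comm_zpowers_iff c _).mp hw
      refine (e.mem_comm_zpowers_iff c _).mpr ⟨c⁻¹ * m * c, ?_, ?_⟩
      · have := e.conj_mem hm c⁻¹
        rwa [inv_inv] at this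
      · have e1 : w = c⁻¹ * (c * w * c⁻¹) * c := by group
        rw [e1, hm2]; group
  obtain ⟨k, hk⟩ := hPpow c hcP
  have hcardDc : Nat.card ↥Dc = 8 :=
    fq_card_eight Dc (fun u hu => e.sq u (hDcM hu)) (le_trans (Subgroup.card_le_of_le hDcU) hU'16)
      hDc1 c hcN k hk hfpf
  have hxDc : ∀ w ∈ Dc, x * w * x⁻¹ ∈ Dc := by
    intro w hw
    rw [hDc] at hw ⊢
    obtain ⟨m, hm, rfl⟩ := (e.mem_comm_zpowers_iff c w).mp hw
    have hm' : x * m * x⁻¹ ∈ M := e.conj_mem hm x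
    have hy : c ^ j * (x * m * x⁻¹) * (c ^ j)⁻¹ ∈ M := e.conj_mem hm' _
    have hcomm := Subgroup.mem_centralizer_iff.mp hjM _ hy
    have e1 : x * (c * m * c⁻¹ * m⁻¹) * x⁻¹ = (x * c * x⁻¹ * (c ^ j)⁻¹) *
        (c ^ j * (x * m * x⁻¹) * (c ^ j)⁻¹) * (x * c * x⁻¹ * (c ^ j)⁻¹)⁻¹ * (x * m * x⁻¹)⁻¹ := by
      group
    have e2 : (x * c * x⁻¹ * (c ^ j)⁻¹) * (c ^ j * (x * m * x⁻¹) * (c ^ j)⁻¹) *
        (x * c * x⁻¹ * (c ^ j)⁻¹)⁻¹ = c ^ j * (x * m * x⁻¹) * (c ^ j)⁻¹ := by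
      rw [← hcomm]; group
    rw [e1, e2]
    have h1 : c ^ j * (x * m * x⁻¹) * (c ^ j)⁻¹ * (x * m * x⁻¹)⁻¹ ∈
        ⁅Subgroup.zpowers (c ^ j), M⁆ := by
      rw [← commutatorElement_def]
      exact Subgroup.commutator_mem_commutator (Subgroup.mem_zpowers _) hm'
    exact EA.comm_zpowers_pow_le c j M h1
  have hinv : ∀ n ∈ W ⊓ Dc, x * n * x⁻¹ ∈ W ⊓ Dc := by
    intro n hn
    refine ⟨?_, hxDc n hn.2⟩
    have h1 := hn.1
    rw [hW] at h1 ⊢
    exact h.conj_mem_W hx n h1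
  have hsub : W ⊓ Dc ≤ ⁅Q, M⁆ := by rw [← hW]; exact inf_le_left
  rcases h.invariant_sub hx (W ⊓ Dc) hsub hinv with h0 | h1
  · exfalso
    have h2 := Cfsg.Agent.Lib.helper13.card_mul_card_le_sup_inf W Dc
    rw [h0, Subgroup.card_bot, hcardW, hcardDc, mul_one] at h2
    have h3 : Nat.card ↥(W ⊔ Dc : Subgroup S) ≤ Nat.card ↥U' :=
      Subgroup.card_le_of_le (sup_le hWU hDcU)
    omega
  · refine ⟨?_, hcardDc⟩
    rw [← hW] at h1
    exact inf_eq_left.mp h1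

/-- Piece D1 of the S4404 split. -/
theorem comm_trivial_or_seven {M Q : Subgroup S} (h : Hyp M Q) (p : ℕ) (hp : p.Prime)
    (hp5 : 5 ≤ p) (P : Subgroup S) (hP : IsPGroup p ↥P)
    (hQP : Q ≤ Subgroup.normalizer (P : Set S)) (x : S) (hx : Subgroup.zpowers x = Q)
    (a : S) (ha : a ∈ P) :
    x⁻¹ * a * x * a⁻¹ ∈ Subgroup.centralizer (M : Set S) ∨
      (p = 7 ∧ ⁅Q, M⁆ ≤ ⁅Subgroup.zpowers (x⁻¹ * a * x * a⁻¹), M⁆ ∧
        Nat.card ↥⁅Subgroup.zpowers (x⁻¹ * a * x * a⁻¹), M⁆ = 8) :=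
  comm_trivial_or_seven_of (fun A U hAU hU hU16 p hp hp5 hA a ha ha' =>
    Cfsg.Agent.Lib.helper14.small_action_large A U hAU hU hU16 p hp hp5 hA a ha ha')
    h p hp hp5 P hP hQP x hx a ha

end FQD1

end Cfsg.Agent.Lib.helper65
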