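import Mathlib
import Cfsg.Prelude.Def_Transfer
import Cfsg.Agent.Lib.helper1.BurnsideBasis
import Cfsg.Agent.Lib.helper3.Class2
import Cfsg.Agent.Lib.helper3.PGroupNormal
import Cfsg.Agent.Lib.helper3.PGroupFrattini
import Cfsg.Agent.Lib.helper70.ExtraP3
import Cfsg.Agent.Lib.helper71.Frattini
import Cfsg.Agent.Lib.helper42.DihedralEight

/-!
# Generalised extraspecial groups with an elementary abelian centraliser (helper65)

`GEData p G z₁`: `G` is a `p`-group with `Φ(G) = G'` of order `p`, and `z₁ ∉ G'` is an element whose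
centraliser is elementary abelian.

* `GEData.exists_decomp`: if `h` does not commute with `u` then every `x` is `h ^ k * y` with `y`
  commuting with `u`.
* `GEData.exists_split`: `G = K × A` (internal), `|K| = p ^ 3`, `A` central, `z₁ ∈ K` non-central
  in `K`.
* `GEData.two`: for `p = 2`, `G ≅ D₈ × A` with `A` elementary abelian.
* `GEData.odd`: for `p` odd and `G` of exponent `p`, `G ≅ E × A` with `E` extraspecial of order
  `p ^ 3` and exponent `p`.
* `GEData.omega`: for `p` odd, the `p`-th power map is a homomorphism, and if `G` does not have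
  exponent `p` then the elements of order dividing `p` are exactly the centraliser of `z₁`.
-/

set_option autoImplicit false

namespace Cfsg.Agent.Lib.helper65

open scoped commutatorElement Pointwise
open Subgroup

/-- In a subgroup of prime order every element is a power of any nontrivial element. -/
theorem exists_pow_eq_of_card_prime {G : Type*} [Group G] {p : ℕ} [hp : Fact p.Prime]
    (Z : Subgroup G) (hZ : Nat.card Z = p) {a b : G} (ha : a ∈ Z) (ha1 : a ≠ 1) (hb : b ∈ Z) :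
    ∃ k : ℕ, a ^ k = b := by
  have : Finite Z := Nat.finite_of_card_ne_zero (by rw [hZ]; exact hp.out.ne_zero)
  have h : (⟨b, hb⟩ : Z) ∈ Subgroup.zpowers (⟨a, ha⟩ : Z) :=
    mem_zpowers_of_prime_card hZ (fun h => ha1 (congrArg Subtype.val h))
  rw [← mem_powers_iff_mem_zpowers] at h
  obtain ⟨k, hk⟩ := h
  exact ⟨k, congrArg Subtype.val hk⟩

theorem pow_eq_one_of_card_prime {G : Type*} [Group G] {p : ℕ} (Z : Subgroup G)
    (hZ : Nat.card Z = p) {a : G} (ha : a ∈ Z) : a ^ p = 1 := by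
  have h : (⟨a, ha⟩ : Z) ^ Nat.card Z = 1 := pow_card_eq_one'
  rw [hZ] at h
  exact congrArg Subtype.val h

/-- An internal direct product with a central factor. -/
theorem nonempty_mulEquiv_prod_of_central {G : Type*} [Group G] (K A : Subgroup G)
    (hA : ∀ a ∈ A, ∀ g : G, a * g = g * a) (hKA : K ⊓ A = ⊥)
    (hgen : ∀ x : G, ∃ k ∈ K, ∃ a ∈ A, x = k * a) : Nonempty (G ≃* ↥K × ↥A) := by
  let f : ↥K × ↥A →* G :=
    { toFun := fun q => (q.1 : G) * (q.2 : G)
      map_one' := by simp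
      map_mul' := by
        rintro ⟨k₁, a₁⟩ ⟨k₂, a₂⟩
        show (k₁ : G) * k₂ * ((a₁ : G) * a₂) = k₁ * a₁ * (k₂ * a₂)
        have h := hA a₁ a₁.2 k₂
        calc (k₁ : G) * k₂ * ((a₁ : G) * a₂) = k₁ * (k₂ * a₁) * a₂ := by group
          _ = k₁ * (a₁ * k₂) * a₂ := by rw [h]
          _ = k₁ * a₁ * (k₂ * a₂) := by group }
  have hinj : Function.Injective f := by
    rintro ⟨k₁, a₁⟩ ⟨k₂, a₂⟩ h
    have h' : (k₁ : G) * a₁ = k₂ * a₂ := h
    have h0 : (k₁ : G) = k₂ * a₂ * (a₁ : G)⁻¹ := eq_mul_inv_of_mul_eq h'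
    have h1 : (k₂ : G)⁻¹ * k₁ = a₂ * (a₁ : G)⁻¹ := by rw [h0]; group
    have h2 : (k₂ : G)⁻¹ * k₁ ∈ K ⊓ A :=
      mem_inf.mpr ⟨K.mul_mem (K.inv_mem k₂.2) k₁.2, by
        rw [h1]; exact A.mul_mem a₂.2 (A.inv_mem a₁.2)⟩
    rw [hKA, mem_bot, inv_mul_eq_one] at h2
    have h3 : (k₁ : G) = k₂ := h2.symm
    have h4 : (a₁ : G) = a₂ := by rw [h3] at h'; exact mul_left_cancel h'
    exact Prod.ext (Subtype.ext h3) (Subtype.ext h4)
  have hsurj : Function.Surjective f := by
    intro x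
    obtain ⟨k, hk, a, ha, rfl⟩ := hgen x
    exact ⟨(⟨k, hk⟩, ⟨a, ha⟩), rfl⟩
  exact ⟨(MulEquiv.ofBijective f ⟨hinj, hsurj⟩).symm⟩

/-- A finite group has a copy in `Type`. -/
theorem exists_type0_copy' (H₀ : Type*) [Group H₀] [Finite H₀] :
    ∃ (H : Type) (_ : Group H), Nonempty (H ≃* H₀) :=
  ⟨Fin (Nat.card H₀), (Finite.equivFin H₀).symm.group, ⟨(Finite.equivFin H₀).symm.mulEquiv⟩⟩

/-- A nonabelian group of order `p ^ 3` and exponent `p` is extraspecial. -/
theorem isExtraspecial_of_card_cube {E : Type*} [Group E] [Finite E] {p : ℕ} [hp : Fact p.Prime]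
    (hcard : Nat.card E = p ^ 3) (hnc : ∃ a b : E, a * b ≠ b * a) (hexp : ∀ x : E, x ^ p = 1) :
    Cfsg.IsExtraspecial p E := by
  have hpP : p.Prime := hp.out
  obtain ⟨hZ, hcomm⟩ := Cfsg.Agent.Lib.helper70.card_center_of_card_cube p hcard hnc
  have hE : IsPGroup p E := IsPGroup.of_card hcard
  have hcle : commutator E ≤ center E := by
    rw [commutator_def, Subgroup.commutator_le]
    intro a _ b _
    rw [commutatorElement_def]
    exact hcomm a b
  have hcne : commutator E ≠ ⊥ := by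
    intro h
    obtain ⟨a, b, hab⟩ := hnc
    apply hab
    have h1 : ⁅a, b⁆ ∈ commutator E := by
      rw [commutator_def]
      exact Subgroup.commutator_mem_commutator (Subgroup.mem_top a) (Subgroup.mem_top b)
    rw [h, mem_bot] at h1
    exact commutatorElement_eq_one_iff_mul_comm.mp h1
  have hceq : commutator E = center E := by
    apply Subgroup.eq_of_le_of_card_ge hcle
    rw [hZ]
    have h1 : Nat.card (commutator E) ∣ p := by
      rw [← hZ]; exact Subgroup.card_dvd_of_le hcle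
    rcases (Nat.dvd_prime hpP).mp h1 with h2 | h2
    · exact absurd (Subgroup.card_eq_one.mp h2) hcne
    · exact h2.ge
  refine ⟨⟨hE, le_antisymm ?_ ?_, hceq⟩, hZ⟩
  · apply Cfsg.Agent.Lib.helper71.frattini_le_of_comm_pow hpP (center E) hcomm
    intro x
    rw [hexp x]; exact (center E).one_mem
  · rw [← hceq]
    exact Cfsg.Agent.Lib.helper3.commutator_le_frattini hE

/-- In a `p`-group a commutator subgroup of order `p` is central. -/
theorem commutator_le_center_of_card_prime' {G : Type*} [Group G] [Finite G] {p : ℕ}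
    [hp : Fact p.Prime] (hG : IsPGroup p G) (hcard : Nat.card (commutator G) = p) :
    commutator G ≤ center G := by
  have hne : commutator G ≠ ⊥ := by
    intro h
    rw [h, Subgroup.card_bot] at hcard
    exact hp.out.one_lt.ne hcard
  obtain ⟨z, hzD, hzZ, hz1, -⟩ :=
    Cfsg.Agent.Lib.helper3.exists_central_of_normal_ne_bot hG (commutator G) hne
  intro w hw
  obtain ⟨k, rfl⟩ := exists_pow_eq_of_card_prime (commutator G) hcard hzD hz1 hw
  exact (center G).pow_mem hzZ k

/-- `G` is a `p`-group with `Φ(G) = G'` of order `p`, and `z₁ ∉ G'` has an elementary abelian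
centraliser. -/
structure GEData (p : ℕ) (G : Type*) [Group G] (z₁ : G) : Prop where
  pgroup : IsPGroup p G
  fratt : frattini G = commutator G
  card : Nat.card (commutator G) = p
  ab : ∀ a b : G, a * z₁ = z₁ * a → b * z₁ = z₁ * b → a * b = b * a
  ex : ∀ a : G, a * z₁ = z₁ * a → a ^ p = 1
  nz : z₁ ∉ commutator G

namespace GEData

variable {G : Type*} [Group G] {p : ℕ} {z₁ : G}

theorem comm_mem (_D : GEData p G z₁) (x y : G) : ⁅x, y⁆ ∈ commutator G := by
  rw [commutator_def]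
  exact Subgroup.commutator_mem_commutator (Subgroup.mem_top x) (Subgroup.mem_top y)

theorem comm_le_center [Finite G] [Fact p.Prime] (D : GEData p G z₁) :
    commutator G ≤ center G :=
  commutator_le_center_of_card_prime' D.pgroup D.card

theorem commCentral [Finite G] [Fact p.Prime] (D : GEData p G z₁) :
    Cfsg.Agent.Lib.helper3.CommCentral G := by
  intro x y z
  exact (Subgroup.mem_center_iff.mp (D.comm_le_center (D.comm_mem x y)) z).symm

theorem pow_mem [Finite G] [Fact p.Prime] (D : GEData p G z₁) (x : G) :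
    x ^ p ∈ commutator G := by
  rw [← D.fratt]
  exact Cfsg.Agent.Lib.helper3.pow_prime_mem_frattini D.pgroup x

theorem exists_noncomm [Finite G] [hp : Fact p.Prime] (D : GEData p G z₁) :
    ∃ h : G, h * z₁ ≠ z₁ * h := by
  by_contra hall
  push Not at hall
  have hbot : commutator G = ⊥ := by
    rw [eq_bot_iff, commutator_def, Subgroup.commutator_le]
    intro a _ b _
    rw [mem_bot]
    exact commutatorElement_eq_one_iff_mul_comm.mpr (D.ab a b (hall a) (hall b))
  have h1 := D.card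
  rw [hbot, Subgroup.card_bot] at h1
  exact hp.out.one_lt.ne h1

/-- If `h` does not commute with `u`, every element is `h ^ k * y` with `y` commuting with `u`. -/
theorem exists_decomp [Finite G] [Fact p.Prime] (D : GEData p G z₁) (u h : G)
    (hh : h * u ≠ u * h) (x : G) : ∃ k : ℕ, ∃ y : G, y * u = u * y ∧ x = h ^ k * y := by
  have hc1 : ⁅h, u⁆ ≠ 1 := fun h0 => hh (commutatorElement_eq_one_iff_mul_comm.mp h0)
  obtain ⟨k, hk⟩ := exists_pow_eq_of_card_prime (commutator G) D.card (D.comm_mem h u) hc1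
    (D.comm_mem x u)
  have h1 := Cfsg.Agent.Lib.helper3.commutator_pow_left_class2 D.commCentral u h k
  rw [hk, commutatorElement_def, commutatorElement_def] at h1
  have h2 : h ^ k * u * (h ^ k)⁻¹ = x * u * x⁻¹ := mul_right_cancel h1
  refine ⟨k, (h ^ k)⁻¹ * x, ?_, by group⟩
  calc (h ^ k)⁻¹ * x * u = (h ^ k)⁻¹ * (x * u * x⁻¹) * x := by group
    _ = (h ^ k)⁻¹ * (h ^ k * u * (h ^ k)⁻¹) * x := by rw [h2]
    _ = u * ((h ^ k)⁻¹ * x) := by group

/-- The internal direct decomposition `G = K × A`. -/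
theorem exists_split [Finite G] [hp : Fact p.Prime] (D : GEData p G z₁) :
    ∃ (K A : Subgroup G) (h : G), Nat.card K = p ^ 3 ∧
      (∀ a ∈ A, ∀ g : G, a * g = g * a) ∧ K ⊓ A = ⊥ ∧ (∀ x : G, ∃ k ∈ K, ∃ a ∈ A, x = k * a) ∧
      z₁ ∈ K ∧ h ∈ K ∧ h * z₁ ≠ z₁ * h := by
  classical
  have hpP : p.Prime := hp.out
  obtain ⟨h, hh⟩ := D.exists_noncomm
  have hW : commutator G ≤ center G := D.comm_le_center
  obtain ⟨H, hH⟩ : ∃ H : Subgroup G, H = commutator G ⊔ zpowers z₁ := ⟨_, rfl⟩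
  obtain ⟨K, hK⟩ : ∃ K : Subgroup G, K = H ⊔ zpowers h := ⟨_, rfl⟩
  have hHcard : Nat.card H = p * p := by
    rw [hH, Cfsg.Agent.Lib.helper1.card_sup_zpowers_of_frattini_le p D.pgroup (commutator G)
      D.fratt.le z₁ D.nz, D.card]
  have hHle : H ≤ centralizer {z₁} := by
    rw [hH]
    refine sup_le (fun w hw => ?_) ?_
    · rw [mem_centralizer_singleton_iff]
      exact (Subgroup.mem_center_iff.mp (hW hw) z₁).symm
    · rw [zpowers_le, mem_centralizer_singleton_iff]
  have hhH : h ∉ H := fun hx => hh (mem_centralizer_singleton_iff.mp (hHle hx))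
  have hΦH : frattini G ≤ H := by
    rw [hH]; exact D.fratt.le.trans le_sup_left
  have hKcard : Nat.card K = p ^ 3 := by
    rw [hK, Cfsg.Agent.Lib.helper1.card_sup_zpowers_of_frattini_le p D.pgroup H hΦH h hhH, hHcard]
    ring
  have hzK : z₁ ∈ K := by
    rw [hK, hH]
    exact mem_sup_left (mem_sup_right (mem_zpowers z₁))
  have hhK : h ∈ K := by
    rw [hK]; exact mem_sup_right (mem_zpowers h)
  have hne : Nonempty {A : Subgroup G // A ≤ center G ∧ K ⊓ A = ⊥} :=
    ⟨⟨⊥, bot_le, inf_bot_eq _⟩⟩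
  obtain ⟨⟨A, hAZ, hKA⟩, hmax⟩ := Finite.exists_max
    (fun A : {A : Subgroup G // A ≤ center G ∧ K ⊓ A = ⊥} => Nat.card A.1)
  have hC : ∀ c ∈ center G, ∃ k ∈ K, ∃ a ∈ A, c = k * a := by
    intro c hc
    by_contra hcon
    have hc1 : c ≠ 1 := by
      rintro rfl
      exact hcon ⟨1, K.one_mem, 1, A.one_mem, (mul_one 1).symm⟩
    have hcp : c ^ p = 1 := D.ex c (Subgroup.mem_center_iff.mp hc z₁).symm
    have hcard_c : Nat.card (zpowers c) = p := by
      rw [Nat.card_zpowers]; exact orderOf_eq_prime hcp hc1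
    have hnorm : (zpowers c).Normal := by
      refine ⟨fun n hn g => ?_⟩
      have hnc : n ∈ center G := (zpowers_le.mpr hc) hn
      have e : g * n * g⁻¹ = n := by
        rw [Subgroup.mem_center_iff.mp hnc g, mul_inv_cancel_right]
      rw [e]; exact hn
    have hA' : K ⊓ (A ⊔ zpowers c) = ⊥ := by
      rw [eq_bot_iff]
      intro x hx
      obtain ⟨hxK, hxA'⟩ := mem_inf.mp hx
      have hx2 : x ∈ (A : Set G) * (zpowers c : Set G) := by
        rw [← mul_normal]; exact hxA'
      obtain ⟨a, ha, r, hr, rfl⟩ := Set.mem_mul.mp hx2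
      by_cases hr1 : r = 1
      · subst hr1
        rw [mul_one] at hxK ⊢
        have h3 : a ∈ K ⊓ A := mem_inf.mpr ⟨hxK, ha⟩
        rw [hKA] at h3
        exact h3
      · exfalso
        obtain ⟨j, hj⟩ := exists_pow_eq_of_card_prime (zpowers c) hcard_c hr hr1 (mem_zpowers c)
        apply hcon
        refine ⟨(a * r) ^ j, K.pow_mem hxK j, (a ^ j)⁻¹, A.inv_mem (A.pow_mem ha j), ?_⟩
        have hcomm : Commute a r := (Subgroup.mem_center_iff.mp (hAZ ha) r).symm
        rw [hcomm.mul_pow, hj, Subgroup.mem_center_iff.mp hc (a ^ j), mul_inv_cancel_right]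
    have h1 := hmax ⟨A ⊔ zpowers c, sup_le hAZ (zpowers_le.mpr hc), hA'⟩
    have h2 : A = A ⊔ zpowers c := Subgroup.eq_of_le_of_card_ge le_sup_left h1
    apply hcon
    refine ⟨1, K.one_mem, c, ?_, (one_mul c).symm⟩
    rw [h2]; exact mem_sup_right (mem_zpowers c)
  have hA : ∀ a ∈ A, ∀ g : G, a * g = g * a := fun a ha g =>
    (Subgroup.mem_center_iff.mp (hAZ ha) g).symm
  refine ⟨K, A, h, hKcard, hA, hKA, ?_, hzK, hhK, hh⟩
  intro x
  obtain ⟨i, y, hy, rfl⟩ := D.exists_decomp z₁ h hh x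
  obtain ⟨j, y', hy', rfl⟩ := D.exists_decomp h z₁ (fun e => hh e.symm) y
  have hy'z : y' * z₁ = z₁ * y' := by
    have h3 : Commute ((z₁ ^ j)⁻¹ * (z₁ ^ j * y')) z₁ :=
      Commute.mul_left (Commute.inv_left ((Commute.refl z₁).pow_left j)) hy
    rw [inv_mul_cancel_left] at h3
    exact h3.eq
  have hy'c : y' ∈ center G := by
    rw [Subgroup.mem_center_iff]
    intro w
    obtain ⟨m, w', hw', rfl⟩ := D.exists_decomp z₁ h hh w
    have e1 : w' * y' = y' * w' := D.ab w' y' hw' hy'z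
    have e2 : h ^ m * y' = y' * h ^ m := ((Commute.pow_right (show Commute y' h from hy') m).eq).symm
    rw [mul_assoc, e1, ← mul_assoc, e2, mul_assoc]
  obtain ⟨k, hk, a, ha, hka⟩ := hC y' hy'c
  refine ⟨h ^ i * z₁ ^ j * k, K.mul_mem (K.mul_mem (K.pow_mem hhK i) (K.pow_mem hzK j)) hk,
    a, ha, ?_⟩
  rw [hka]; group

/-- `p = 2`: `G ≅ D₈ × A`. -/
theorem two [Finite G] (D : GEData 2 G z₁) :
    ∃ (A : Type) (_ : CommGroup A), (∀ a : A, a ^ 2 = 1) ∧
      Nonempty (G ≃* DihedralGroup 4 × A) := by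
  have : Fact (Nat.Prime 2) := ⟨Nat.prime_two⟩
  obtain ⟨K, A, h, hKcard, hA, hKA, hgen, hzK, hhK, hh⟩ := D.exists_split
  obtain ⟨e₀⟩ := nonempty_mulEquiv_prod_of_central K A hA hKA hgen
  have hK8 : Nat.card K = 8 := by rw [hKcard]; norm_num
  obtain ⟨e₁⟩ := Cfsg.Agent.Lib.helper42.nonempty_mulEquiv_dihedral_of_card_eight hK8
    (⟨z₁, hzK⟩ : K) ⟨h, hhK⟩
    (by
      apply Subtype.ext
      show z₁ * z₁ = 1
      have h1 := D.ex z₁ rfl
      rwa [pow_two] at h1)
    (by intro e; exact hh (congrArg Subtype.val e).symm)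
  obtain ⟨H, instH, ⟨e₂⟩⟩ := exists_type0_copy' ↥A
  have hcommH : ∀ a b : H, a * b = b * a := by
    intro a b
    apply e₂.injective
    rw [map_mul, map_mul]
    apply Subtype.ext
    exact hA _ (e₂ a).2 _
  have hexpH : ∀ a : H, a ^ 2 = 1 := by
    intro a
    apply e₂.injective
    rw [map_pow, map_one]
    apply Subtype.ext
    show ((e₂ a : ↥A) : G) ^ 2 = 1
    exact D.ex _ (hA _ (e₂ a).2 z₁)
  exact ⟨H, { instH with mul_comm := hcommH }, hexpH,
    ⟨e₀.trans (MulEquiv.prodCongr e₁ e₂.symm)⟩⟩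

/-- Exponent `p`: `G ≅ E × A` with `E` extraspecial of order `p ^ 3` and exponent `p`. -/
theorem odd [Finite G] [hp : Fact p.Prime] (D : GEData p G z₁) (hexp : ∀ x : G, x ^ p = 1) :
    ∃ (E : Type) (_ : Group E) (A : Type) (_ : CommGroup A), Cfsg.IsExtraspecial p E ∧
      Nat.card E = p ^ 3 ∧ Monoid.exponent E = p ∧ (∀ a : A, a ^ p = 1) ∧
      Nonempty (G ≃* E × A) := by
  obtain ⟨K, A, h, hKcard, hA, hKA, hgen, hzK, hhK, hh⟩ := D.exists_split
  obtain ⟨e₀⟩ := nonempty_mulEquiv_prod_of_central K A hA hKA hgen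
  obtain ⟨E, instE, ⟨e₁⟩⟩ := exists_type0_copy' ↥K
  obtain ⟨H, instH, ⟨e₂⟩⟩ := exists_type0_copy' ↥A
  have hcommH : ∀ a b : H, a * b = b * a := by
    intro a b
    apply e₂.injective
    rw [map_mul, map_mul]
    apply Subtype.ext
    exact hA _ (e₂ a).2 _
  have hexpH : ∀ a : H, a ^ p = 1 := by
    intro a
    apply e₂.injective
    rw [map_pow, map_one]
    apply Subtype.ext
    exact hexp _
  have hexpE : ∀ a : E, a ^ p = 1 := by
    intro a
    apply e₁.injective
    rw [map_pow, map_one]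
    apply Subtype.ext
    exact hexp _
  have hcardE : Nat.card E = p ^ 3 := by rw [Nat.card_congr e₁.toEquiv, hKcard]
  have hfinE : Finite E := Finite.of_equiv _ e₁.symm.toEquiv
  have hncE : ∃ a b : E, a * b ≠ b * a := by
    refine ⟨e₁.symm ⟨h, hhK⟩, e₁.symm ⟨z₁, hzK⟩, fun e => hh ?_⟩
    rw [← map_mul, ← map_mul] at e
    exact congrArg Subtype.val (e₁.symm.injective e)
  have hES := isExtraspecial_of_card_cube hcardE hncE hexpE
  have hexpo : Monoid.exponent E = p := by
    have h1 : Monoid.exponent E ∣ p := Monoid.exponent_dvd_of_forall_pow_eq_one hexpE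
    rcases (Nat.dvd_prime hp.out).mp h1 with h2 | h2
    · exfalso
      rw [Monoid.exp_eq_one_iff] at h2
      obtain ⟨a, b, hab⟩ := hncE
      exact hab (by rw [Subsingleton.elim a b])
    · exact h2
  exact ⟨E, instE, H, { instH with mul_comm := hcommH }, hES, hcardE, hexpo, hexpH,
    ⟨e₀.trans (MulEquiv.prodCongr e₁.symm e₂.symm)⟩⟩

/-- For `p` odd the `p`-th power map is multiplicative. -/
theorem mul_pow_prime [Finite G] [hp : Fact p.Prime] (D : GEData p G z₁) (hp2 : p ≠ 2)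
    (a b : G) : (a * b) ^ p = a ^ p * b ^ p := by
  apply Cfsg.Agent.Lib.helper3.mul_pow_prime_class2 D.commCentral hp.out hp2
  exact pow_eq_one_of_card_prime (commutator G) D.card (D.comm_mem b a)

/-- For `p` odd, if `G` does not have exponent `p` then every element of order dividing `p`
commutes with `z₁`. -/
theorem comm_of_pow_eq_one [Finite G] [hp : Fact p.Prime] (D : GEData p G z₁) (hp2 : p ≠ 2)
    (h₀ : G) (hh₀ : h₀ ^ p ≠ 1) (a : G) (ha : a ^ p = 1) : a * z₁ = z₁ * a := by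
  have hh : h₀ * z₁ ≠ z₁ * h₀ := fun e => hh₀ (D.ex h₀ e)
  obtain ⟨k, y, hy, rfl⟩ := D.exists_decomp z₁ h₀ hh a
  have hy1 : y ^ p = 1 := D.ex y hy
  rw [D.mul_pow_prime hp2, hy1, mul_one, ← pow_mul, mul_comm, pow_mul] at ha
  have hord : orderOf (h₀ ^ p) = p :=
    orderOf_eq_prime (pow_eq_one_of_card_prime (commutator G) D.card (D.pow_mem h₀)) hh₀
  have hdvd : p ∣ k := by
    rw [← hord]; exact orderOf_dvd_of_pow_eq_one ha
  obtain ⟨m, rfl⟩ := hdvd
  have hc : h₀ ^ (p * m) ∈ center G := by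
    rw [pow_mul]; exact (center G).pow_mem (D.comm_le_center (D.pow_mem h₀)) m
  calc h₀ ^ (p * m) * y * z₁ = h₀ ^ (p * m) * (y * z₁) := mul_assoc _ _ _
    _ = h₀ ^ (p * m) * (z₁ * y) := by rw [hy]
    _ = (h₀ ^ (p * m) * z₁) * y := (mul_assoc _ _ _).symm
    _ = (z₁ * h₀ ^ (p * m)) * y := by rw [Subgroup.mem_center_iff.mp hc z₁]
    _ = z₁ * (h₀ ^ (p * m) * y) := mul_assoc _ _ _

end GEData

end Cfsg.Agent.Lib.helper65
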