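import Mathlib
import Cfsg.Agent.Lib.helper65.GenExtraA

/-!
# Two transvections of an elementary abelian group (helper65)

`V` is a group with `a * b = b * a` and `a ^ p = 1` for all `a, b`.

* `exists_inverting`: if `t` fixes `ω` and moves `ω₁` to `ω₁ * ω ^ α ≠ ω₁`, and `s` fixes `ω₁` and
  moves `ω` to `ω * ω₁ ^ β ≠ ω`, then some element of `⟨t, s⟩` inverts both `ω` and `ω₁`.
* `transvection_contra`: the contradiction between "the normaliser of `⟨t⟩` acts on `t` and on `ω`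
  by the same exponent" and the existence of such an inverting element (`p` odd).
-/

set_option autoImplicit false

namespace Cfsg.Agent.Lib.helper65

variable {V : Type*} [Group V]

theorem mulAut_pow_fix (s : MulAut V) (x : V) (h : s x = x) (n : ℕ) : (s ^ n) x = x := by
  induction n with
  | zero => rfl
  | succ n ih => rw [pow_succ, MulAut.mul_apply, h, ih]

theorem pow_prime_eq_one_of_fix_triv {p : ℕ} (hexp : ∀ a : V, a ^ p = 1) (L : Subgroup V)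
    (γ : MulAut V) (h1 : γ ∈ fixSub L) (h2 : γ ∈ trivMod L) : γ ^ p = 1 := by
  ext x
  rw [mulAut_pow_apply_of_stab L γ h1 h2 p x, hexp, one_mul]
  rfl

theorem exists_inverting {p : ℕ} [hp : Fact p.Prime] (hcomm : ∀ a b : V, a * b = b * a)
    (hexp : ∀ a : V, a ^ p = 1) (t s : MulAut V) (ω ω₁ : V) (α β : ℕ)
    (htω : t ω = ω) (htω₁ : t ω₁ = ω₁ * ω ^ α) (hα : ω ^ α ≠ 1)
    (hsω₁ : s ω₁ = ω₁) (hsω : s ω = ω * ω₁ ^ β) (hβ : ω₁ ^ β ≠ 1) :
    ∃ ζ ∈ Subgroup.closure ({t, s} : Set (MulAut V)), ζ ω = ω⁻¹ ∧ ζ ω₁ = ω₁⁻¹ := by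
  have hpP : p.Prime := hp.out
  have hdvd1 : ∀ (x : V) (k : ℕ), p ∣ k → x ^ k = 1 := by
    rintro x k ⟨m, rfl⟩
    rw [pow_mul, hexp, one_pow]
  have hα' : ¬ p ∣ α := fun h => hα (hdvd1 ω α h)
  have hβ' : ¬ p ∣ β := fun h => hβ (hdvd1 ω₁ β h)
  obtain ⟨v, hv⟩ : ∃ v : ℕ, p ∣ α * β * v + 1 := by
    have ha : ((α * β : ℕ) : ZMod p) ≠ 0 := by
      rw [Ne, ZMod.natCast_eq_zero_iff]
      intro h
      rcases (Nat.Prime.dvd_mul hpP).mp h with h | h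
      · exact hα' h
      · exact hβ' h
    refine ⟨(-(((α * β : ℕ) : ZMod p)⁻¹)).val, ?_⟩
    rw [← ZMod.natCast_eq_zero_iff]
    push_cast
    rw [ZMod.natCast_zmod_val]
    have := ha
    push_cast at this
    rw [mul_neg, mul_inv_cancel₀ this]
    ring
  have hω1 : ω ^ (α * β * v) = ω⁻¹ := by
    have := hdvd1 ω _ hv
    rw [pow_succ] at this
    exact eq_inv_of_mul_eq_one_left this
  have hω₁1 : ω₁ ^ (α * β * v) = ω₁⁻¹ := by
    have := hdvd1 ω₁ _ hv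
    rw [pow_succ] at this
    exact eq_inv_of_mul_eq_one_left this
  have hsv : ∀ n : ℕ, (s ^ n) ω = ω * ω₁ ^ (β * n) := by
    intro n
    induction n with
    | zero => simp
    | succ n ih =>
      rw [pow_succ, MulAut.mul_apply, hsω, map_mul, map_pow, ih, mulAut_pow_fix s ω₁ hsω₁,
        mul_assoc, ← pow_add, Nat.mul_succ]
  obtain ⟨η, hη⟩ : ∃ η : MulAut V, η = t * s ^ v * t := ⟨_, rfl⟩
  have hηω : η ω = ω₁ ^ (β * v) := by
    rw [hη, MulAut.mul_apply, MulAut.mul_apply, htω, hsv, map_mul, map_pow, htω, htω₁,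
      (show Commute ω₁ (ω ^ α) from hcomm _ _).mul_pow, ← pow_mul, hcomm (ω₁ ^ (β * v)), ← mul_assoc,
      ← pow_succ', ← mul_assoc, hdvd1 ω _ hv, one_mul]
  have hηω₁ : η ω₁ = ω ^ α := by
    have e1 : (s ^ v) (ω₁ * ω ^ α) = ω ^ α := by
      rw [map_mul, map_pow, hsv, mulAut_pow_fix s ω₁ hsω₁,
        (show Commute ω (ω₁ ^ (β * v)) from hcomm _ _).mul_pow, ← pow_mul, hcomm (ω ^ α),
        ← mul_assoc, ← pow_succ']
      have e2 : β * v * α + 1 = α * β * v + 1 := by ring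
      rw [e2, hdvd1 ω₁ _ hv, one_mul]
    rw [hη, MulAut.mul_apply, MulAut.mul_apply, htω₁, e1, map_pow, htω]
  refine ⟨η * η, ?_, ?_, ?_⟩
  · have ht : t ∈ Subgroup.closure ({t, s} : Set (MulAut V)) :=
      Subgroup.subset_closure (Set.mem_insert _ _)
    have hs : s ∈ Subgroup.closure ({t, s} : Set (MulAut V)) :=
      Subgroup.subset_closure (Set.mem_insert_of_mem _ rfl)
    have hηm : η ∈ Subgroup.closure ({t, s} : Set (MulAut V)) := by
      rw [hη]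
      exact Subgroup.mul_mem _ (Subgroup.mul_mem _ ht (Subgroup.pow_mem _ hs v)) ht
    exact Subgroup.mul_mem _ hηm hηm
  · rw [MulAut.mul_apply, hηω, map_pow, hηω₁, ← pow_mul, ← mul_assoc, hω1]
  · rw [MulAut.mul_apply, hηω₁, map_pow, hηω, ← pow_mul]
    have e2 : β * v * α = α * β * v := by ring
    rw [e2, hω₁1]

theorem transvection_contra {p : ℕ} [hp : Fact p.Prime] (hp2 : p ≠ 2)
    (hcomm : ∀ a b : V, a * b = b * a) (hexp : ∀ a : V, a ^ p = 1) (t ζ δ : MulAut V) (ω ω₁ : V)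
    (α b b' : ℕ) (htp : t ^ p = 1) (htω : t ω = ω) (htω₁ : t ω₁ = ω₁ * ω ^ α) (hα : ω ^ α ≠ 1)
    (hζω : ζ ω = ω⁻¹) (hζω₁ : ζ ω₁ = ω₁⁻¹)
    (h1 : δ * t * δ⁻¹ = t ^ b) (h2 : δ ω = ω ^ b)
    (h3 : (δ * ζ) * t * (δ * ζ)⁻¹ = t ^ b') (h4 : (δ * ζ) ω = ω ^ b') : False := by
  have hpP : p.Prime := hp.out
  have hω1 : ω ≠ 1 := by
    rintro rfl
    exact hα (one_pow α)
  have h5 : ω ^ (b + b') = 1 := by
    rw [MulAut.mul_apply, hζω, map_inv, h2] at h4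
    rw [pow_add, ← h4, mul_inv_cancel]
  have hdvd : p ∣ b + b' := by
    rw [← orderOf_eq_prime (hexp ω) hω1]
    exact orderOf_dvd_of_pow_eq_one h5
  have h6 : t ^ (b + b') = 1 := by
    obtain ⟨m, hm⟩ := hdvd
    rw [hm, pow_mul, htp, one_pow]
  have h7 : t ^ b' = (t ^ b)⁻¹ := by
    rw [pow_add] at h6
    exact eq_inv_of_mul_eq_one_right h6
  have e1 : δ * (ζ * t * ζ⁻¹) * δ⁻¹ = δ * t⁻¹ * δ⁻¹ := by
    calc δ * (ζ * t * ζ⁻¹) * δ⁻¹ = δ * ζ * t * (δ * ζ)⁻¹ := by group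
      _ = t ^ b' := h3
      _ = (t ^ b)⁻¹ := h7
      _ = (δ * t * δ⁻¹)⁻¹ := by rw [h1]
      _ = δ * t⁻¹ * δ⁻¹ := by group
  have h8 : ζ * t * ζ⁻¹ = t⁻¹ := mul_left_cancel (mul_right_cancel e1)
  have h9 : ζ * t = t⁻¹ * ζ := by rw [← h8]; group
  have e2 : ζ (t ω₁) = t⁻¹ (ζ ω₁) := by
    have := DFunLike.congr_fun h9 ω₁
    simpa only [MulAut.mul_apply] using this
  rw [htω₁, map_mul, map_pow, hζω, hζω₁] at e2
  have e3 := congrArg t e2
  rw [MulAut.apply_inv_self, map_mul, map_inv, map_pow, map_inv, htω, htω₁, inv_pow] at e3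
  obtain ⟨a, ha⟩ : ∃ a : V, a = ω ^ α := ⟨_, rfl⟩
  rw [← ha] at e3 hα
  rw [mul_inv_rev, hcomm a⁻¹ ω₁⁻¹, mul_assoc] at e3
  have e4 : a⁻¹ * a⁻¹ = 1 := mul_eq_left.mp e3
  have e5 : a ^ 2 = 1 := by
    rw [pow_two]
    apply inv_eq_one.mp
    rw [mul_inv_rev]; exact e4
  have e6 : a ^ p = 1 := hexp a
  have hcop : Nat.Coprime 2 p := (Nat.coprime_primes Nat.prime_two hpP).mpr (Ne.symm hp2)
  exact hα (orderOf_eq_one_iff.mp (Nat.eq_one_of_dvd_coprimes hcop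
    (orderOf_dvd_of_pow_eq_one e5) (orderOf_dvd_of_pow_eq_one e6)))

end Cfsg.Agent.Lib.helper65
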