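import Mathlib
import Cfsg.Prelude.Def_FusionSystem
import Cfsg.Agent.Lib.helper88.Saturated
import Cfsg.Agent.Lib.helper88.Saturated2
import Cfsg.Agent.Lib.helper88.FusionBasic
import Cfsg.Agent.Lib.helper89.FusionClosed
import Cfsg.Agent.Lib.helper89.FusionSat
import Cfsg.Agent.Lib.helper65.GenExtraB

/-!
# Fusion lemmas for a strongly closed generalised extraspecial subgroup (helper65)

`GECtx p F P Z₀`: `P` is strongly closed in `F`, `Z₀ ≤ P` has order `p`, is normalised by `S`, and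
contains all commutators and `p`-th powers of elements of `P`.

* `fullyNormalized_of_normal'`: a subgroup normalised by `S` is fully normalised.
* `GECtx.LB`: if `x ∈ P \ Z₀` is mapped into `Z₀` by an automorphism of the system (of a subgroup
  containing `x`), then `C_P(x)` is elementary abelian; the extension `ψ` to `C_P(x)` of the map is
  also returned.
* `GECtx.normalizer_transvection`: `Y ≤ P` abelian, receptive, `P = ⟨g⟩ Y`; if `δ ∈ Aut_F(Y)`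
  conjugates `c_g` into `Aut_S(Y)` then `δ c_g δ⁻¹ = c_g ^ b` and `δ (g ^ p) = (g ^ p) ^ b`.
-/

set_option autoImplicit false
open Cfsg

namespace Cfsg.Agent.Lib.helper65

open Cfsg.FusionSystem

variable {Ω : Type*} [Group Ω] {S : Subgroup Ω}

/-- A subgroup normalised by `S` is fully normalised. -/
theorem fullyNormalized_of_normal' [Finite S] (F : FusionSystem S) {U : Subgroup Ω}
    (hUS : U ≤ S) (hSU : S ≤ Subgroup.normalizer (U : Set Ω)) : F.IsFullyNormalized U := by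
  refine ⟨hUS, fun Q _ => ?_⟩
  have h1 : normalizerIn S Q ≤ S := inf_le_left
  have h2 : S ≤ normalizerIn S U := le_inf le_rfl hSU
  have h3 : normalizerIn S U ≤ S := inf_le_left
  have : Finite ↥(normalizerIn S U) :=
    Finite.of_injective (Subgroup.inclusion h3) (Subgroup.inclusion_injective h3)
  exact Subgroup.card_le_of_le (h1.trans h2)

/-- The fusion-theoretic context of a strongly closed generalised extraspecial subgroup. -/
structure GECtx (p : ℕ) (F : FusionSystem S) (P Z₀ : Subgroup Ω) : Prop where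
  sc : F.StronglyClosed P
  hZP : Z₀ ≤ P
  card : Nat.card Z₀ = p
  comm : ∀ a ∈ P, ∀ b ∈ P, a * b * a⁻¹ * b⁻¹ ∈ Z₀
  pow : ∀ a ∈ P, a ^ p ∈ Z₀
  norm : ∀ s ∈ S, ∀ z ∈ Z₀, s * z * s⁻¹ ∈ Z₀

namespace GECtx

theorem LB [Finite S] {p : ℕ} [hp : Fact p.Prime] (hS : IsPGroup p S) {F : FusionSystem S}
    (hF : F.IsSaturated p) {P Z₀ : Subgroup Ω} (C : GECtx p F P Z₀) {M : Subgroup Ω}
    (hMS : M ≤ S) (α : MulAut M) (hα : α ∈ F.autGroup M) (x : M) (hxP : (x : Ω) ∈ P)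
    (hxZ : (x : Ω) ∉ Z₀) (hαx : ((α x : M) : Ω) ∈ Z₀) :
    ∃ ψ ∈ F.Hom (P ⊓ Subgroup.centralizer {(x : Ω)}),
      (∀ h : (x : Ω) ∈ P ⊓ Subgroup.centralizer {(x : Ω)}, ψ ⟨x, h⟩ = ((α x : M) : Ω)) ∧
      (∀ a ∈ P, ∀ b ∈ P, a * x = x * a → b * x = x * b → a * b = b * a) ∧
      (∀ a ∈ P, a * x = x * a → a ^ p = 1) := by
  classical
  have hPS : P ≤ S := C.sc.1
  have hZS : Z₀ ≤ S := C.hZP.trans hPS
  have : Finite Z₀ := Cfsg.Agent.Lib.helper89.finite_of_le hZS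
  have hSZ : S ≤ Subgroup.normalizer (Z₀ : Set Ω) := fun s hs =>
    Cfsg.Agent.Lib.helper88.mem_normalizer_of_conj_mem (fun z hz => C.norm s hs z hz)
  have hfn : F.IsFullyNormalized Z₀ := fullyNormalized_of_normal' F hZS hSZ
  obtain ⟨-, hrec⟩ :=
    Cfsg.Agent.Lib.helper88.fullyAutomized_receptive_of_fullyNormalized hS F hF hfn
  have hzx : Subgroup.zpowers (x : Ω) ≤ M := Subgroup.zpowers_le.mpr x.2
  have hαF : M.subtype.comp α.toMonoidHom ∈ F.Hom M :=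
    (Cfsg.Agent.Lib.helper88.mem_autGroup_iff' F hMS α).mp hα
  obtain ⟨φ, hφdef⟩ : ∃ φ : Subgroup.zpowers (x : Ω) →* Ω,
      φ = (M.subtype.comp α.toMonoidHom).comp (Subgroup.inclusion hzx) := ⟨_, rfl⟩
  have hφ : φ ∈ F.Hom (Subgroup.zpowers (x : Ω)) := by
    rw [hφdef]; exact Cfsg.Agent.Lib.helper88.restrict_mem F hzx hαF
  have hφx : ∀ h : (x : Ω) ∈ Subgroup.zpowers (x : Ω), φ ⟨x, h⟩ = ((α x : M) : Ω) := by
    intro h; rw [hφdef]; rfl
  have hαx1 : ((α x : M) : Ω) ≠ 1 := by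
    intro h
    have h1 : α x = 1 := Subtype.ext h
    have h2 : x = 1 := by
      have := congrArg α.symm h1
      simpa using this
    exact hxZ (by rw [h2]; exact Z₀.one_mem)
  have hφR : φ.range = Z₀ := by
    ext y
    constructor
    · rintro ⟨⟨w, hw⟩, rfl⟩
      obtain ⟨k, rfl⟩ := Subgroup.mem_zpowers_iff.mp hw
      have e : (⟨(x : Ω) ^ k, hw⟩ : Subgroup.zpowers (x : Ω)) =
          ⟨x, Subgroup.mem_zpowers _⟩ ^ k := rfl
      rw [e, map_zpow, hφx]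
      exact Z₀.zpow_mem hαx k
    · intro hy
      obtain ⟨k, hk⟩ := exists_pow_eq_of_card_prime Z₀ C.card hαx hαx1 hy
      refine ⟨⟨x, Subgroup.mem_zpowers _⟩ ^ k, ?_⟩
      rw [map_pow, hφx, hk]
  obtain ⟨K, hKdef⟩ : ∃ K : Subgroup Ω, K = P ⊓ Subgroup.centralizer {(x : Ω)} := ⟨_, rfl⟩
  have hKmem : ∀ k, k ∈ K ↔ k ∈ P ∧ k * x = x * k := by
    intro k; rw [hKdef, Subgroup.mem_inf, Subgroup.mem_centralizer_singleton_iff]
  have hKP : K ≤ P := fun k hk => ((hKmem k).mp hk).1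
  obtain ⟨ψ₀, hψ₀, hψ₀x⟩ := Cfsg.Agent.Lib.helper89.exists_extension F hrec hφ hφR K (by
    intro g hg
    obtain ⟨hgP, hgx⟩ := (hKmem g).mp hg
    refine ⟨hPS hgP, ?_, 1, S.one_mem, ?_⟩
    · apply Subgroup.centralizer_le_normalizer
      rw [Subgroup.mem_centralizer_iff]
      intro y hy
      obtain ⟨k, rfl⟩ := Subgroup.mem_zpowers_iff.mp hy
      exact ((Commute.zpow_right (show Commute g x from hgx) k).eq).symm
    · intro y hy
      have e : (⟨g * (y : Ω) * g⁻¹, hy⟩ : Subgroup.zpowers (x : Ω)) = y := by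
        apply Subtype.ext
        obtain ⟨k, hk⟩ := Subgroup.mem_zpowers_iff.mp y.2
        show g * (y : Ω) * g⁻¹ = y
        rw [← hk, (Commute.zpow_right (show Commute g x from hgx) k).eq, mul_inv_cancel_right]
      rw [e, one_mul, inv_one, mul_one])
  have hxK : (x : Ω) ∈ K := (hKmem _).mpr ⟨hxP, rfl⟩
  have hψx : ψ₀ ⟨x, hxK⟩ = ((α x : M) : Ω) := by
    rw [hψ₀x x (Subgroup.mem_zpowers _) hxK, hφx]
  have hψinj := F.injective_of_mem hψ₀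
  have hψP : ∀ k : K, ψ₀ k ∈ P := fun k => C.sc.2 K hKP ψ₀ hψ₀ k
  have key : ∀ (w : Ω) (hw : w ∈ K), w ∈ Z₀ → ψ₀ ⟨w, hw⟩ ∈ Z₀ → w = 1 := by
    intro w hw hwZ hψw
    by_contra hw1
    have hψw1 : ψ₀ ⟨w, hw⟩ ≠ 1 := by
      intro h
      have h1 : (⟨w, hw⟩ : K) = 1 := hψinj (by rw [h, map_one])
      exact hw1 (congrArg Subtype.val h1)
    have hψxZ : ψ₀ ⟨x, hxK⟩ ∈ Z₀ := by rw [hψx]; exact hαx
    obtain ⟨k, hk⟩ := exists_pow_eq_of_card_prime Z₀ C.card hψw hψw1 hψxZ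
    rw [← map_pow] at hk
    have h2 : w ^ k = x := congrArg Subtype.val (hψinj hk)
    exact hxZ (h2 ▸ Z₀.pow_mem hwZ k)
  subst hKdef
  refine ⟨ψ₀, hψ₀, fun h => hψx, ?_, ?_⟩
  · intro a ha b hb hax hbx
    have haK := (hKmem a).mpr ⟨ha, hax⟩
    have hbK := (hKmem b).mpr ⟨hb, hbx⟩
    have hw := Subgroup.mul_mem _ (Subgroup.mul_mem _ (Subgroup.mul_mem _ haK hbK)
      (Subgroup.inv_mem _ haK)) (Subgroup.inv_mem _ hbK)
    have h1 := key _ hw (C.comm a ha b hb) (by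
      have e : ψ₀ ⟨a * b * a⁻¹ * b⁻¹, hw⟩ =
          ψ₀ ⟨a, haK⟩ * ψ₀ ⟨b, hbK⟩ * (ψ₀ ⟨a, haK⟩)⁻¹ * (ψ₀ ⟨b, hbK⟩)⁻¹ := by
        rw [← map_inv, ← map_inv, ← map_mul, ← map_mul, ← map_mul]; rfl
      rw [e]; exact C.comm _ (hψP _) _ (hψP _))
    calc a * b = (a * b * a⁻¹ * b⁻¹) * (b * a) := by group
      _ = b * a := by rw [h1, one_mul]
  · intro a ha hax
    have haK := (hKmem a).mpr ⟨ha, hax⟩
    have hw := Subgroup.pow_mem _ haK p
    exact key _ hw (C.pow a ha) (by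
      have e : ψ₀ ⟨a ^ p, hw⟩ = (ψ₀ ⟨a, haK⟩) ^ p := by rw [← map_pow]; rfl
      rw [e]; exact C.pow _ (hψP _))

theorem normalizer_transvection [Finite S] {p : ℕ} {F : FusionSystem S}
    {P Z₀ : Subgroup Ω} (C : GECtx p F P Z₀) {Y : Subgroup Ω} (hYP : Y ≤ P)
    (hYab : ∀ a ∈ Y, ∀ b ∈ Y, a * b = b * a) (hrec : F.IsReceptive Y) (g : Ω) (hgP : g ∈ P)
    (hgN : g ∈ Subgroup.normalizer (Y : Set Ω))
    (hgen : ∀ x ∈ P, ∃ k : ℕ, ∃ y ∈ Y, x = g ^ k * y)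
    (hpm : ∀ a ∈ P, ∀ b ∈ P, (a * b) ^ p = a ^ p * b ^ p) (hYp : ∀ y ∈ Y, y ^ p = 1)
    (hωY : g ^ p ∈ Y) (δ : MulAut Y) (hδ : δ ∈ F.autGroup Y)
    (hconj : δ * Cfsg.Agent.Lib.helper88.conjAut Y g hgN * δ⁻¹ ∈ autInducedBy S Y) :
    ∃ b : ℕ, δ * Cfsg.Agent.Lib.helper88.conjAut Y g hgN * δ⁻¹ =
        (Cfsg.Agent.Lib.helper88.conjAut Y g hgN) ^ b ∧
      ((δ ⟨g ^ p, hωY⟩ : Y) : Ω) = (g ^ p) ^ b := by
  have hPS : P ≤ S := C.sc.1
  have hYS : Y ≤ S := hYP.trans hPS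
  obtain ⟨t, ht⟩ : ∃ t : MulAut Y, t = Cfsg.Agent.Lib.helper88.conjAut Y g hgN := ⟨_, rfl⟩
  rw [← ht] at hconj ⊢
  have htapp : ∀ x : Y, ((t x : Y) : Ω) = g * x * g⁻¹ := by intro x; rw [ht]; rfl
  have hδF : Y.subtype.comp δ.toMonoidHom ∈ F.Hom Y :=
    (Cfsg.Agent.Lib.helper88.mem_autGroup_iff' F hYS δ).mp hδ
  have hrange : (Y.subtype.comp δ.toMonoidHom).range = Y := by
    ext y
    constructor
    · rintro ⟨x, rfl⟩
      exact (δ x).2
    · intro hy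
      exact ⟨δ⁻¹ ⟨y, hy⟩, by simp⟩
  obtain ⟨s, hs, hsx⟩ := (Cfsg.Agent.Lib.helper88.mem_autInducedBy_iff S Y _).mp hconj
  obtain ⟨ψ, hψ, hψY⟩ := Cfsg.Agent.Lib.helper89.exists_extension_closure F hrec hδF hrange
    ((Y : Set Ω) ∪ {g}) (by
    rintro w (hw | hw)
    · exact Cfsg.Agent.Lib.helper89.extender_cond_of_mem F hδF hw
    · rw [Set.mem_singleton_iff] at hw
      subst hw
      refine ⟨hPS hgP, hgN, s, hs, fun x hx => ?_⟩
      have h1 := hsx (δ x)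
      have h2 : (δ * t * δ⁻¹) (δ x) = δ (t x) := by simp [MulAut.mul_apply]
      rw [h2] at h1
      have h3 : (⟨w * (x : Ω) * w⁻¹, hx⟩ : Y) = t x := Subtype.ext (htapp x).symm
      rw [h3]
      exact h1)
  have hgN' : g ∈ Subgroup.closure ((Y : Set Ω) ∪ {g}) := Subgroup.subset_closure (Or.inr rfl)
  have hYN : Y ≤ Subgroup.closure ((Y : Set Ω) ∪ {g}) := fun y hy =>
    Subgroup.subset_closure (Or.inl hy)
  have hNP : Subgroup.closure ((Y : Set Ω) ∪ {g}) ≤ P := by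
    rw [Subgroup.closure_le]
    rintro w (hw | hw)
    · exact hYP hw
    · rw [Set.mem_singleton_iff] at hw
      rw [hw]; exact hgP
  have hψgP : ψ ⟨g, hgN'⟩ ∈ P := C.sc.2 _ hNP ψ hψ _
  obtain ⟨b, y, hy, hψg⟩ := hgen _ hψgP
  refine ⟨b, ?_, ?_⟩
  · have htpow : ∀ (n : ℕ) (x : Y), (((t ^ n) x : Y) : Ω) = g ^ n * x * (g ^ n)⁻¹ := by
      intro n
      induction n with
      | zero => intro x; simp
      | succ n ih =>
        intro x
        rw [pow_succ', MulAut.mul_apply, htapp, ih, pow_succ']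
        group
    have key : ∀ x : Y, δ (t x) = (t ^ b) (δ x) := by
      intro x
      apply Subtype.ext
      rw [htpow]
      have e1 : ((δ (t x) : Y) : Ω) = ψ ⟨(t x : Y), hYN (t x).2⟩ := (hψY _ (t x).2 _).symm
      have e2 : (⟨((t x : Y) : Ω), hYN (t x).2⟩ : Subgroup.closure ((Y : Set Ω) ∪ {g})) =
          ⟨g, hgN'⟩ * ⟨x, hYN x.2⟩ * ⟨g, hgN'⟩⁻¹ := Subtype.ext (htapp x)
      have e3 : ψ ⟨x, hYN x.2⟩ = ((δ x : Y) : Ω) := hψY _ x.2 _
      rw [e1, e2, map_mul, map_mul, map_inv, e3, hψg]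
      have e4 : y * ((δ x : Y) : Ω) = ((δ x : Y) : Ω) * y := hYab y hy _ (δ x).2
      calc g ^ b * y * ((δ x : Y) : Ω) * (g ^ b * y)⁻¹
          = g ^ b * (y * ((δ x : Y) : Ω)) * y⁻¹ * (g ^ b)⁻¹ := by group
        _ = g ^ b * (((δ x : Y) : Ω) * y) * y⁻¹ * (g ^ b)⁻¹ := by rw [e4]
        _ = g ^ b * ((δ x : Y) : Ω) * (g ^ b)⁻¹ := by group
    have h5 : δ * t = t ^ b * δ := by
      ext x
      exact congrArg (fun q : Y => (q : Ω)) (key x)
    rw [h5, mul_inv_cancel_right]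
  · have e1 : ((δ ⟨g ^ p, hωY⟩ : Y) : Ω) = ψ ⟨g ^ p, hYN hωY⟩ := (hψY _ hωY _).symm
    have e2 : (⟨g ^ p, hYN hωY⟩ : Subgroup.closure ((Y : Set Ω) ∪ {g})) = ⟨g, hgN'⟩ ^ p := rfl
    rw [e1, e2, map_pow, hψg, hpm _ (P.pow_mem hgP b) _ (hYP hy), hYp y hy, mul_one, ← pow_mul,
      mul_comm, pow_mul]

end GECtx

end Cfsg.Agent.Lib.helper65
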