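import Mathlib
import Cfsg.Agent.Lib.helper65.MetaBasic
import Cfsg.Agent.Lib.helper65.MetaNT

/-!
# Elements of order `p` in metacyclic `p`-groups, `p` odd

* `mem_of_pow_prime_eq_one`: a subgroup `D` of exponent `p` and order at least `p²` contains every
  element of order dividing `p`.
* `metacyclic_no_inverting`: the final contradiction used for strongly closed metacyclic subgroups.
-/

set_option autoImplicit false

namespace Cfsg.Agent.Lib.helper65

open Subgroup

theorem card_le_of_isCyclic_of_pow_eq_one {H : Type*} [Group H] [Finite H] [IsCyclic H] {p : ℕ}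
    (hp : 0 < p) (h : ∀ x : H, x ^ p = 1) : Nat.card H ≤ p := by
  obtain ⟨g, hg⟩ := IsCyclic.exists_generator (α := H)
  rw [← orderOf_eq_card_of_forall_mem_zpowers hg]
  exact Nat.le_of_dvd hp (orderOf_dvd_of_pow_eq_one (h g))

/-- In a finite cyclic group, a subgroup with at least `p` elements contains all solutions of
`x ^ p = 1`. -/
theorem mem_of_pow_eq_one_of_card_ge {α : Type*} [Group α] [Finite α] [IsCyclic α] {p : ℕ}
    (hp : 0 < p) (K : Subgroup α) (hK : p ≤ Nat.card K) (hKp : ∀ x ∈ K, x ^ p = 1) (q : α)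
    (hq : q ^ p = 1) : q ∈ K := by
  classical
  by_contra hqK
  have : Fintype α := Fintype.ofFinite α
  have h1 : (Finset.univ.filter (fun a : α => a ^ p = 1)).card ≤ p := IsCyclic.card_pow_eq_one_le hp
  have h2 : insert q (Finset.univ.filter (fun a : α => a ∈ K)) ⊆
      Finset.univ.filter (fun a : α => a ^ p = 1) := by
    intro x hx
    rw [Finset.mem_insert] at hx
    rw [Finset.mem_filter]
    refine ⟨Finset.mem_univ _, ?_⟩
    rcases hx with rfl | hx
    · exact hq
    · exact hKp x (Finset.mem_filter.mp hx).2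
  have h3 : (insert q (Finset.univ.filter (fun a : α => a ∈ K))).card =
      (Finset.univ.filter (fun a : α => a ∈ K)).card + 1 :=
    Finset.card_insert_of_notMem (by simp [hqK])
  have h4 : (Finset.univ.filter (fun a : α => a ∈ K)).card = Nat.card K := by
    rw [Nat.card_eq_fintype_card, Fintype.card_subtype]
  have h5 := Finset.card_le_card h2
  omega

theorem mul_pow_mul_inv_mem' {G : Type*} [Group G] (C : Subgroup G) (h t : G) (hh : h ∈ C)
    (ht : t ∈ Subgroup.normalizer (C : Set G)) (j : ℕ) : (h * t) ^ j * (t ^ j)⁻¹ ∈ C := by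
  induction j with
  | zero => simp
  | succ j ih =>
    have e : (h * t) ^ (j + 1) * (t ^ (j + 1))⁻¹ =
        ((h * t) ^ j * (t ^ j)⁻¹) * (t ^ j * h * (t ^ j)⁻¹) := by
      rw [pow_succ, pow_succ]
      generalize (h * t) ^ j = A
      generalize t ^ j = b
      group
    rw [e]
    exact C.mul_mem ih ((Subgroup.mem_normalizer_iff.1 (Subgroup.pow_mem _ ht j) h).1 hh)

/-- In a metacyclic `p`-group, `p` odd, a subgroup `D` of exponent `p` and order at least `p²`
contains every element of order dividing `p`. -/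
theorem mem_of_pow_prime_eq_one {R : Type*} [Group R] [Finite R] {p : ℕ} [hp : Fact p.Prime]
    (hp2 : p ≠ 2) (hR : IsPGroup p R)
    (hm : ∃ (N : Subgroup R) (_ : N.Normal), IsCyclic N ∧ IsCyclic (R ⧸ N))
    (D : Subgroup R) (hD : ∀ d ∈ D, d ^ p = 1) (hcard : p ^ 2 ≤ Nat.card D)
    (c : R) (hc : c ^ p = 1) : c ∈ D := by
  obtain ⟨N, hN, hNc, hQc⟩ := hm
  have hpos := hp.out.pos
  have h1 : Nat.card (D ⊓ N : Subgroup R) ≤ p := by
    have : IsCyclic (D ⊓ N : Subgroup R) :=
      isCyclic_of_injective (Subgroup.inclusion (inf_le_right : D ⊓ N ≤ N))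
        (Subgroup.inclusion_injective _)
    apply card_le_of_isCyclic_of_pow_eq_one hpos
    intro x
    apply Subtype.ext
    have := hD x.1 x.2.1
    simpa using this
  have h2 : Nat.card (D.map (QuotientGroup.mk' N)) ≤ p := by
    have : IsCyclic (D.map (QuotientGroup.mk' N)) := Subgroup.isCyclic _
    apply card_le_of_isCyclic_of_pow_eq_one hpos
    rintro ⟨q, d, hd, rfl⟩
    apply Subtype.ext
    show (QuotientGroup.mk' N d) ^ p = 1
    rw [← map_pow, hD d hd, map_one]
  have h3 := card_eq_card_inf_mul_card_map N D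
  have h4 : p ≤ Nat.card (D ⊓ N : Subgroup R) := by
    by_contra hlt
    push Not at hlt
    have : Nat.card (D ⊓ N : Subgroup R) * Nat.card (D.map (QuotientGroup.mk' N)) ≤ (p - 1) * p :=
      Nat.mul_le_mul (by omega) h2
    have h5 : (p - 1) * p < p ^ 2 := by
      rw [pow_two]
      exact Nat.mul_lt_mul_of_pos_right (by omega) hpos
    omega
  have h4' : p ≤ Nat.card (D.map (QuotientGroup.mk' N)) := by
    by_contra hlt
    push Not at hlt
    have : Nat.card (D ⊓ N : Subgroup R) * Nat.card (D.map (QuotientGroup.mk' N)) ≤ p * (p - 1) :=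
      Nat.mul_le_mul h1 (by omega)
    have h5 : p * (p - 1) < p ^ 2 := by
      rw [pow_two]
      exact Nat.mul_lt_mul_of_pos_left (by omega) hpos
    omega
  -- `c = n * d`
  have h6 : QuotientGroup.mk' N c ∈ D.map (QuotientGroup.mk' N) := by
    apply mem_of_pow_eq_one_of_card_ge hpos _ h4'
    · rintro q ⟨d, hd, rfl⟩
      rw [← map_pow, hD d hd, map_one]
    · rw [← map_pow, hc, map_one]
  obtain ⟨d, hdD, hdc⟩ := h6
  have hnN : c * d⁻¹ ∈ N := by
    rw [← QuotientGroup.eq_one_iff, QuotientGroup.mk_mul, QuotientGroup.mk_inv]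
    have : (QuotientGroup.mk c : R ⧸ N) = QuotientGroup.mk d := hdc.symm
    rw [this, mul_inv_cancel]
  obtain ⟨n, hn⟩ : ∃ n : R, n = c * d⁻¹ := ⟨_, rfl⟩
  rw [← hn] at hnN
  have hcnd : c = n * d := by rw [hn]; group
  have hdp : d ^ p = 1 := hD d hdD
  -- `n ^ p = 1`
  have hnp : n ^ p = 1 := by
    by_contra hnp
    -- conjugation exponent
    obtain ⟨l₀, hl₀⟩ : ∃ l₀ : ℕ, d * n * d⁻¹ = n ^ l₀ := by
      obtain ⟨⟨a, haN⟩, hgen⟩ := hNc.exists_generator
      have hmem : ∀ x : R, x ∈ N → ∃ i : ℕ, x = a ^ i := by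
        intro x hx
        have h := hgen ⟨x, hx⟩
        have hfin : IsOfFinOrder (⟨a, haN⟩ : N) := isOfFinOrder_of_finite _
        obtain ⟨i, hi⟩ := (hfin.mem_powers_iff_mem_zpowers).mpr h
        refine ⟨i, ?_⟩
        have := congrArg Subtype.val hi
        simpa using this.symm
      obtain ⟨i, hi⟩ := hmem n hnN
      obtain ⟨r, hr⟩ := hmem (d * a * d⁻¹) (hN.conj_mem a haN d)
      refine ⟨r, ?_⟩
      rw [hi, ← conj_pow, hr, ← pow_mul, ← pow_mul, mul_comm]
    obtain ⟨e, -, he⟩ := (Nat.dvd_prime_pow hp.out).mp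
      (orderOf_dvd_of_pow_eq_one (hR n).choose_spec)
    have he2 : 2 ≤ e := by
      by_contra hlt
      push Not at hlt
      apply hnp
      have : orderOf n ∣ p := by
        rw [he]
        interval_cases e
        · simp
        · simp
      exact orderOf_dvd_iff_pow_eq_one.mp this
    have ho : n ^ p ^ e = 1 := by rw [← he]; exact pow_orderOf_eq_one n
    -- `l₀ ^ p ≡ 1` modulo the order of `n`
    have h7 : n ^ (l₀ ^ p) = n := by
      have := mc_conj_pow hl₀ p 1
      rw [hdp, one_mul, mul_one, pow_one, one_mul] at this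
      exact this.symm
    have hl₀1 : 1 ≤ l₀ := by
      rcases Nat.eq_zero_or_pos l₀ with rfl | h
      · exfalso
        rw [zero_pow hp.out.ne_zero, pow_zero] at h7
        apply hnp; rw [← h7, one_pow]
      · exact h
    have h8 : p ∣ l₀ - 1 := by
      have h9 : n ^ (l₀ ^ p - 1) = 1 := by
        have h10 : l₀ ^ p = (l₀ ^ p - 1) + 1 := by
          have := Nat.one_le_pow p l₀ hl₀1
          omega
        rw [h10, pow_succ] at h7
        exact mul_eq_right.mp h7
      have h11 : p ^ e ∣ l₀ ^ p - 1 := by rw [← he]; exact orderOf_dvd_of_pow_eq_one h9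
      have h12 : p ∣ l₀ ^ p - 1 := (dvd_pow_self p (by omega : e ≠ 0)).trans h11
      have h13 : (l₀ : ZMod p) ^ p = 1 := by
        have h14 := (ZMod.natCast_eq_zero_iff (l₀ ^ p - 1) p).mpr h12
        rw [Nat.cast_sub (Nat.one_le_pow p l₀ hl₀1), Nat.cast_pow, Nat.cast_one, sub_eq_zero] at h14
        exact h14
      rw [ZMod.pow_card] at h13
      rw [← ZMod.natCast_eq_zero_iff, Nat.cast_sub hl₀1, Nat.cast_one, h13, sub_self]
    -- adjusted exponent
    have hpe : 2 ≤ p ^ e := by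
      have := Nat.one_lt_pow (by omega : e ≠ 0) hp.out.one_lt
      omega
    have hl : 1 < l₀ + p ^ e := by omega
    have hconj : d * n * d⁻¹ = n ^ (l₀ + p ^ e) := by rw [pow_add, ho, mul_one, hl₀]
    have hpl : p ∣ l₀ + p ^ e - 1 := by
      have : l₀ + p ^ e - 1 = (l₀ - 1) + p ^ e := by omega
      rw [this]
      exact dvd_add h8 (dvd_pow_self p (by omega))
    have hk1 : 1 ≤ padicValNat p (l₀ + p ^ e - 1) :=
      one_le_padicValNat_of_dvd (by omega) hpl
    have hgeom := mc_geom_dvd hp2 hl rfl hk1 1 p 2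
    have h15 := mc_pow hconj 1 1 p
    rw [pow_one, pow_one, ← hcnd, hc, one_mul, one_mul, hdp, mul_one] at h15
    have h16 : orderOf n ∣ ∑ q ∈ Finset.range p, (l₀ + p ^ e) ^ (1 * q) :=
      orderOf_dvd_of_pow_eq_one h15.symm
    rw [he] at h16
    have h17 : p ^ 2 ∣ p := hgeom.mp ((pow_dvd_pow p he2).trans h16)
    have h18 := Nat.le_of_dvd hpos h17
    have : p < p ^ 2 := by
      rw [pow_two]
      have := hp.out.two_le
      nlinarith
    omega
  have hnD : n ∈ D := by
    have h := mem_of_pow_eq_one_of_card_ge (α := N) hpos (D.subgroupOf N) (by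
      rw [← Subgroup.inf_subgroupOf_right,
        Nat.card_congr (Subgroup.subgroupOfEquivOfLe (inf_le_right : D ⊓ N ≤ N)).toEquiv]
      exact h4) (by
      intro x hx
      apply Subtype.ext
      have := hD x.1 (Subgroup.mem_subgroupOf.mp hx)
      simpa using this) ⟨n, hnN⟩ (by
      apply Subtype.ext
      simpa using hnp)
    exact Subgroup.mem_subgroupOf.mp h
  rw [hcnd]
  exact D.mul_mem hnD hdD

/-- The final contradiction for strongly closed metacyclic subgroups: there is no map `f`,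
multiplicative on `Y`, inverting `X ≤ Y` and trivial on `⟨X, g⟩ / X` for some `g ∈ N_Y(X) ∖ X`,
if `Ω₁(X)` has order at least `p²`. -/
theorem metacyclic_no_inverting {R : Type*} [Group R] [Finite R] {p : ℕ} [hp : Fact p.Prime]
    (hp2 : p ≠ 2) (hR : IsPGroup p R)
    (hm : ∃ (N : Subgroup R) (_ : N.Normal), IsCyclic N ∧ IsCyclic (R ⧸ N))
    (X Y : Subgroup R) (hXY : X ≤ Y) (g : R) (hgY : g ∈ Y) (hgX : g ∉ X)
    (hgN : g ∈ Subgroup.normalizer (X : Set R))
    (f : R → R) (hmul : ∀ a ∈ Y, ∀ b ∈ Y, f (a * b) = f a * f b)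
    (hinv : ∀ x ∈ X, f x = x⁻¹)
    (hfg : f g * g⁻¹ ∈ X)
    (hcard : p ^ 2 ≤ Nat.card {x : R // x ∈ X ∧ x ^ p = 1}) : False := by
  have hodd : Odd p := hp.out.odd_of_ne_two hp2
  have hXc : ∀ a ∈ X, ∀ b ∈ X, a * b = b * a := by
    intro a ha b hb
    have h1 := hmul a (hXY ha) b (hXY hb)
    rw [hinv a ha, hinv b hb, hinv _ (X.mul_mem ha hb), mul_inv_rev] at h1
    have h2 := congrArg (fun z => z⁻¹) h1
    simp only [mul_inv_rev, inv_inv] at h2
    exact h2
  let D : Subgroup R :=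
    { carrier := {x | x ∈ X ∧ x ^ p = 1}
      mul_mem' := by
        rintro a b ⟨ha, ha'⟩ ⟨hb, hb'⟩
        refine ⟨X.mul_mem ha hb, ?_⟩
        rw [(show Commute a b from hXc a ha b hb).mul_pow, ha', hb', one_mul]
      one_mem' := ⟨X.one_mem, one_pow _⟩
      inv_mem' := by
        rintro a ⟨ha, ha'⟩
        exact ⟨X.inv_mem ha, by rw [inv_pow, ha', inv_one]⟩ }
  have hD : ∀ d ∈ D, d ^ p = 1 := fun d hd => hd.2
  have hDX : D ≤ X := fun d hd => hd.1
  have hDcard : p ^ 2 ≤ Nat.card D := hcard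
  have hf1 : f 1 = 1 := by rw [hinv 1 X.one_mem, inv_one]
  have hfpow : ∀ a ∈ Y, ∀ m : ℕ, f (a ^ m) = f a ^ m := by
    intro a ha m
    induction m with
    | zero => simp [hf1]
    | succ m ih => rw [pow_succ, hmul _ (Y.pow_mem ha m) _ ha, ih, pow_succ]
  obtain ⟨n, hn⟩ := hR g
  have hex : ∃ j, g ^ p ^ j ∈ X := ⟨n, by rw [hn]; exact X.one_mem⟩
  classical
  obtain ⟨j, hj, hjmin⟩ : ∃ j, g ^ p ^ j ∈ X ∧ ∀ i < j, g ^ p ^ i ∉ X :=
    ⟨Nat.find hex, Nat.find_spec hex, fun i hi => Nat.find_min hex hi⟩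
  have hj0 : j ≠ 0 := by
    rintro rfl
    apply hgX; simpa using hj
  obtain ⟨i, rfl⟩ : ∃ i, j = i + 1 := ⟨j - 1, by omega⟩
  obtain ⟨y, hy⟩ : ∃ y : R, y = g ^ p ^ i := ⟨_, rfl⟩
  have hyX : y ∉ X := by rw [hy]; exact hjmin i (by omega)
  have hypX : y ^ p ∈ X := by rw [hy, ← pow_mul, ← pow_succ]; exact hj
  have hyY : y ∈ Y := by rw [hy]; exact Y.pow_mem hgY _
  have hyN : y ∈ Subgroup.normalizer (X : Set R) := by rw [hy]; exact Subgroup.pow_mem _ hgN _
  have hfy : f y * y⁻¹ ∈ X := by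
    have h1 := mul_pow_mul_inv_mem' X (f g * g⁻¹) g hfg hgN (p ^ i)
    rw [inv_mul_cancel_right] at h1
    rw [hy, hfpow g hgY]
    exact h1
  obtain ⟨x₂, hx₂⟩ : ∃ x₂ : R, x₂ = f y * y⁻¹ := ⟨_, rfl⟩
  rw [← hx₂] at hfy
  have hfy' : f y = x₂ * y := by rw [hx₂]; group
  obtain ⟨m, hm'⟩ := hR x₂
  have hpm : Odd (p ^ m) := hodd.pow
  obtain ⟨h, hh⟩ := hpm
  obtain ⟨r, hr⟩ : ∃ r : R, r = x₂ ^ (h + 1) := ⟨_, rfl⟩
  have hrX : r ∈ X := by rw [hr]; exact X.pow_mem hfy _
  have hr2 : r * r = x₂ := by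
    rw [hr, ← pow_add, show h + 1 + (h + 1) = p ^ m + 1 by omega, pow_succ, hm', one_mul]
  obtain ⟨c, hc⟩ : ∃ c : R, c = r * y := ⟨_, rfl⟩
  have hcY : c ∈ Y := by rw [hc]; exact Y.mul_mem (hXY hrX) hyY
  have hfc : f c = c := by
    rw [hc, hmul r (hXY hrX) y hyY, hinv r hrX, hfy', ← hr2]
    group
  have hcX : c ∉ X := by
    intro h
    apply hyX
    have : y = r⁻¹ * c := by rw [hc]; group
    rw [this]
    exact X.mul_mem (X.inv_mem hrX) h
  have hcpX : c ^ p ∈ X := by
    have h1 := mul_pow_mul_inv_mem' X r y hrX hyN p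
    rw [← hc] at h1
    have : c ^ p = (c ^ p * (y ^ p)⁻¹) * y ^ p := by group
    rw [this]
    exact X.mul_mem h1 hypX
  have hcp : c ^ p = 1 := by
    have h1 : f (c ^ p) = c ^ p := by rw [hfpow c hcY, hfc]
    rw [hinv _ hcpX] at h1
    have h2 : (c ^ p) ^ 2 = 1 := by
      rw [pow_two]
      nth_rewrite 1 [← h1]
      exact inv_mul_cancel _
    obtain ⟨k, hk⟩ := hR (c ^ p)
    have h3 : orderOf (c ^ p) ∣ 2 := orderOf_dvd_of_pow_eq_one h2
    have h4 : orderOf (c ^ p) ∣ p ^ k := orderOf_dvd_of_pow_eq_one hk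
    have h5 : Nat.Coprime 2 (p ^ k) := (Nat.coprime_two_left.mpr hodd).pow_right k
    have h6 : orderOf (c ^ p) = 1 := Nat.eq_one_of_dvd_coprimes h5 h3 h4
    exact orderOf_eq_one_iff.mp h6
  exact hcX (hDX (mem_of_pow_prime_eq_one hp2 hR hm D hD hDcard c hcp))

end Cfsg.Agent.Lib.helper65
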