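import Mathlib
import Cfsg.Agent.Lib.helper55.NormalElemAb
import Cfsg.Agent.Lib.helper65.MetaOmega
import Cfsg.Agent.Lib.helper65.MaxClassP

/-!
# `Ω₁` and `Ω₂` of a metacyclic `p`-group without cyclic maximal subgroups, `p` odd (helper65)

For a metacyclic `p`-group `L` (`p` odd) with no cyclic subgroup of index `p`:
* `E = {x | x ^ p = 1}` is a subgroup of order `p²`;
* `M = {x | x ^ p ∈ E}` is a subgroup of order `p⁴` in which `E` is central, and `x ↦ x ^ p` is a
  homomorphism of `M` onto `E`.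
-/

set_option autoImplicit false

namespace Cfsg.Agent.Lib.helper65

open Subgroup

theorem pow_mul_comm_of_central {G : Type*} [Group G] (u v c : G) (h : v * u = u * v * c)
    (hcv : c * v = v * c) (n : ℕ) : v ^ n * u = u * v ^ n * c ^ n := by
  induction n with
  | zero => simp
  | succ n ih =>
    have hcvn : Commute c (v ^ n) := (show Commute c v from hcv).pow_right n
    calc v ^ (n + 1) * u = v * (v ^ n * u) := by rw [pow_succ']; group
      _ = v * (u * v ^ n * c ^ n) := by rw [ih]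
      _ = (v * u) * v ^ n * c ^ n := by group
      _ = (u * v * c) * v ^ n * c ^ n := by rw [h]
      _ = u * v * (c * v ^ n) * c ^ n := by group
      _ = u * v * (v ^ n * c) * c ^ n := by rw [hcvn.eq]
      _ = u * v ^ (n + 1) * c ^ (n + 1) := by rw [pow_succ' v, pow_succ' c]; group

/-- `(u v)ⁿ = uⁿ vⁿ c^(n choose 2)` when `v u = u v c` and `c` commutes with `u` and `v`. -/
theorem mul_pow_of_central {G : Type*} [Group G] (u v c : G) (h : v * u = u * v * c)
    (hcu : c * u = u * c) (hcv : c * v = v * c) (n : ℕ) :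
    (u * v) ^ n = u ^ n * v ^ n * c ^ (n.choose 2) := by
  induction n with
  | zero => simp
  | succ n ih =>
    have h1 := pow_mul_comm_of_central u v c h hcv n
    have hc1 : Commute c u := hcu
    have hc2 : Commute c v := hcv
    have hcc : (n + 1).choose 2 = n + n.choose 2 := by
      rw [Nat.choose_succ_succ', Nat.choose_one_right]
    calc (u * v) ^ (n + 1) = (u * v) ^ n * (u * v) := pow_succ _ _
      _ = u ^ n * v ^ n * c ^ (n.choose 2) * (u * v) := by rw [ih]
      _ = u ^ n * v ^ n * (c ^ (n.choose 2) * (u * v)) := by group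
      _ = u ^ n * v ^ n * ((u * v) * c ^ (n.choose 2)) := by
          rw [((hc1.mul_right hc2).pow_left _).eq]
      _ = u ^ n * (v ^ n * u) * v * c ^ (n.choose 2) := by group
      _ = u ^ n * (u * v ^ n * c ^ n) * v * c ^ (n.choose 2) := by rw [h1]
      _ = u ^ n * u * v ^ n * (c ^ n * v) * c ^ (n.choose 2) := by group
      _ = u ^ n * u * v ^ n * (v * c ^ n) * c ^ (n.choose 2) := by rw [(hc2.pow_left n).eq]
      _ = u ^ (n + 1) * v ^ (n + 1) * c ^ ((n + 1).choose 2) := by
          rw [hcc, pow_add c, pow_succ u, pow_succ v]; group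

section

variable {L : Type*} [Group L] {p : ℕ} [hp : Fact p.Prime]

theorem prime_dvd_choose_two (hp2 : p ≠ 2) : p ∣ p.choose 2 :=
  hp.out.dvd_choose_self (by norm_num) (by have := hp.out.two_le; omega)

/-- With `c ^ p = 1`, `c` central for the pair: `(u v) ^ p = u ^ p v ^ p`. -/
theorem mul_pow_prime_of_central (hp2 : p ≠ 2) (u v c : L) (h : v * u = u * v * c)
    (hcu : c * u = u * c) (hcv : c * v = v * c) (hc : c ^ p = 1) :
    (u * v) ^ p = u ^ p * v ^ p := by
  rw [mul_pow_of_central u v c h hcu hcv p]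
  obtain ⟨k, hk⟩ := prime_dvd_choose_two (p := p) hp2
  rw [hk, pow_mul, hc, one_pow, mul_one]

variable [Finite L]

theorem not_isCyclic_of_no_cyclic_index {m : ℕ} (hm : Nat.card L = p ^ m) (hm1 : 1 ≤ m)
    (hnc : ∀ C : Subgroup L, IsCyclic C → C.index ≠ p) : ¬ IsCyclic L := by
  intro hcyc
  obtain ⟨K, hK⟩ := Sylow.exists_subgroup_card_pow_prime p (G := L) (n := m - 1)
    (by rw [hm]; exact pow_dvd_pow p (by omega))
  have hidx : K.index = p := by
    have h1 := Subgroup.card_mul_index K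
    rw [hK, hm] at h1
    have h2 : p ^ m = p ^ (m - 1) * p := by rw [← pow_succ]; congr 1; omega
    rw [h2] at h1
    exact Nat.eq_of_mul_eq_mul_left (pow_pos hp.out.pos _) h1
  exact hnc K (Subgroup.isCyclic K) hidx

theorem exists_omega_one (hp2 : p ≠ 2) (hL : IsPGroup p L)
    (hmc : ∃ (N : Subgroup L) (_ : N.Normal), IsCyclic N ∧ IsCyclic (L ⧸ N))
    (hncyc : ¬ IsCyclic L) :
    ∃ E : Subgroup L, (∀ x : L, x ∈ E ↔ x ^ p = 1) ∧ Nat.card E = p ^ 2 ∧
      (∀ x ∈ E, ∀ y ∈ E, x * y = y * x) := by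
  obtain ⟨A, -, ⟨hAc, hAp⟩, hAcard⟩ :=
    Cfsg.Agent.Lib.helper55.exists_normal_elemAb_sq hp2 hL hncyc
  refine ⟨A, fun x => ⟨hAp x, fun hx =>
    mem_of_pow_prime_eq_one hp2 hL hmc A hAp hAcard.ge x hx⟩, hAcard, ?_⟩
  intro x hx y hy
  have := hAc.is_comm.comm ⟨x, hx⟩ ⟨y, hy⟩
  exact congrArg Subtype.val this

omit [Finite L] hp in
theorem metacyclic_of_surjective {Q : Type*} [Group Q] (f : L →* Q)
    (hf : Function.Surjective f)
    (hmc : ∃ (N : Subgroup L) (_ : N.Normal), IsCyclic N ∧ IsCyclic (L ⧸ N)) :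
    ∃ (N' : Subgroup Q) (_ : N'.Normal), IsCyclic N' ∧ IsCyclic (Q ⧸ N') := by
  obtain ⟨N, hN, hNc, hQc⟩ := hmc
  have hN' : (N.map f).Normal := hN.map f hf
  refine ⟨N.map f, hN', ?_, ?_⟩
  · exact isCyclic_of_surjective (f.subgroupMap N) (f.subgroupMap_surjective N)
  · have hle : N ≤ (N.map f).comap f := Subgroup.le_comap_map f N
    exact isCyclic_of_surjective (QuotientGroup.map N (N.map f) f hle) (by
      intro q
      obtain ⟨q, rfl⟩ := QuotientGroup.mk_surjective q
      obtain ⟨x, rfl⟩ := hf q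
      exact ⟨QuotientGroup.mk x, rfl⟩)

omit [Finite L] hp in
theorem normal_of_mem_iff_pow (E : Subgroup L) (hE : ∀ x : L, x ∈ E ↔ x ^ p = 1) : E.Normal := by
  constructor
  intro x hx g
  rw [hE, conj_pow, (hE x).mp hx]
  simp

theorem quotient_not_isCyclic {m : ℕ} (hm : Nat.card L = p ^ m)
    (hnc : ∀ C : Subgroup L, IsCyclic C → C.index ≠ p)
    (E : Subgroup L) [E.Normal] (hE : ∀ x : L, x ∈ E ↔ x ^ p = 1) (hEcard : Nat.card E = p ^ 2) :
    ¬ IsCyclic (L ⧸ E) := by
  intro hcyc
  have hp1 := hp.out.one_lt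
  obtain ⟨gb, hgb⟩ := hcyc.exists_generator
  obtain ⟨g, rfl⟩ := QuotientGroup.mk_surjective gb
  have h1 := card_eq_card_inf_mul_card_map E (zpowers g)
  have hmap : (zpowers g).map (QuotientGroup.mk' E) = ⊤ := by
    rw [eq_top_iff]
    intro q _
    obtain ⟨k, hk⟩ := Subgroup.mem_zpowers_iff.mp (hgb q)
    exact ⟨g ^ k, Subgroup.zpow_mem_zpowers g k, by simpa using hk⟩
  rw [hmap, Subgroup.card_top] at h1
  have hq : Nat.card (L ⧸ E) * p ^ 2 = p ^ m := by
    rw [← hEcard, ← hm]; exact (Subgroup.card_eq_card_quotient_mul_card_subgroup E).symm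
  have hinf : Nat.card (zpowers g ⊓ E : Subgroup L) ≤ p := by
    have : IsCyclic (zpowers g ⊓ E : Subgroup L) :=
      isCyclic_of_injective (Subgroup.inclusion (inf_le_left : zpowers g ⊓ E ≤ zpowers g))
        (Subgroup.inclusion_injective _)
    apply card_le_of_isCyclic_of_pow_eq_one hp.out.pos
    intro x
    apply Subtype.ext
    have := (hE x.1).mp x.2.2
    simpa using this
  have hdvd : Nat.card (zpowers g ⊓ E : Subgroup L) ∣ p ^ 2 := by
    rw [← hEcard]; exact Subgroup.card_dvd_of_le inf_le_right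
  obtain ⟨i, hi2, hi⟩ := (Nat.dvd_prime_pow hp.out).mp hdvd
  have hi1 : i ≤ 1 := by
    rw [hi] at hinf
    by_contra hlt
    push Not at hlt
    have h2 : p ^ 2 ≤ p ^ i := Nat.pow_le_pow_right hp.out.pos hlt
    have h3 : p < p ^ 2 := by nlinarith [hp.out.two_le]
    omega
  rcases Nat.eq_zero_or_pos i with rfl | hipos
  · rw [pow_zero] at hi
    have hbot : zpowers g ⊓ E = ⊥ := Subgroup.card_eq_one.mp hi
    have hg1 : g = 1 := by
      by_contra hg
      obtain ⟨j, hj⟩ := (IsPGroup.iff_orderOf.mp (IsPGroup.of_card hm)) g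
      have hj1 : j ≠ 0 := by
        rintro rfl
        rw [pow_zero, orderOf_eq_one_iff] at hj
        exact hg hj
      have hy : g ^ p ^ (j - 1) ∈ zpowers g ⊓ E := by
        refine Subgroup.mem_inf.mpr ⟨Subgroup.pow_mem _ (Subgroup.mem_zpowers g) _, (hE _).mpr ?_⟩
        rw [← pow_mul, ← pow_succ, show j - 1 + 1 = j by omega, ← hj]
        exact pow_orderOf_eq_one g
      rw [hbot, Subgroup.mem_bot] at hy
      have h2 : orderOf g ∣ p ^ (j - 1) := orderOf_dvd_of_pow_eq_one hy
      rw [hj] at h2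
      have h3 := (Nat.pow_dvd_pow_iff_le_right hp1).mp h2
      omega
    -- then `L = E`
    have hq1 : Nat.card (L ⧸ E) = 1 := by
      rw [Nat.card_eq_one_iff_unique]
      refine ⟨⟨fun x y => ?_⟩, ⟨1⟩⟩
      have hx := hgb x
      have hy := hgb y
      rw [hg1, QuotientGroup.mk_one, Subgroup.zpowers_one_eq_bot, Subgroup.mem_bot] at hx hy
      rw [hx, hy]
    rw [hq1, one_mul] at hq
    have hLE : Nat.card L = p ^ 2 := by rw [hm, ← hq]
    have htop : E = ⊤ := Subgroup.eq_top_of_card_eq E (by rw [hEcard, hLE])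
    have hnt : Nontrivial L := by
      rw [← Finite.one_lt_card_iff_nontrivial, hLE]
      exact Nat.one_lt_pow (by omega) hp1
    obtain ⟨x, hx⟩ := exists_ne (1 : L)
    have hxp : x ^ p = 1 := (hE x).mp (by rw [htop]; exact Subgroup.mem_top x)
    have hox : orderOf x = p := orderOf_eq_prime hxp hx
    have hidx : (zpowers x).index = p := by
      have h2 := Subgroup.card_mul_index (zpowers x)
      rw [Nat.card_zpowers, hox, hLE, pow_two] at h2
      exact Nat.eq_of_mul_eq_mul_left hp.out.pos h2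
    exact hnc (zpowers x) inferInstance hidx
  · have hi' : i = 1 := by omega
    rw [hi', pow_one] at hi
    rw [hi] at h1
    have hidx : (zpowers g).index = p := by
      have h2 := Subgroup.card_mul_index (zpowers g)
      rw [h1, hm, ← hq] at h2
      have h3 : p * Nat.card (L ⧸ E) * (zpowers g).index = p * Nat.card (L ⧸ E) * p := by
        rw [h2]; ring
      have hpos : 0 < p * Nat.card (L ⧸ E) :=
        Nat.mul_pos hp.out.pos Nat.card_pos
      exact Nat.eq_of_mul_eq_mul_left hpos h3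
    exact hnc (zpowers g) inferInstance hidx

end

/-- The `Ω₁`/`Ω₂` data of a metacyclic `p`-group with no cyclic maximal subgroup. -/
structure OmegaTwo (p : ℕ) (L : Type*) [Group L] (E M : Subgroup L) : Prop where
  memE : ∀ x : L, x ∈ E ↔ x ^ p = 1
  cardE : Nat.card E = p ^ 2
  commE : ∀ x ∈ E, ∀ y ∈ E, x * y = y * x
  memM : ∀ x : L, x ∈ M ↔ x ^ p ∈ E
  cent : ∀ g ∈ M, ∀ e ∈ E, g * e = e * g
  pow_mul : ∀ u ∈ M, ∀ v ∈ M, (u * v) ^ p = u ^ p * v ^ p
  surj : ∀ e ∈ E, ∃ g ∈ M, g ^ p = e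

section

variable {L : Type*} [Group L] [Finite L] {p : ℕ} [hp : Fact p.Prime]

theorem exists_omegaTwo (hp2 : p ≠ 2) {m : ℕ} (hm : Nat.card L = p ^ m) (hm1 : 1 ≤ m)
    (hmc : ∃ (N : Subgroup L) (_ : N.Normal), IsCyclic N ∧ IsCyclic (L ⧸ N))
    (hnc : ∀ C : Subgroup L, IsCyclic C → C.index ≠ p) :
    ∃ E M : Subgroup L, OmegaTwo p L E M := by
  have hp1 := hp.out.one_lt
  have hL : IsPGroup p L := IsPGroup.of_card hm
  have hncyc := not_isCyclic_of_no_cyclic_index hm hm1 hnc
  obtain ⟨E, hE, hEcard, hEcomm⟩ := exists_omega_one hp2 hL hmc hncyc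
  have hEn : E.Normal := normal_of_mem_iff_pow E hE
  have hQnc := quotient_not_isCyclic hm hnc E hE hEcard
  have hQmc := metacyclic_of_surjective (QuotientGroup.mk' E) (QuotientGroup.mk'_surjective E) hmc
  have hQp : IsPGroup p (L ⧸ E) := hL.to_quotient E
  obtain ⟨A, hA, hAcard, hAcomm⟩ := exists_omega_one hp2 hQp hQmc hQnc
  obtain ⟨M, hM⟩ : ∃ M : Subgroup L, M = A.comap (QuotientGroup.mk' E) := ⟨_, rfl⟩
  have hMmem : ∀ x : L, x ∈ M ↔ x ^ p ∈ E := by
    intro x
    rw [hM, Subgroup.mem_comap, hA, QuotientGroup.mk'_apply, ← QuotientGroup.mk_pow,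
      QuotientGroup.eq_one_iff]
  have hEM : E ≤ M := by
    intro e he
    rw [hMmem, (hE e).mp he]
    exact E.one_mem
  -- the central subgroup `E ⊓ N`
  obtain ⟨N, hN, hNc, hLNc⟩ := hmc
  have hKc : ∀ c : L, c ∈ E → c ∈ N → c ∈ center L := by
    intro c hcE hcN
    have hKn : (E ⊓ N).Normal := inferInstance
    have hKle : Nat.card (E ⊓ N : Subgroup L) ≤ p := by
      have : IsCyclic (E ⊓ N : Subgroup L) :=
        isCyclic_of_injective (Subgroup.inclusion (inf_le_right : E ⊓ N ≤ N))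
          (Subgroup.inclusion_injective _)
      apply card_le_of_isCyclic_of_pow_eq_one hp.out.pos
      intro x
      apply Subtype.ext
      have := (hE x.1).mp x.2.1
      simpa using this
    have hKdvd : Nat.card (E ⊓ N : Subgroup L) ∣ p ^ 2 := by
      rw [← hEcard]; exact Subgroup.card_dvd_of_le inf_le_left
    obtain ⟨i, -, hi⟩ := (Nat.dvd_prime_pow hp.out).mp hKdvd
    have hi1 : i ≤ 1 := by
      rw [hi] at hKle
      by_contra hlt
      push Not at hlt
      have h2 : p ^ 2 ≤ p ^ i := Nat.pow_le_pow_right hp.out.pos hlt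
      have h3 : p < p ^ 2 := by nlinarith [hp.out.two_le]
      omega
    rcases Nat.eq_zero_or_pos i with rfl | hipos
    · rw [pow_zero] at hi
      have hbot : E ⊓ N = ⊥ := Subgroup.card_eq_one.mp hi
      have : c ∈ E ⊓ N := ⟨hcE, hcN⟩
      rw [hbot, Subgroup.mem_bot] at this
      rw [this]; exact Subgroup.one_mem _
    · have hi' : i = 1 := by omega
      rw [hi', pow_one] at hi
      exact le_center_of_normal_of_card_prime hm (E ⊓ N) hi ⟨hcE, hcN⟩
  -- commutators of elements of `M`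
  have hcomm : ∀ u ∈ M, ∀ v ∈ M, v⁻¹ * u⁻¹ * v * u ∈ center L ∧ (v⁻¹ * u⁻¹ * v * u) ^ p = 1 := by
    intro u hu v hv
    have hcE : v⁻¹ * u⁻¹ * v * u ∈ E := by
      rw [← QuotientGroup.eq_one_iff]
      rw [hM, Subgroup.mem_comap] at hu hv
      have h1 := hAcomm _ hu _ hv
      simp only [QuotientGroup.mk'_apply] at h1
      rw [QuotientGroup.mk_mul, QuotientGroup.mk_mul, QuotientGroup.mk_mul, QuotientGroup.mk_inv,
        QuotientGroup.mk_inv, mul_assoc, mul_assoc, ← h1]
      group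
    have hcN : v⁻¹ * u⁻¹ * v * u ∈ N := by
      rw [← QuotientGroup.eq_one_iff]
      obtain ⟨gen, hgen⟩ := hLNc.exists_generator
      obtain ⟨a, ha⟩ := Subgroup.mem_zpowers_iff.mp (hgen (QuotientGroup.mk u))
      obtain ⟨b, hb⟩ := Subgroup.mem_zpowers_iff.mp (hgen (QuotientGroup.mk v))
      rw [QuotientGroup.mk_mul, QuotientGroup.mk_mul, QuotientGroup.mk_mul, QuotientGroup.mk_inv,
        QuotientGroup.mk_inv, ← ha, ← hb, ← zpow_neg, ← zpow_neg, ← zpow_add, ← zpow_add,
        ← zpow_add]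
      have : -b + -a + b + a = 0 := by ring
      rw [this, zpow_zero]
    exact ⟨hKc _ hcE hcN, (hE _).mp hcE⟩
  have hpm : ∀ u ∈ M, ∀ v ∈ M, (u * v) ^ p = u ^ p * v ^ p := by
    intro u hu v hv
    obtain ⟨hc, hcp⟩ := hcomm u hu v hv
    rw [Subgroup.mem_center_iff] at hc
    exact mul_pow_prime_of_central hp2 u v (v⁻¹ * u⁻¹ * v * u) (by group) (hc u).symm (hc v).symm hcp
  -- the power homomorphism
  let π : M →* E :=
    { toFun := fun g => ⟨(g : L) ^ p, (hMmem g).mp g.2⟩
      map_one' := by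
        apply Subtype.ext
        simp
      map_mul' := by
        intro g h
        apply Subtype.ext
        exact hpm g g.2 h h.2 }
  have hMcard : Nat.card M = p ^ 2 * Nat.card E := by
    have h1 : M.index = A.index := by
      rw [hM]
      exact Subgroup.index_comap_of_surjective _ (QuotientGroup.mk'_surjective _)
    have h2 := Subgroup.card_mul_index M
    have h3 := Subgroup.card_mul_index A
    have h4 := Subgroup.card_eq_card_quotient_mul_card_subgroup E
    rw [h1, h4, ← h3, hAcard] at h2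
    have hidx : 0 < A.index := by
      rcases Nat.eq_zero_or_pos A.index with h | h
      · rw [h, mul_zero] at h3
        have : 0 < Nat.card (L ⧸ E) := Nat.card_pos
        omega
      · exact h
    apply Nat.eq_of_mul_eq_mul_right hidx
    rw [h2]; ring
  have hker : Nat.card π.ker = Nat.card E := by
    apply Nat.card_congr
    refine ⟨fun g => ⟨((g : M) : L), (hE _).mpr (congrArg Subtype.val (show π (g : M) = 1 from g.2))⟩,
      fun e => ⟨⟨(e : L), hEM e.2⟩, ?_⟩, ?_, ?_⟩
    · rw [MonoidHom.mem_ker]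
      apply Subtype.ext
      exact (hE _).mp e.2
    · intro g; rfl
    · intro e; rfl
  have hrange : π.range = ⊤ := by
    apply Subgroup.eq_top_of_card_eq
    have h1 := Subgroup.card_eq_card_quotient_mul_card_subgroup π.ker
    rw [Nat.card_congr (QuotientGroup.quotientKerEquivRange π).toEquiv, hMcard, hker, hEcard] at h1
    have : Nat.card π.range = p ^ 2 :=
      (Nat.eq_of_mul_eq_mul_right (pow_pos hp.out.pos 2) h1).symm
    rw [this, hEcard]
  have hsurj : ∀ e ∈ E, ∃ g ∈ M, g ^ p = e := by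
    intro e he
    have : (⟨e, he⟩ : E) ∈ π.range := by rw [hrange]; exact Subgroup.mem_top _
    obtain ⟨g, hg⟩ := this
    exact ⟨g, g.2, congrArg Subtype.val hg⟩
  refine ⟨E, M, hE, hEcard, hEcomm, hMmem, ?_, hpm, hsurj⟩
  intro g hg e he
  obtain ⟨h, hh, rfl⟩ := hsurj e he
  obtain ⟨hc, hcp⟩ := hcomm g hg h hh
  rw [Subgroup.mem_center_iff] at hc
  have h1 := pow_mul_comm_of_central g h (h⁻¹ * g⁻¹ * h * g) (by group) (hc h).symm p
  rw [hcp, mul_one] at h1
  exact h1.symm

end

end Cfsg.Agent.Lib.helper65
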