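import Mathlib
import Cfsg.Agent.Lib.helper65.MetaOmegaTwo

/-!
# Automorphisms of order `p` of metacyclic `p`-groups without cyclic maximal subgroups (helper65)

* `fixed_of_moving`: if an automorphism `a` of order `p` moves an element of order `p`, then `p = 3`
  and the fixed points of `a` form a subgroup of order `p`.
* `omega_le_center_of_card_commutator_le`: if `|L'| ≤ p` then `Ω₁(L) ≤ Z(L)`.
* `exists_two_char_of_lt_card_commutator`: if `|L'| > p` then `L` has two distinct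
  automorphism-invariant subgroups of order `p²`.
-/

set_option autoImplicit false

namespace Cfsg.Agent.Lib.helper65

open Subgroup

open scoped commutatorElement

section

variable {L : Type*} [Group L] [Finite L] {p : ℕ} [hp : Fact p.Prime]

/-- A `p`-power-order automorphism of a nontrivial `p`-group fixes an element of order `p`. -/
theorem exists_fixed_of_orderOf {m : ℕ} (hm : Nat.card L = p ^ m) (hm1 : 1 ≤ m)
    (a : MulAut L) (ha : orderOf a = p) : ∃ y : L, orderOf y = p ∧ a y = y := by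
  have hp1 := hp.out.one_lt
  have hP : IsPGroup p (zpowers a) := by
    apply IsPGroup.of_card (n := 1)
    rw [Nat.card_zpowers, ha, pow_one]
  have h1 := hP.card_modEq_card_fixedPoints L
  have hfix : ∀ x : L, x ∈ MulAction.fixedPoints (zpowers a) L ↔ a x = x := by
    intro x
    constructor
    · intro h
      exact h ⟨a, Subgroup.mem_zpowers a⟩
    · intro h g
      obtain ⟨k, hk⟩ := Subgroup.mem_zpowers_iff.mp g.2
      have hk' : ∀ k : ℤ, (a ^ k) x = x := by
        intro k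
        induction k using Int.induction_on with
        | zero => simp
        | succ i ih =>
          rw [zpow_add_one, MulAut.mul_apply, h, ih]
        | pred i ih =>
          rw [zpow_sub_one, MulAut.mul_apply]
          have : a⁻¹ x = x := by
            rw [MulAut.inv_apply, MulEquiv.symm_apply_eq, h]
          rw [this, ih]
      show ((g : MulAut L)) x = x
      rw [← hk]; exact hk' k
  have h2 : p ∣ Nat.card (MulAction.fixedPoints (zpowers a) L) := by
    have h3 : Nat.card L ≡ 0 [MOD p] := by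
      rw [hm, Nat.modEq_zero_iff_dvd]
      exact dvd_pow_self p (by omega)
    exact (Nat.modEq_zero_iff_dvd).mp (h1.symm.trans h3)
  have h3 : 1 < Nat.card (MulAction.fixedPoints (zpowers a) L) := by
    have hpos : 0 < Nat.card (MulAction.fixedPoints (zpowers a) L) := by
      haveI : Nonempty (MulAction.fixedPoints (zpowers a) L) := ⟨⟨1, (hfix 1).mpr (map_one a)⟩⟩
      exact Nat.card_pos
    have := Nat.le_of_dvd hpos h2
    omega
  have hnt : Nontrivial (MulAction.fixedPoints (zpowers a) L) :=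
    Finite.one_lt_card_iff_nontrivial.mp h3
  obtain ⟨⟨g, hg⟩, hg1⟩ := exists_ne (⟨1, (hfix 1).mpr (map_one a)⟩ : MulAction.fixedPoints (zpowers a) L)
  have hg1' : g ≠ 1 := fun h => hg1 (Subtype.ext h)
  have hag : a g = g := (hfix g).mp hg
  obtain ⟨j, hj⟩ := (IsPGroup.iff_orderOf.mp (IsPGroup.of_card hm)) g
  have hj1 : j ≠ 0 := by
    rintro rfl
    rw [pow_zero, orderOf_eq_one_iff] at hj
    exact hg1' hj
  refine ⟨g ^ p ^ (j - 1), ?_, by rw [map_pow, hag]⟩
  rw [orderOf_pow_of_dvd (pow_pos hp.out.pos _).ne' (by rw [hj]; exact pow_dvd_pow p (by omega)), hj]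
  have : p ^ j = p ^ (j - 1) * p := by rw [← pow_succ]; congr 1; omega
  rw [this, Nat.mul_div_cancel_left _ (pow_pos hp.out.pos _)]

/-- If an automorphism `a` of order `p` of a metacyclic `p`-group without cyclic maximal subgroups
(`p` odd) moves an element of order `p`, then `p = 3` and the fixed points of `a` form a cyclic
group of order `p`. -/
theorem fixed_of_moving (hp2 : p ≠ 2) {m : ℕ} (hm : Nat.card L = p ^ m)
    (hmc : ∃ (N : Subgroup L) (_ : N.Normal), IsCyclic N ∧ IsCyclic (L ⧸ N))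
    (hnc : ∀ C : Subgroup L, IsCyclic C → C.index ≠ p)
    (a : MulAut L) (ha : orderOf a = p) (x₀ : L) (hx₀ : orderOf x₀ = p) (hax₀ : a x₀ ≠ x₀) :
    p = 3 ∧ ∃ z : L, orderOf z = p ∧ a z = z ∧ ∀ g : L, a g = g → g ∈ zpowers z := by
  have hp1 := hp.out.one_lt
  have hppos := hp.out.pos
  have hm1 : 1 ≤ m := by
    by_contra h
    have h0 : m = 0 := by omega
    rw [h0, pow_zero] at hm
    have : Subsingleton L := (Nat.card_eq_one_iff_unique.mp hm).1
    exact hax₀ (Subsingleton.elim _ _)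
  obtain ⟨E, M, D⟩ := exists_omegaTwo hp2 hm hm1 hmc hnc
  have hap : a ^ p = 1 := by rw [← ha]; exact pow_orderOf_eq_one a
  have haE : ∀ e ∈ E, a e ∈ E := by
    intro e he
    rw [D.memE, ← map_pow, (D.memE e).mp he, map_one]
  have haM : ∀ g ∈ M, a g ∈ M := by
    intro g hg
    rw [D.memM, ← map_pow]
    exact haE _ ((D.memM g).mp hg)
  have hEM : E ≤ M := by
    intro e he
    rw [D.memM, (D.memE e).mp he]; exact E.one_mem
  let n : E →* E :=
    { toFun := fun e => ⟨(e : L)⁻¹ * a (e : L), E.mul_mem (E.inv_mem e.2) (haE _ e.2)⟩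
      map_one' := by apply Subtype.ext; simp
      map_mul' := by
        intro e e'
        apply Subtype.ext
        show ((e : L) * (e' : L))⁻¹ * a ((e : L) * (e' : L)) =
          ((e : L)⁻¹ * a (e : L)) * ((e' : L)⁻¹ * a (e' : L))
        rw [map_mul, mul_inv_rev]
        have h1 := D.commE _ (E.inv_mem e'.2) _ (E.mul_mem (E.inv_mem e.2) (haE _ e.2))
        calc (e' : L)⁻¹ * (e : L)⁻¹ * (a (e : L) * a (e' : L))
            = ((e' : L)⁻¹ * ((e : L)⁻¹ * a (e : L))) * a (e' : L) := by group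
          _ = (((e : L)⁻¹ * a (e : L)) * (e' : L)⁻¹) * a (e' : L) := by rw [h1]
          _ = ((e : L)⁻¹ * a (e : L)) * ((e' : L)⁻¹ * a (e' : L)) := by group }
  have hn : ∀ e : E, ((n e : E) : L) = (e : L)⁻¹ * a (e : L) := fun e => rfl
  -- the basic elements
  have hx₀p : x₀ ^ p = 1 := by rw [← hx₀]; exact pow_orderOf_eq_one x₀
  have hx₀E : x₀ ∈ E := (D.memE x₀).mpr hx₀p
  obtain ⟨z₁, hz₁⟩ : ∃ z₁ : L, z₁ = x₀⁻¹ * a x₀ := ⟨_, rfl⟩
  have hz₁E : z₁ ∈ E := by rw [hz₁]; exact E.mul_mem (E.inv_mem hx₀E) (haE _ hx₀E)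
  have hz₁1 : z₁ ≠ 1 := by
    intro h
    rw [hz₁, inv_mul_eq_one] at h
    exact hax₀ h.symm
  have hz₁p : z₁ ^ p = 1 := (D.memE z₁).mp hz₁E
  have hoz₁ : orderOf z₁ = p := orderOf_eq_prime hz₁p hz₁1
  -- a fixed element of order `p`
  obtain ⟨y, hoy, hay⟩ := exists_fixed_of_orderOf hm hm1 a ha
  have hyE : y ∈ E := (D.memE y).mpr (by rw [← hoy]; exact pow_orderOf_eq_one y)
  have hy1 : y ≠ 1 := by
    intro h
    rw [h, orderOf_one] at hoy
    omega
  -- cardinalities of kernel and range of `n`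
  have hcards := Subgroup.card_eq_card_quotient_mul_card_subgroup n.ker
  rw [Nat.card_congr (QuotientGroup.quotientKerEquivRange n).toEquiv, D.cardE] at hcards
  have hker1 : Nat.card n.ker ≠ 1 := by
    intro h
    have hbot : n.ker = ⊥ := Subgroup.card_eq_one.mp h
    have hmem : (⟨y, hyE⟩ : E) ∈ n.ker := by
      rw [MonoidHom.mem_ker]
      apply Subtype.ext
      rw [hn]
      show y⁻¹ * a y = 1
      rw [hay, inv_mul_cancel]
    rw [hbot, Subgroup.mem_bot] at hmem
    exact hy1 (congrArg Subtype.val hmem)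
  have hrange1 : Nat.card n.range ≠ 1 := by
    intro h
    have hbot : n.range = ⊥ := Subgroup.card_eq_one.mp h
    have hmem : n ⟨x₀, hx₀E⟩ ∈ n.range := ⟨_, rfl⟩
    rw [hbot, Subgroup.mem_bot] at hmem
    have := congrArg Subtype.val hmem
    rw [hn] at this
    exact hz₁1 (by rw [hz₁]; exact this)
  have hkr : Nat.card n.range = p ∧ Nat.card n.ker = p := by
    have h1 : Nat.card n.range ∣ p ^ 2 := ⟨_, hcards⟩
    have h2 : Nat.card n.ker ∣ p ^ 2 := ⟨_, by rw [hcards, mul_comm]⟩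
    obtain ⟨i, hi2, hi⟩ := (Nat.dvd_prime_pow hp.out).mp h1
    obtain ⟨j, hj2, hj⟩ := (Nat.dvd_prime_pow hp.out).mp h2
    rw [hi, hj, ← pow_add] at hcards
    have hij : 2 = i + j := Nat.pow_right_injective hp.out.two_le hcards
    have hi0 : i ≠ 0 := by
      rintro rfl
      exact hrange1 (by rw [hi, pow_zero])
    have hj0 : j ≠ 0 := by
      rintro rfl
      exact hker1 (by rw [hj, pow_zero])
    have hi1 : i = 1 := by omega
    have hj1 : j = 1 := by omega
    rw [hi, hj, hi1, hj1, pow_one]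
    exact ⟨rfl, rfl⟩
  obtain ⟨z1E, hz1E⟩ : ∃ z1E : E, z1E = ⟨z₁, hz₁E⟩ := ⟨_, rfl⟩
  have hz1Eo : orderOf z1E = p := by
    apply orderOf_eq_prime
    · apply Subtype.ext
      rw [hz1E]
      exact hz₁p
    · intro h
      rw [hz1E] at h
      exact hz₁1 (congrArg Subtype.val h)
  have hz1En : n ⟨x₀, hx₀E⟩ = z1E := by
    apply Subtype.ext
    rw [hn, hz1E]
    exact hz₁.symm
  have hrange : zpowers z1E = n.range := by
    apply Subgroup.eq_of_le_of_card_ge
    · rw [Subgroup.zpowers_le, ← hz1En]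
      exact ⟨_, rfl⟩
    · rw [Nat.card_zpowers, hz1Eo, hkr.1]
  have hcoe : ∀ k : ℤ, ((z1E ^ k : E) : L) = z₁ ^ k := by
    intro k
    rw [hz1E]
    rfl
  have hstar : ∀ e ∈ E, e⁻¹ * a e ∈ zpowers z₁ := by
    intro e he
    have h1 : n ⟨e, he⟩ ∈ zpowers z1E := by rw [hrange]; exact ⟨_, rfl⟩
    obtain ⟨k, hk⟩ := Subgroup.mem_zpowers_iff.mp h1
    have h2 := congrArg Subtype.val hk
    rw [hcoe, hn] at h2
    exact Subgroup.mem_zpowers_iff.mpr ⟨k, h2⟩
  -- `a` fixes `z₁`
  have haz₁ : a z₁ = z₁ := by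
    have h1 : a z₁ ∈ zpowers z₁ := by
      have h2 := hstar z₁ hz₁E
      have h3 : a z₁ = z₁ * (z₁⁻¹ * a z₁) := by group
      rw [h3]
      exact Subgroup.mul_mem _ (Subgroup.mem_zpowers z₁) h2
    have hfin : IsOfFinOrder z₁ := isOfFinOrder_of_finite z₁
    obtain ⟨j, hj⟩ := (hfin.mem_powers_iff_mem_zpowers).mpr h1
    have hj' : z₁ ^ j = a z₁ := hj
    have hk : ∀ k : ℕ, (a ^ k) z₁ = z₁ ^ (j ^ k) := by
      intro k
      induction k with
      | zero => simp
      | succ k ih =>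
        rw [pow_succ', MulAut.mul_apply, ih, map_pow, ← hj', ← pow_mul, pow_succ']
    have h4 := hk p
    rw [hap, MulAut.one_apply] at h4
    have h5 : z₁ ^ (j ^ p) = z₁ ^ 1 := by rw [pow_one]; exact h4.symm
    rw [pow_eq_pow_iff_modEq, hoz₁] at h5
    have h6 : ((j : ZMod p)) ^ p = 1 := by
      have := (ZMod.natCast_eq_natCast_iff (j ^ p) 1 p).mpr h5
      simpa using this
    rw [ZMod.pow_card] at h6
    have h7 : j ≡ 1 [MOD p] := by
      rw [← ZMod.natCast_eq_natCast_iff]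
      simpa using h6
    have h8 : z₁ ^ j = z₁ ^ 1 := by
      rw [pow_eq_pow_iff_modEq, hoz₁]; exact h7
    rw [← hj', h8, pow_one]
  have hfixz : ∀ w ∈ zpowers z₁, a w = w := by
    intro w hw
    obtain ⟨k, rfl⟩ := Subgroup.mem_zpowers_iff.mp hw
    rw [map_zpow, haz₁]
  have hzE : zpowers z₁ ≤ E := by
    rw [Subgroup.zpowers_le]; exact hz₁E
  -- the elements `g₂`, `g₁`, `e₁`, `f`
  obtain ⟨g₂, hg₂M, hg₂⟩ := D.surj x₀ hx₀E
  obtain ⟨g₁, hg₁⟩ : ∃ g₁ : L, g₁ = g₂⁻¹ * a g₂ := ⟨_, rfl⟩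
  have hg₁M : g₁ ∈ M := by rw [hg₁]; exact M.mul_mem (M.inv_mem hg₂M) (haM _ hg₂M)
  have hg₁p : g₁ ^ p = z₁ := by
    rw [hg₁, D.pow_mul _ (M.inv_mem hg₂M) _ (haM _ hg₂M), inv_pow, ← map_pow, hg₂, hz₁]
  have hag₂ : a g₂ = g₂ * g₁ := by rw [hg₁]; group
  obtain ⟨e₁, he₁⟩ : ∃ e₁ : L, e₁ = g₁⁻¹ * a g₁ := ⟨_, rfl⟩
  have he₁p : e₁ ^ p = 1 := by
    rw [he₁, D.pow_mul _ (M.inv_mem hg₁M) _ (haM _ hg₁M), inv_pow, ← map_pow, hg₁p, haz₁,
      inv_mul_cancel]
  have he₁E : e₁ ∈ E := (D.memE e₁).mpr he₁p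
  have hag₁ : a g₁ = g₁ * e₁ := by rw [he₁]; group
  obtain ⟨f, hf⟩ : ∃ f : L, f = e₁⁻¹ * a e₁ := ⟨_, rfl⟩
  have hfz : f ∈ zpowers z₁ := by rw [hf]; exact hstar e₁ he₁E
  have hfE : f ∈ E := hzE hfz
  have haf : a f = f := hfixz f hfz
  have hae₁ : a e₁ = e₁ * f := by rw [hf]; group
  have hfp : f ^ p = 1 := (D.memE f).mp hfE
  have hcg₁e₁ : Commute g₁ e₁ := D.cent g₁ hg₁M e₁ he₁E
  have hce₁f : Commute e₁ f := D.commE e₁ he₁E f hfE
  have hformula : ∀ k : ℕ, (a ^ k) g₂ = g₂ * g₁ ^ k * e₁ ^ (k.choose 2) * f ^ (k.choose 3) := by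
    intro k
    induction k with
    | zero => simp
    | succ k ih =>
      have hc2 : (k + 1).choose 2 = k + k.choose 2 := by
        rw [Nat.choose_succ_succ', Nat.choose_one_right]
      have hc3 : (k + 1).choose 3 = k.choose 2 + k.choose 3 := Nat.choose_succ_succ' k 2
      rw [pow_succ', MulAut.mul_apply, ih, map_mul, map_mul, map_mul, map_pow, map_pow, map_pow,
        hag₂, hag₁, hae₁, haf, hcg₁e₁.mul_pow, hce₁f.mul_pow, hc2, hc3]
      rw [pow_add e₁, pow_add f, pow_succ' g₁]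
      simp only [mul_assoc]
  have hkey : z₁ * f ^ (p.choose 3) = 1 := by
    have h1 := hformula p
    rw [hap, MulAut.one_apply, hg₁p] at h1
    obtain ⟨c, hc⟩ := prime_dvd_choose_two (p := p) hp2
    rw [hc, pow_mul, he₁p, one_pow, mul_one, mul_assoc] at h1
    exact (mul_eq_left.mp h1.symm)
  have hp3 : p = 3 := by
    by_contra hne
    have h3 : 3 < p := by
      have := hp.out.two_le
      omega
    obtain ⟨c, hc⟩ := hp.out.dvd_choose_self (by norm_num : (3 : ℕ) ≠ 0) h3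
    rw [hc, pow_mul, hfp, one_pow, mul_one] at hkey
    exact hz₁1 hkey
  have hfz₁ : f = z₁⁻¹ := by
    have h1 : p.choose 3 = 1 := by rw [hp3]; rfl
    rw [h1, pow_one] at hkey
    exact (inv_eq_of_mul_eq_one_right hkey).symm
  refine ⟨hp3, z₁, hoz₁, haz₁, ?_⟩
  -- fixed points in `E`
  have hfixE : ∀ e ∈ E, a e = e → e ∈ zpowers z₁ := by
    intro e he hae
    have hkereq : zpowers z1E = n.ker := by
      apply Subgroup.eq_of_le_of_card_ge
      · rw [Subgroup.zpowers_le, MonoidHom.mem_ker]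
        apply Subtype.ext
        rw [hn, hz1E]
        show z₁⁻¹ * a z₁ = 1
        rw [haz₁, inv_mul_cancel]
      · rw [Nat.card_zpowers, hz1Eo, hkr.2]
    have h1 : (⟨e, he⟩ : E) ∈ zpowers z1E := by
      rw [hkereq, MonoidHom.mem_ker]
      apply Subtype.ext
      rw [hn]
      show e⁻¹ * a e = 1
      rw [hae, inv_mul_cancel]
    obtain ⟨k, hk⟩ := Subgroup.mem_zpowers_iff.mp h1
    have h2 := congrArg Subtype.val hk
    rw [hcoe] at h2
    exact Subgroup.mem_zpowers_iff.mpr ⟨k, h2⟩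
  intro g hag
  by_contra hgz
  have hgp : g ^ p ≠ 1 := fun h => hgz (hfixE g ((D.memE g).mpr h) hag)
  obtain ⟨j, hj⟩ := (IsPGroup.iff_orderOf.mp (IsPGroup.of_card hm)) g
  have hj2 : 2 ≤ j := by
    by_contra hlt
    push Not at hlt
    apply hgp
    have : orderOf g ∣ p := by
      rw [hj]
      exact pow_dvd_pow p (by omega : j ≤ 1) |>.trans (by rw [pow_one])
    exact orderOf_dvd_iff_pow_eq_one.mp this
  obtain ⟨h, hh⟩ : ∃ h : L, h = g ^ p ^ (j - 2) := ⟨_, rfl⟩
  have hoh : orderOf h = p ^ 2 := by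
    rw [hh, orderOf_pow_of_dvd (pow_pos hppos _).ne' (by rw [hj]; exact pow_dvd_pow p (by omega)), hj]
    have : p ^ j = p ^ (j - 2) * p ^ 2 := by rw [← pow_add]; congr 1; omega
    rw [this, Nat.mul_div_cancel_left _ (pow_pos hppos _)]
  have hah : a h = h := by rw [hh, map_pow, hag]
  have hhp1 : h ^ p ≠ 1 := by
    intro h1
    have h2 := orderOf_dvd_of_pow_eq_one h1
    rw [hoh] at h2
    have h3 := Nat.le_of_dvd hppos h2
    have h4 : p < p ^ 2 := by nlinarith
    omega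
  have hhpE : h ^ p ∈ E := by
    rw [D.memE, ← pow_mul, ← pow_two, ← hoh]
    exact pow_orderOf_eq_one h
  have hhM : h ∈ M := (D.memM h).mpr hhpE
  have hhpz : h ^ p ∈ zpowers z₁ := hfixE _ hhpE (by rw [map_pow, hah])
  have hfin : IsOfFinOrder z₁ := isOfFinOrder_of_finite z₁
  obtain ⟨i, hi⟩ := (hfin.mem_powers_iff_mem_zpowers).mpr hhpz
  have hi' : z₁ ^ i = h ^ p := hi
  obtain ⟨e, he⟩ : ∃ e : L, e = (g₁ ^ i)⁻¹ * h := ⟨_, rfl⟩
  have hg₁iM : g₁ ^ i ∈ M := M.pow_mem hg₁M i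
  have hep : e ^ p = 1 := by
    rw [he, D.pow_mul _ (M.inv_mem hg₁iM) _ hhM, inv_pow, ← pow_mul, mul_comm i p, pow_mul, hg₁p,
      hi', inv_mul_cancel]
  have heE : e ∈ E := (D.memE e).mpr hep
  have hhe : h = g₁ ^ i * e := by rw [he]; group
  have h1 : e₁ ^ i * a e = e := by
    have h2 : a h = g₁ ^ i * (e₁ ^ i * a e) := by
      rw [hhe, map_mul, map_pow, hag₁, hcg₁e₁.mul_pow, mul_assoc]
    rw [hah] at h2
    nth_rewrite 1 [hhe] at h2
    exact (mul_left_cancel h2).symm
  have h3 : e₁ ^ i ∈ zpowers z₁ := by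
    have h4 : e₁ ^ i = (e⁻¹ * a e)⁻¹ := by
      rw [mul_inv_rev, inv_inv, D.commE _ (E.inv_mem (haE e heE)) e heE]
      exact eq_mul_inv_of_mul_eq h1
    rw [h4]
    exact Subgroup.inv_mem _ (hstar e heE)
  have h5 : a (e₁ ^ i) = e₁ ^ i := hfixz _ h3
  rw [map_pow, hae₁, hce₁f.mul_pow] at h5
  have h6 : f ^ i = 1 := mul_eq_left.mp h5
  rw [hfz₁, inv_pow, inv_eq_one, hi'] at h6
  exact hhp1 h6

omit [Finite L] hp in
theorem commutator_le_of_cyclic_quotient (N : Subgroup L) [N.Normal] (hc : IsCyclic (L ⧸ N)) :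
    commutator L ≤ N := by
  rw [_root_.commutator_def, Subgroup.commutator_le]
  intro u _ v _
  rw [← QuotientGroup.eq_one_iff]
  obtain ⟨gen, hgen⟩ := hc.exists_generator
  obtain ⟨a, ha⟩ := Subgroup.mem_zpowers_iff.mp (hgen (QuotientGroup.mk u))
  obtain ⟨b, hb⟩ := Subgroup.mem_zpowers_iff.mp (hgen (QuotientGroup.mk v))
  rw [commutatorElement_def, QuotientGroup.mk_mul, QuotientGroup.mk_mul, QuotientGroup.mk_mul,
    QuotientGroup.mk_inv, QuotientGroup.mk_inv, ← ha, ← hb, ← zpow_neg, ← zpow_neg, ← zpow_add,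
    ← zpow_add, ← zpow_add]
  have : a + b + -a + -b = 0 := by ring
  rw [this, zpow_zero]

/-- If `|L'| ≤ p` then `Ω₁(L)` is central. -/
theorem omega_le_center_of_card_commutator_le (hp2 : p ≠ 2) {m : ℕ} (hm : Nat.card L = p ^ m)
    (hm1 : 1 ≤ m)
    (hmc : ∃ (N : Subgroup L) (_ : N.Normal), IsCyclic N ∧ IsCyclic (L ⧸ N))
    (hnc : ∀ C : Subgroup L, IsCyclic C → C.index ≠ p)
    (hle : Nat.card (commutator L) ≤ p) :
    ∃ E : Subgroup L, (∀ x : L, x ∈ E ↔ x ^ p = 1) ∧ Nat.card E = p ^ 2 ∧ E ≤ center L := by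
  have hL : IsPGroup p L := IsPGroup.of_card hm
  have hncyc := not_isCyclic_of_no_cyclic_index hm hm1 hnc
  obtain ⟨E, hE, hEcard, hEcomm⟩ := exists_omega_one hp2 hL hmc hncyc
  refine ⟨E, hE, hEcard, ?_⟩
  have hcc : commutator L ≤ center L ∧ ∀ c ∈ commutator L, c ^ p = 1 := by
    obtain ⟨i, -, hi⟩ := exists_card_eq_pow_of_card hm (commutator L)
    have hi1 : i ≤ 1 := by
      rw [hi] at hle
      by_contra hlt
      push Not at hlt
      have h2 : p ^ 2 ≤ p ^ i := Nat.pow_le_pow_right hp.out.pos hlt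
      have h3 : p < p ^ 2 := by nlinarith [hp.out.two_le]
      omega
    rcases Nat.eq_zero_or_pos i with rfl | hipos
    · rw [pow_zero] at hi
      have hbot : commutator L = ⊥ := Subgroup.card_eq_one.mp hi
      rw [hbot]
      exact ⟨bot_le, fun c hc => by rw [Subgroup.mem_bot.mp hc, one_pow]⟩
    · have hi' : i = 1 := by omega
      rw [hi', pow_one] at hi
      refine ⟨le_center_of_normal_of_card_prime hm (commutator L) hi, fun c hc => ?_⟩
      have h1 := pow_card_eq_one' (G := commutator L) (x := ⟨c, hc⟩)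
      rw [hi] at h1
      exact congrArg Subtype.val h1
  have hcomm : ∀ u v : L, v⁻¹ * u⁻¹ * v * u ∈ commutator L := by
    intro u v
    have : v⁻¹ * u⁻¹ * v * u = ⁅v⁻¹, u⁻¹⁆ := by rw [commutatorElement_def]; group
    rw [this, _root_.commutator_def]
    exact Subgroup.commutator_mem_commutator (Subgroup.mem_top _) (Subgroup.mem_top _)
  let π : L →* L :=
    { toFun := fun x => x ^ p
      map_one' := one_pow p
      map_mul' := fun u v => by
        have hc := hcc.1 (hcomm u v)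
        rw [Subgroup.mem_center_iff] at hc
        exact mul_pow_prime_of_central hp2 u v _ (by group) (hc u).symm (hc v).symm
          (hcc.2 _ (hcomm u v)) }
  have hker : ∀ x : L, x ∈ π.ker ↔ x ^ p = 1 := fun x => Iff.rfl
  have hkerE : π.ker = E := by
    ext x
    rw [hker, hE]
  have hrc : π.range ≤ center L := by
    rintro _ ⟨h, rfl⟩
    rw [Subgroup.mem_center_iff]
    intro g
    have hc := hcc.1 (hcomm g h)
    rw [Subgroup.mem_center_iff] at hc
    have h1 := pow_mul_comm_of_central g h _ (by group) (hc h).symm p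
    rw [hcc.2 _ (hcomm g h), mul_one] at h1
    exact h1.symm
  have hER : E ≤ π.range := by
    by_contra hnot
    have hcyc : IsCyclic π.range := by
      by_contra hnc'
      have hRp : IsPGroup p π.range := hL.to_subgroup _
      obtain ⟨A, -, ⟨-, hAp⟩, hAcard⟩ :=
        Cfsg.Agent.Lib.helper55.exists_normal_elemAb_sq hp2 hRp hnc'
      have hAE : A.map π.range.subtype ≤ E := by
        rintro _ ⟨x, hx, rfl⟩
        rw [hE]
        have := hAp x hx
        exact congrArg Subtype.val this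
      have hcardA : Nat.card (A.map π.range.subtype) = p ^ 2 := by
        rw [Subgroup.card_map_of_injective (Subgroup.subtype_injective _), hAcard]
      have heq := Subgroup.eq_of_le_of_card_ge hAE (by rw [hcardA, hEcard])
      apply hnot
      rw [← heq]
      rintro _ ⟨x, -, rfl⟩
      exact x.2
    have hq : IsCyclic (L ⧸ π.ker) :=
      isCyclic_of_surjective (QuotientGroup.quotientKerEquivRange π).symm.toMonoidHom
        (QuotientGroup.quotientKerEquivRange π).symm.surjective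
    exact quotient_not_isCyclic hm hnc π.ker hker (by rw [hkerE, hEcard]) hq
  exact hER.trans hrc

/-- If `|L'| > p` then `L` has two distinct automorphism-invariant subgroups of order `p²`. -/
theorem exists_two_char_of_lt_card_commutator (hp2 : p ≠ 2) {m : ℕ} (hm : Nat.card L = p ^ m)
    (hm1 : 1 ≤ m)
    (hmc : ∃ (N : Subgroup L) (_ : N.Normal), IsCyclic N ∧ IsCyclic (L ⧸ N))
    (hnc : ∀ C : Subgroup L, IsCyclic C → C.index ≠ p)
    (hlt : p < Nat.card (commutator L)) :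
    4 ≤ m ∧ ∃ E C : Subgroup L, Nat.card E = p ^ 2 ∧ Nat.card C = p ^ 2 ∧ E ≠ C ∧
      (∀ (φ : MulAut L), ∀ e ∈ E, φ e ∈ E) ∧ (∀ (φ : MulAut L), ∀ c ∈ C, φ c ∈ C) := by
  have hL : IsPGroup p L := IsPGroup.of_card hm
  have hncyc := not_isCyclic_of_no_cyclic_index hm hm1 hnc
  obtain ⟨E, hE, hEcard, hEcomm⟩ := exists_omega_one hp2 hL hmc hncyc
  obtain ⟨N, hN, hNc, hLNc⟩ := hmc
  have hcN : commutator L ≤ N := commutator_le_of_cyclic_quotient N hLNc
  have hcyc : IsCyclic (commutator L) :=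
    isCyclic_of_injective (Subgroup.inclusion hcN) (Subgroup.inclusion_injective _)
  obtain ⟨c, hcm, hc⟩ := exists_card_eq_pow_of_card hm (commutator L)
  have hc2 : 2 ≤ c := by
    rw [hc] at hlt
    by_contra h
    push Not at h
    have : p ^ c ≤ p ^ 1 := Nat.pow_le_pow_right hp.out.pos (by omega)
    rw [pow_one] at this
    omega
  have hm2 : 2 ≤ m := by omega
  have hm4 : 4 ≤ m := by
    have h1 := Cfsg.Agent.Lib.helper15.MaxClass.sq_dvd_index_commutator hm hm2
    have h2 := Subgroup.card_mul_index (commutator L)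
    rw [hc, hm] at h2
    obtain ⟨d, hd⟩ := h1
    rw [hd, ← mul_assoc, ← pow_add] at h2
    have h3 : p ^ (c + 2) ∣ p ^ m := ⟨d, h2.symm⟩
    have := (Nat.pow_dvd_pow_iff_le_right hp.out.one_lt).mp h3
    omega
  obtain ⟨H₀, hH₀⟩ := Sylow.exists_subgroup_card_pow_prime p (G := commutator L) (n := 2)
    (by rw [hc]; exact pow_dvd_pow p hc2)
  obtain ⟨C, hC⟩ : ∃ C : Subgroup L, C = H₀.map (commutator L).subtype := ⟨_, rfl⟩
  have hCcard : Nat.card C = p ^ 2 := by
    rw [hC, Subgroup.card_map_of_injective (Subgroup.subtype_injective _), hH₀]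
  have hH₀pow : ∀ y ∈ H₀, y ^ p ^ 2 = 1 := by
    intro y hy
    have h1 := pow_card_eq_one' (G := H₀) (x := ⟨y, hy⟩)
    rw [hH₀] at h1
    exact congrArg Subtype.val h1
  have hCmem : ∀ x : L, x ∈ C ↔ x ∈ commutator L ∧ x ^ (p ^ 2) = 1 := by
    intro x
    constructor
    · intro hx
      rw [hC] at hx
      obtain ⟨y, hy, rfl⟩ := hx
      exact ⟨y.2, congrArg Subtype.val (hH₀pow y hy)⟩
    · rintro ⟨hx1, hx2⟩
      have := mem_of_pow_eq_one_of_card_ge (α := commutator L) (p := p ^ 2)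
        (pow_pos hp.out.pos 2) H₀ hH₀.ge hH₀pow ⟨x, hx1⟩ (Subtype.ext hx2)
      rw [hC]
      exact ⟨⟨x, hx1⟩, this, rfl⟩
  refine ⟨hm4, E, C, hEcard, hCcard, ?_, ?_, ?_⟩
  · intro heq
    have hH₀c : IsCyclic H₀ := Subgroup.isCyclic H₀
    obtain ⟨g, hg⟩ := hH₀c.exists_generator
    have hog : orderOf g = p ^ 2 := by rw [orderOf_eq_card_of_forall_mem_zpowers hg, hH₀]
    have hgC : ((g : commutator L) : L) ∈ C := by rw [hC]; exact ⟨g, g.2, rfl⟩
    rw [← heq, hE] at hgC
    have h1 : g ^ p = 1 := by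
      apply Subtype.ext
      apply Subtype.ext
      exact hgC
    have h2 := orderOf_dvd_of_pow_eq_one h1
    rw [hog] at h2
    have h3 := Nat.le_of_dvd hp.out.pos h2
    have : p < p ^ 2 := by nlinarith [hp.out.two_le]
    omega
  · intro φ e he
    rw [hE, ← map_pow, (hE e).mp he, map_one]
  · intro φ c hc
    rw [hCmem] at hc ⊢
    refine ⟨?_, by rw [← map_pow, hc.2, map_one]⟩
    have hchar : (commutator L).Characteristic := inferInstance
    exact (Subgroup.ext_iff.mp (hchar.fixed φ) c).mpr hc.1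

end

end Cfsg.Agent.Lib.helper65
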