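import Mathlib
import Cfsg.Agent.Lib.helper65.MetaThms

namespace Cfsg.Agent.Lib.helper65

open Subgroup
open scoped commutatorElement

theorem PV.exists_eq {p c v : ℕ} [Fact p.Prime] (h : PV p c v) :
    ∃ c', c = p ^ v * c' ∧ ¬ p ∣ c' := by
  obtain ⟨c', hc'⟩ := (h v).mpr le_rfl
  refine ⟨c', hc', ?_⟩
  rintro ⟨d, rfl⟩
  have : p ^ (v + 1) ∣ c := by
    rw [hc', pow_succ]; exact Dvd.intro d (by ring)
  have := (h (v + 1)).mp this
  omega

namespace MCP

variable {G : Type*} [Group G] [Finite G] {p : ℕ} [hp : Fact p.Prime] {a b : G} {m t l k : ℕ}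

omit [Finite G] in
/-- Solving `u (l^J - 1) ≡ u' (l^(p^f) - 1)` for `u'`. -/
theorem exists_solve (D : MCP p a b m t l k) (f c₀ : ℕ) (hc₀ : p ^ (k + f) ∣ c₀) :
    ∃ u' : ℕ, a ^ c₀ = a ^ (u' * (l ^ p ^ f - 1)) := by
  rcases Nat.eq_zero_or_pos m with rfl | hm
  · have ha1 : a = 1 := by rw [← orderOf_eq_one_iff, D.ha, pow_zero]
    exact ⟨0, by rw [ha1]; simp⟩
  obtain ⟨c', hc', hnd⟩ := (D.pvlp f).exists_eq
  obtain ⟨d, rfl⟩ := hc₀
  have hcop : Nat.Coprime c' (p ^ m) :=
    Nat.Coprime.pow_right _ ((Nat.Prime.coprime_iff_not_dvd hp.out).mpr hnd).symm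
  obtain ⟨c'', -, hc''⟩ := Nat.exists_mul_mod_eq_one_of_coprime hcop
    (Nat.one_lt_pow hm.ne' hp.out.one_lt)
  refine ⟨d * c'', ?_⟩
  rw [hc', pow_eq_pow_iff_modEq, D.ha]
  have h1 : c' * c'' ≡ 1 [MOD p ^ m] := by
    unfold Nat.ModEq
    rw [hc'', Nat.mod_eq_of_lt (Nat.one_lt_pow hm.ne' hp.out.one_lt)]
  have h2 := (h1.mul_left (p ^ (k + f) * d)).symm
  rw [mul_one] at h2
  have e : d * c'' * (p ^ (k + f) * c') = p ^ (k + f) * d * (c' * c'') := by ring
  rw [e]
  exact h2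

/-- For `R ≥ Z(G)`: `|R| |C_G(R)| = |G| |Z(G)|`. -/
theorem card_mul_card_centralizer (D : MCP p a b m t l k) (R : Subgroup G) (hZ : center G ≤ R) :
    Nat.card R * Nat.card (centralizer (R : Set G)) = Nat.card G * Nat.card (center G) := by
  obtain ⟨e, f, u, he, hf, hX, hg, hR, hdiv, hcard⟩ := D.exists_subgroup_data R
  have hN := D.normal_N
  have hnt := D.n_le_t
  obtain ⟨n, hn⟩ : ∃ n, n = m - k := ⟨_, rfl⟩
  have haZ : a ^ p ^ n ∈ center G := by
    rw [D.center_eq, hn]; exact Subgroup.mem_sup_left (Subgroup.mem_zpowers _)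
  have hbZ : b ^ p ^ n ∈ center G := by
    rw [D.center_eq, hn]; exact Subgroup.mem_sup_right (Subgroup.mem_zpowers _)
  have haR : a ^ p ^ e ∈ R :=
    (hX ▸ Subgroup.mem_zpowers (a ^ p ^ e) : a ^ p ^ e ∈ R ⊓ zpowers a).1
  have hen : e ≤ n := by
    have h1 : a ^ p ^ n ∈ R ⊓ zpowers a :=
      Subgroup.mem_inf.mpr ⟨hZ haZ, Subgroup.pow_mem _ (Subgroup.mem_zpowers a) _⟩
    rw [hX, pow_mem_zpowers_prime_pow D.ha he] at h1
    exact (Nat.pow_dvd_pow_iff_le_right hp.out.one_lt).mp h1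
  have hfn : f ≤ n := by
    have h1 : a ^ 0 * b ^ p ^ n ∈ R := by simpa using hZ hbZ
    exact (Nat.pow_dvd_pow_iff_le_right hp.out.one_lt).mp (hdiv 0 _ h1)
  have hu : p ^ (e - (n - f)) ∣ u := by
    have h1 : (a ^ u * b ^ p ^ f) ^ p ^ (n - f) ∈ R := R.pow_mem hg _
    rw [mc_pow D.hconj] at h1
    have h2 : p ^ f * p ^ (n - f) = p ^ n := by rw [← pow_add]; congr 1; omega
    rw [h2] at h1
    have h3 : a ^ (u * ∑ q ∈ Finset.range (p ^ (n - f)), l ^ (p ^ f * q)) ∈ R ⊓ zpowers a := by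
      refine Subgroup.mem_inf.mpr ⟨?_, Subgroup.pow_mem _ (Subgroup.mem_zpowers a) _⟩
      have := R.mul_mem h1 (R.inv_mem (hZ hbZ))
      simpa using this
    rw [hX, pow_mem_zpowers_prime_pow D.ha he, (D.pvgeom (p ^ f) (n - f)).dvd_mul_iff] at h3
    exact h3
  obtain ⟨g, hgdef⟩ : ∃ g, g = a ^ u * b ^ p ^ f := ⟨_, rfl⟩
  rw [← hgdef] at hg hR
  obtain ⟨C, hC⟩ : ∃ C, C = centralizer (R : Set G) := ⟨_, rfl⟩
  rw [← hC]
  have hCmem : ∀ h : G, Commute h (a ^ p ^ e) → Commute h g → h ∈ C := by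
    intro h h1 h2
    rw [hC, Subgroup.mem_centralizer_iff]
    intro r hr
    obtain ⟨i, j, rfl⟩ := hR r hr
    have : Commute h (a ^ (p ^ e * i) * g ^ j) := by
      rw [pow_mul]
      exact (h1.pow_right i).mul_right (h2.pow_right j)
    exact this.eq.symm
  have hCN : C ⊓ zpowers a = zpowers (a ^ p ^ (n - f)) := by
    apply le_antisymm
    · rintro x ⟨hx1, hx2⟩
      obtain ⟨u', rfl⟩ := (D.mem_N x).mp hx2
      rw [hC] at hx1
      have h1 := (Subgroup.mem_centralizer_iff.mp hx1) g hg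
      have h2 := (mc_commute_iff D.hl.le D.hconj u' 0 u (p ^ f)).mp
        (by rw [← hgdef]; simpa using h1.symm)
      simp only [pow_zero, Nat.sub_self, mul_zero] at h2
      rw [eq_comm, D.pow_eq_one_iff, (D.pvlp f).dvd_mul_iff] at h2
      rw [pow_mem_zpowers_prime_pow D.ha (by omega)]
      have : m - (k + f) = n - f := by omega
      rwa [this] at h2
    · apply le_inf
      · rw [Subgroup.zpowers_le]
        apply hCmem
        · exact (Commute.refl a).pow_pow _ _
        · have h1 := (mc_commute_iff D.hl.le D.hconj (p ^ (n - f)) 0 u (p ^ f)).mpr (by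
            simp only [pow_zero, Nat.sub_self, mul_zero]
            rw [eq_comm, D.pow_eq_one_iff, (D.pvlp f).dvd_mul_iff]
            exact pow_dvd_pow p (by omega))
          rw [← hgdef] at h1
          have h1' : a ^ p ^ (n - f) * g = g * a ^ p ^ (n - f) := by simpa using h1
          exact h1'
      · rw [Subgroup.zpowers_le]; exact Subgroup.pow_mem _ (Subgroup.mem_zpowers a) _
  have hCQ : C.map (QuotientGroup.mk' (zpowers a)) =
      zpowers ((QuotientGroup.mk b : G ⧸ zpowers a) ^ p ^ (n - e)) := by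
    apply le_antisymm
    · rintro q ⟨h, hh, rfl⟩
      obtain ⟨u', j, rfl⟩ := D.hgen h
      have hh' : a ^ u' * b ^ j ∈ centralizer (R : Set G) := by rw [← hC]; exact hh
      have h1 := (Subgroup.mem_centralizer_iff.mp hh') (a ^ p ^ e) haR
      have h2 := (mc_commute_iff D.hl.le D.hconj u' j (p ^ e) 0).mp (by simpa using h1.symm)
      simp only [pow_zero, Nat.sub_self, mul_zero] at h2
      rw [D.pow_eq_one_iff, mul_comm, (PV.pow_self p e).dvd_mul_iff, D.lpow_dvd] at h2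
      rw [QuotientGroup.mk'_apply, D.mk_eq, pow_mem_zpowers_prime_pow D.orderOf_mk_b (by omega)]
      have : m - e - k = n - e := by omega
      rwa [this] at h2
    · rw [Subgroup.zpowers_le]
      have hdv : p ^ (k + f) ∣ u * (l ^ p ^ (n - e) - 1) := by
        have h1 : p ^ (k + (n - e)) ∣ l ^ p ^ (n - e) - 1 := ((D.pvlp (n - e)) _).mpr le_rfl
        have h2 : p ^ ((e - (n - f)) + (k + (n - e))) ∣ u * (l ^ p ^ (n - e) - 1) := by
          rw [pow_add]; exact Nat.mul_dvd_mul hu h1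
        exact dvd_trans (pow_dvd_pow p (by omega)) h2
      obtain ⟨u', hu'⟩ := D.exists_solve f _ hdv
      have hmem : a ^ u' * b ^ p ^ (n - e) ∈ C := by
        apply hCmem
        · have h1 := (mc_commute_iff D.hl.le D.hconj u' (p ^ (n - e)) (p ^ e) 0).mpr (by
            simp only [pow_zero, Nat.sub_self, mul_zero]
            rw [D.pow_eq_one_iff, mul_comm, (PV.pow_self p e).dvd_mul_iff]
            exact ((D.pvlp (n - e)) _).mpr (by omega))
          have h1' : a ^ u' * b ^ p ^ (n - e) * a ^ p ^ e = a ^ p ^ e * (a ^ u' * b ^ p ^ (n - e)) := by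
            simpa using h1
          exact h1'
        · have h1 := (mc_commute_iff D.hl.le D.hconj u' (p ^ (n - e)) u (p ^ f)).mpr hu'
          rw [← hgdef] at h1
          exact h1
      have := Subgroup.mem_map_of_mem (QuotientGroup.mk' (zpowers a)) hmem
      rwa [QuotientGroup.mk'_apply, D.mk_eq] at this
  rw [card_eq_card_inf_mul_card_map (zpowers a) C, hCN, hCQ, hcard,
    card_zpowers_prime_pow D.ha (by omega), card_zpowers_prime_pow D.orderOf_mk_b (by omega),
    D.card_G, D.card_center, ← pow_add, ← pow_add, ← pow_add]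
  congr 1; omega

end MCP

end Cfsg.Agent.Lib.helper65
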