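import Mathlib
import Cfsg.Agent.Lib.helper65.MetaCent

namespace Cfsg.Agent.Lib.helper65

open Subgroup
open scoped commutatorElement

namespace MCP

variable {G : Type*} [Group G] [Finite G] {p : ℕ} [hp : Fact p.Prime] {a b : G} {m t l k : ℕ}

theorem index_commutator_sq (D : MCP p a b m t l k) :
    (commutator G).index ^ 2 = Nat.card G * Nat.card (center G) := by
  have hnt := D.n_le_t
  rw [D.index_commutator, D.card_G, D.card_center, ← pow_mul, ← pow_add]
  congr 1; omega

/-- class size = order modulo the centre. -/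
theorem index_centralizer_singleton (D : MCP p a b m t l k) (g : G) :
    (centralizer ({g} : Set G)).index = orderOf (QuotientGroup.mk g : G ⧸ center G) := by
  obtain ⟨R, hR⟩ : ∃ R, R = center G ⊔ zpowers g := ⟨_, rfl⟩
  have hZR : center G ≤ R := hR ▸ le_sup_left
  have hgR : g ∈ R := hR ▸ Subgroup.mem_sup_right (Subgroup.mem_zpowers g)
  have hcent : centralizer (R : Set G) = centralizer ({g} : Set G) := by
    apply le_antisymm
    · exact Subgroup.centralizer_le (by simpa using hgR)
    · rw [Subgroup.le_centralizer_iff, hR]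
      apply sup_le
      · exact Subgroup.center_le_centralizer _
      · rw [Subgroup.zpowers_le, Subgroup.mem_centralizer_iff]
        intro h hh
        exact ((Subgroup.mem_centralizer_iff.mp hh) g (Set.mem_singleton g)).symm
  have h1 := D.card_mul_card_centralizer R hZR
  rw [hcent] at h1
  have hmap : R.map (QuotientGroup.mk' (center G)) = zpowers (QuotientGroup.mk g : G ⧸ center G) := by
    rw [hR, Subgroup.map_sup, MonoidHom.map_zpowers]
    have : (center G).map (QuotientGroup.mk' (center G)) = ⊥ := by
      rw [eq_bot_iff]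
      rintro x ⟨z, hz, rfl⟩
      rw [Subgroup.mem_bot, QuotientGroup.mk'_apply, QuotientGroup.eq_one_iff]
      exact hz
    rw [this, bot_sup_eq]
    rfl
  have hcardR : Nat.card R = Nat.card (center G) * orderOf (QuotientGroup.mk g : G ⧸ center G) := by
    rw [card_eq_card_inf_mul_card_map (center G) R, hmap, Nat.card_zpowers,
      inf_eq_right.mpr hZR]
  rw [hcardR] at h1
  have h2 := Subgroup.card_mul_index (centralizer ({g} : Set G))
  have hpos : 0 < Nat.card (center G) := Nat.card_pos
  have hposC : 0 < Nat.card (centralizer ({g} : Set G)) := Nat.card_pos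
  have h3 : Nat.card (centralizer ({g} : Set G)) * orderOf (QuotientGroup.mk g : G ⧸ center G) =
      Nat.card (centralizer ({g} : Set G)) * (centralizer ({g} : Set G)).index := by
    rw [h2]
    apply Nat.eq_of_mul_eq_mul_left hpos
    calc Nat.card (center G) * (Nat.card (centralizer ({g} : Set G)) * orderOf (QuotientGroup.mk g : G ⧸ center G))
        = Nat.card (center G) * orderOf (QuotientGroup.mk g : G ⧸ center G) * Nat.card (centralizer ({g} : Set G)) := by ring
      _ = Nat.card G * Nat.card (center G) := h1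
      _ = Nat.card (center G) * Nat.card G := by ring
  exact (Nat.eq_of_mul_eq_mul_left hposC h3).symm

omit [Finite G] in
theorem orderOf_mk_center (D : MCP p a b m t l k) (g : G) :
    ∃ j, orderOf (QuotientGroup.mk g : G ⧸ center G) = p ^ j := by
  have h1 : orderOf (QuotientGroup.mk g : G ⧸ center G) ∣ Nat.card (G ⧸ center G) := orderOf_dvd_natCard _
  have h2 : Nat.card (G ⧸ center G) ∣ Nat.card G := by
    rw [← Subgroup.index_eq_card]; exact Subgroup.index_dvd_card _
  rw [D.card_G] at h2
  obtain ⟨j, -, hj⟩ := (Nat.dvd_prime_pow hp.out).mp (dvd_trans h1 h2)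
  exact ⟨j, hj⟩

theorem index_centralizer_le_iff (D : MCP p a b m t l k) {i : ℕ} (hi : i ≤ m - k) (g : G) :
    (centralizer ({g} : Set G)).index ≤ p ^ i ↔ g ∈ mcW p a b (m - k - i) := by
  rw [D.index_centralizer_singleton, ← D.pow_mem_center_iff hi, ← QuotientGroup.eq_one_iff,
    QuotientGroup.mk_pow, ← orderOf_dvd_iff_pow_eq_one]
  obtain ⟨j, hj⟩ := D.orderOf_mk_center g
  rw [hj, Nat.pow_le_pow_iff_right hp.out.one_lt, Nat.pow_dvd_pow_iff_le_right hp.out.one_lt]

theorem index_centralizer_eq_iff (D : MCP p a b m t l k) {i : ℕ} (hi1 : 1 ≤ i) (hi : i ≤ m - k) (g : G) :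
    (centralizer ({g} : Set G)).index = p ^ i ↔
      g ∈ mcW p a b (m - k - i) ∧ g ∉ mcW p a b (m - k - i + 1) := by
  have h1 := D.index_centralizer_le_iff hi g
  have h2 := D.index_centralizer_le_iff (by omega : i - 1 ≤ m - k) g
  have e : m - k - (i - 1) = m - k - i + 1 := by omega
  rw [e] at h2
  rw [← h1, ← h2]
  obtain ⟨j, hj⟩ : ∃ j, (centralizer ({g} : Set G)).index = p ^ j := by
    rw [D.index_centralizer_singleton]; exact D.orderOf_mk_center g
  rw [hj, Nat.pow_le_pow_iff_right hp.out.one_lt, Nat.pow_le_pow_iff_right hp.out.one_lt]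
  constructor
  · intro h
    have := Nat.pow_right_injective hp.out.two_le h
    omega
  · rintro ⟨h3, h4⟩
    congr 1; omega

end MCP

end Cfsg.Agent.Lib.helper65
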