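import Mathlib
import Cfsg.Agent.Lib.helper59.SelfCentCyclic4
import Cfsg.Agent.Lib.helper65.MetaOmega

/-!
# Metacyclic `2`-groups: recognition of the groups of maximal class

* `two_quot_gen`: if `R / N` is cyclic and `v` inverts an element `k` of order `4` of the abelian
  normal subgroup `N`, then every element centralising `k` lies in `N ⟨v²⟩`.
* `maxClass_of_inverting`: if moreover `N` is cyclic and `v² ∈ N`, then `R` is dihedral,
  generalised quaternion or quasi-dihedral.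
-/

set_option autoImplicit false

namespace Cfsg.Agent.Lib.helper65

open Subgroup

section TwoMeta

variable {R : Type*} [Group R]

theorem eq_one_of_odd_pow_eq_one (hR : IsPGroup 2 R) {x : R} {n : ℕ} (hn : Odd n)
    (h : x ^ n = 1) : x = 1 := by
  obtain ⟨k, hk⟩ := hR x
  have h1 : orderOf x ∣ n := orderOf_dvd_of_pow_eq_one h
  have h2 : orderOf x ∣ 2 ^ k := orderOf_dvd_of_pow_eq_one hk
  have h3 : Nat.Coprime n (2 ^ k) := (Nat.coprime_two_right.mpr hn).pow_right k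
  exact orderOf_eq_one_iff.mp (Nat.eq_one_of_dvd_coprimes h3 h1 h2)

/-- Conjugates of an element of order `4` in a cyclic normal subgroup. -/
theorem conj_four_of_cyclic_normal {a : R} (hN : (zpowers a).Normal) {k : R} (hk : k ∈ zpowers a)
    (hk4 : k ^ 4 = 1) (hk2 : k ^ 2 ≠ 1) (r : R) : r * k * r⁻¹ = k ∨ r * k * r⁻¹ = k⁻¹ := by
  obtain ⟨i, rfl⟩ := mem_zpowers_iff.mp hk
  obtain ⟨s, hs⟩ := mem_zpowers_iff.mp (hN.conj_mem a (mem_zpowers a) r)
  have h1 : r * a ^ i * r⁻¹ = (a ^ i) ^ s := by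
    rw [← zpow_mul, mul_comm, zpow_mul, hs]
    exact (map_zpow (MulAut.conj r) a i)
  have hz4 : (a ^ i) ^ (4 : ℤ) = 1 := by
    have := hk4
    rw [← zpow_natCast] at this
    exact this
  have h2 : (a ^ i) ^ s = (a ^ i) ^ (s % 4) := by
    conv_lhs => rw [← Int.emod_add_mul_ediv s 4]
    rw [zpow_add, zpow_mul, hz4, one_zpow, mul_one]
  rw [h1, h2]
  have h3 : 0 ≤ s % 4 := Int.emod_nonneg s (by norm_num)
  have h4 : s % 4 < 4 := Int.emod_lt_of_pos s (by norm_num)
  have hconj2 : ∀ y : R, r * (a ^ i) * r⁻¹ = y → y ^ 2 ≠ 1 := by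
    intro y hy hy2
    apply hk2
    have e : (a ^ i) ^ 2 = r⁻¹ * (r * (a ^ i) * r⁻¹) ^ 2 * r := by
      rw [conj_pow]; group
    rw [e, hy, hy2]; group
  have h5 := hconj2 _ (h1.trans h2)
  obtain ⟨t, ht⟩ : ∃ t : ℤ, t = s % 4 := ⟨_, rfl⟩
  rw [← ht] at h3 h4 h5 ⊢
  interval_cases t
  · exfalso; apply h5; simp
  · left; simp
  · exfalso; apply h5
    have e : ((a ^ i) ^ (2 : ℤ)) ^ 2 = (a ^ i) ^ (4 : ℤ) := by
      rw [← zpow_natCast, ← zpow_mul]; norm_num
    rw [e, hz4]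
  · right
    have e : (a ^ i) ^ (3 : ℤ) * (a ^ i) = (a ^ i) ^ (4 : ℤ) := by
      have : (4 : ℤ) = 3 + 1 := by norm_num
      rw [this, zpow_add, zpow_one]
    rw [hz4] at e
    exact eq_inv_of_mul_eq_one_left e

/-- A generator modulo `N` when `R / N` is cyclic. -/
theorem exists_gen_mod (hR : IsPGroup 2 R) (N : Subgroup R) [N.Normal] [hc : IsCyclic (R ⧸ N)] :
    ∃ b : R, ∀ r : R, ∃ i : ℕ, r * (b ^ i)⁻¹ ∈ N := by
  obtain ⟨bq, hbq⟩ := hc.exists_generator
  obtain ⟨b, rfl⟩ := QuotientGroup.mk_surjective bq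
  refine ⟨b, ?_⟩
  intro r
  have h := hbq (QuotientGroup.mk r)
  have hfin : IsOfFinOrder (QuotientGroup.mk b : R ⧸ N) := by
    obtain ⟨c, hc⟩ := hR b
    exact isOfFinOrder_iff_pow_eq_one.mpr
      ⟨2 ^ c, by positivity, by rw [← QuotientGroup.mk_pow, hc]; rfl⟩
  obtain ⟨i, hi⟩ := (hfin.mem_powers_iff_mem_zpowers).mpr h
  refine ⟨i, ?_⟩
  have hi' : (QuotientGroup.mk b : R ⧸ N) ^ i = QuotientGroup.mk r := hi
  rw [← QuotientGroup.eq_one_iff, QuotientGroup.mk_mul, QuotientGroup.mk_inv,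
    QuotientGroup.mk_pow, hi', mul_inv_cancel]

/-- If `R / N` is cyclic and `v` inverts an element `k` of order `4` of the abelian normal
subgroup `N`, every element centralising `k` lies in `N ⟨v²⟩`. -/
theorem two_quot_gen (hR : IsPGroup 2 R) (N : Subgroup R) [N.Normal] [hc : IsCyclic (R ⧸ N)]
    (hNc : ∀ x ∈ N, ∀ y ∈ N, x * y = y * x) {k : R} (hk : k ∈ N) (hk2 : k ^ 2 ≠ 1)
    (hconj : ∀ r : R, r * k * r⁻¹ = k ∨ r * k * r⁻¹ = k⁻¹) {v : R} (hv : v * k * v⁻¹ = k⁻¹)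
    {w : R} (hw : w * k * w⁻¹ = k) : ∃ l : ℕ, w * (v ^ (2 * l))⁻¹ ∈ N := by
  have hkk : k ≠ k⁻¹ := by
    intro h
    apply hk2
    rw [pow_two]
    nth_rewrite 2 [h]
    exact mul_inv_cancel k
  obtain ⟨b, hdecomp⟩ := exists_gen_mod hR N
  have hbk : b * k * b⁻¹ = k⁻¹ := by
    rcases hconj b with h | h
    · exfalso
      obtain ⟨i, hi⟩ := hdecomp v
      have hc1 : Commute b k := by
        show b * k = k * b
        have e : b * k = (b * k * b⁻¹) * b := by group
        rw [e, h]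
      have hc2 : Commute (v * (b ^ i)⁻¹) k := hNc _ hi _ hk
      have hc3 : Commute v k := by
        have e : v = (v * (b ^ i)⁻¹) * b ^ i := by group
        rw [e]
        exact hc2.mul_left (hc1.pow_left i)
      apply hkk
      rw [← hv, hc3.eq]; group
    · exact h
  have hbi : ∀ i : ℕ, b ^ i * k * (b ^ i)⁻¹ = if Even i then k else k⁻¹ := by
    intro i
    induction i with
    | zero => simp
    | succ i ih =>
      have e : b ^ (i + 1) * k * (b ^ (i + 1))⁻¹ = b * (b ^ i * k * (b ^ i)⁻¹) * b⁻¹ := by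
        rw [pow_succ']; group
      rw [e, ih]
      by_cases hi : Even i
      · rw [if_pos hi, if_neg (by rw [Nat.even_add_one]; exact not_not.mpr hi), hbk]
      · rw [if_neg hi, if_pos (by rw [Nat.even_add_one]; exact hi)]
        have e2 : b * k⁻¹ * b⁻¹ = (b * k * b⁻¹)⁻¹ := by group
        rw [e2, hbk, inv_inv]
  have hri : ∀ (r : R) (i : ℕ), r * (b ^ i)⁻¹ ∈ N →
      r * k * r⁻¹ = if Even i then k else k⁻¹ := by
    intro r i hn
    have e : r * k * r⁻¹ = (r * (b ^ i)⁻¹) * (b ^ i * k * (b ^ i)⁻¹) * (r * (b ^ i)⁻¹)⁻¹ := by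
      group
    rw [e, hbi]
    have hkN : (if Even i then k else k⁻¹) ∈ N := by
      split_ifs
      · exact hk
      · exact N.inv_mem hk
    rw [hNc _ hn _ hkN]; group
  obtain ⟨j, hj⟩ := hdecomp v
  obtain ⟨i, hi⟩ := hdecomp w
  have hjodd : ¬ Even j := by
    intro hje
    have h := hri v j hj
    rw [if_pos hje, hv] at h
    exact hkk h.symm
  have hieven : Even i := by
    by_contra hio
    have h := hri w i hi
    rw [if_neg hio, hw] at h
    exact hkk h
  obtain ⟨c, hc⟩ := hR b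
  have hcop : Nat.Coprime j (2 ^ (c + 1)) :=
    (Nat.coprime_two_right.mpr (Nat.not_even_iff_odd.mp hjodd)).pow_right _
  have h1lt : 1 < 2 ^ (c + 1) := Nat.one_lt_two_pow (Nat.succ_ne_zero c)
  obtain ⟨j', -, hj'⟩ := Nat.exists_mul_mod_eq_one_of_coprime hcop h1lt
  obtain ⟨i', hi'⟩ := hieven
  refine ⟨j' * i', ?_⟩
  have hqv : (QuotientGroup.mk v : R ⧸ N) = (QuotientGroup.mk b) ^ j := by
    have := (QuotientGroup.eq_one_iff _).mpr hj
    rw [QuotientGroup.mk_mul, QuotientGroup.mk_inv, QuotientGroup.mk_pow, mul_inv_eq_one] at this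
    exact this
  have hqw : (QuotientGroup.mk w : R ⧸ N) = (QuotientGroup.mk b) ^ i := by
    have := (QuotientGroup.eq_one_iff _).mpr hi
    rw [QuotientGroup.mk_mul, QuotientGroup.mk_inv, QuotientGroup.mk_pow, mul_inv_eq_one] at this
    exact this
  have hqb : (QuotientGroup.mk b : R ⧸ N) ^ 2 ^ (c + 1) = 1 := by
    rw [← QuotientGroup.mk_pow, pow_succ, pow_mul, hc, one_pow]; rfl
  rw [← QuotientGroup.eq_one_iff, QuotientGroup.mk_mul, QuotientGroup.mk_inv,
    QuotientGroup.mk_pow, hqv, hqw, mul_inv_eq_one, ← pow_mul]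
  have e : j * (2 * (j' * i')) = 2 ^ (c + 1) * ((j * j') / 2 ^ (c + 1) * i) + i := by
    have h := Nat.div_add_mod (j * j') (2 ^ (c + 1))
    rw [hj'] at h
    calc j * (2 * (j' * i')) = (j * j') * i := by rw [hi']; ring
      _ = (2 ^ (c + 1) * (j * j' / 2 ^ (c + 1)) + 1) * i := by rw [h]
      _ = _ := by ring
  rw [e, pow_add, pow_mul, hqb, one_pow, one_mul]

/-- **Recognition of the `2`-groups of maximal class.** If `N` is a cyclic normal subgroup with
cyclic quotient and some `v` with `v² ∈ N` inverts an element of order `4` of `N`, then `R` is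
dihedral, generalised quaternion or quasi-dihedral. -/
theorem maxClass_of_inverting [Finite R] (hR : IsPGroup 2 R) (N : Subgroup R) [hNn : N.Normal]
    [IsCyclic (R ⧸ N)] {a : R} (hNa : N = zpowers a) {k v : R} (hk : k ∈ N) (hk4 : k ^ 4 = 1)
    (hk2 : k ^ 2 ≠ 1) (hv : v * k * v⁻¹ = k⁻¹) (hv2 : v ^ 2 ∈ N) :
    (∃ m : ℕ, Nonempty (R ≃* DihedralGroup m)) ∨ (∃ m : ℕ, Nonempty (R ≃* QuaternionGroup m)) ∨
      Cfsg.IsQuasiDihedral R := by
  have hkk : k ≠ k⁻¹ := by
    intro h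
    apply hk2
    rw [pow_two]
    nth_rewrite 2 [h]
    exact mul_inv_cancel k
  have hNc : ∀ x ∈ N, ∀ y ∈ N, x * y = y * x := by
    intro x hx y hy
    rw [hNa] at hx hy
    obtain ⟨i, rfl⟩ := mem_zpowers_iff.mp hx
    obtain ⟨j, rfl⟩ := mem_zpowers_iff.mp hy
    exact zpow_mul_comm a i j
  have hNn' : (zpowers a).Normal := hNa ▸ hNn
  have hconj := conj_four_of_cyclic_normal hNn' (hNa ▸ hk) hk4 hk2
  have hCk : ∀ w : R, w * k * w⁻¹ = k → w ∈ N := by
    intro w hw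
    obtain ⟨l, hl⟩ := two_quot_gen hR N hNc hk hk2 hconj hv hw
    have e : w = (w * (v ^ (2 * l))⁻¹) * (v ^ 2) ^ l := by rw [← pow_mul]; group
    rw [e]
    exact N.mul_mem hl (N.pow_mem hv2 l)
  obtain ⟨c, hc⟩ := hR a
  obtain ⟨m, -, hm⟩ := (Nat.dvd_prime_pow Nat.prime_two).mp (orderOf_dvd_of_pow_eq_one hc)
  have hcent : centralizer (N : Set R) = N := by
    apply le_antisymm
    · intro w hw
      apply hCk
      have h := Subgroup.mem_centralizer_iff.mp hw k hk
      rw [← h]; group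
    · intro w hw
      rw [Subgroup.mem_centralizer_iff]
      intro y hy
      exact hNc y hy w hw
  let S : Cfsg.Agent.Lib.helper59.SCC 2 N := ⟨a, m, hNa.symm, hm, hcent⟩
  have hne : N ≠ ⊤ := by
    intro htop
    have hvN : v ∈ N := by rw [htop]; exact mem_top v
    apply hkk
    rw [← hv, hNc v hvN k hk]; group
  have hno : 3 ≤ S.n → Cfsg.Agent.Lib.helper59.scM 2 N ≤ N := by
    intro h3 w hw
    have hw2 : w * a ^ 2 = a ^ 2 * w := (S.mem_scM_iff w).mp hw
    apply hCk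
    obtain ⟨i, hi⟩ := mem_zpowers_iff.mp (hNa ▸ hk : k ∈ zpowers a)
    have h4 : a ^ (4 * i) = 1 := by
      rw [mul_comm, zpow_mul, hi]
      have := hk4
      rw [← zpow_natCast] at this
      exact this
    have h5 : (2 : ℤ) ^ m ∣ 4 * i := by
      have := (S.zpow_eq_one_iff (4 * i)).mp h4
      exact_mod_cast this
    have h6 : (2 : ℤ) ^ 3 ∣ 4 * i := dvd_trans (pow_dvd_pow 2 h3) h5
    obtain ⟨i', hi'⟩ : (2 : ℤ) ∣ i := by
      obtain ⟨q, hq⟩ := h6
      exact ⟨q, by omega⟩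
    have hk' : k = (a ^ 2) ^ i' := by
      rw [← hi, hi', ← zpow_natCast, ← zpow_mul]; norm_num
    have hc2 : Commute w (a ^ 2) := hw2
    have hc3 : Commute w k := by rw [hk']; exact hc2.zpow_right i'
    rw [hc3.eq]; group
  exact (S.caseA2 hR hne hno).2

end TwoMeta

end Cfsg.Agent.Lib.helper65
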