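import Mathlib
import Cfsg.Agent.Lib.helper3.Class2
import Cfsg.Agent.Lib.helper65.MetaBasic
import Cfsg.Agent.Lib.helper65.MetaInv

/-!
# `2`-groups with an automorphism fixing no subgroup of index two

`NoInvIndexTwo φ`: the automorphism `φ` of `X` fixes no subgroup of index two of `X`.

For a finite `2`-group `X = K ⟨y⟩` with `K` cyclic and normal:
* `cycQ`: a `φ`-invariant subgroup `A ⊇ X'` with `X / A` cyclic is `X`;
* `exp_two_of_noInv`: if `X` is abelian and `K` has exponent two, `X` has exponent two;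
* `quat_of_noInv`: if `X` is not abelian, `K = ⟨k⟩` has order four, `y` inverts `k` and `y² ∈ K`.
-/

set_option autoImplicit false

namespace Cfsg.Agent.Lib.helper65

open Subgroup
open scoped commutatorElement
open Cfsg.Agent.Lib.helper3

section NoInv

variable {X : Type*} [Group X]

/-- The automorphism `φ` fixes no subgroup of index two. -/
def NoInvIndexTwo (φ : MulAut X) : Prop :=
  ∀ B : Subgroup X, (∀ x ∈ B, φ x ∈ B) → ∀ y₀ : X, y₀ ∉ B → (∀ x, x ∈ B ∨ x * y₀⁻¹ ∈ B) → False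

theorem cycQ (hX : IsPGroup 2 X) (φ : MulAut X) (Hζ : NoInvIndexTwo φ) (A : Subgroup X)
    (hA : ∀ x ∈ A, φ x ∈ A) (hcomm : ∀ x y : X, x * y * x⁻¹ * y⁻¹ ∈ A) (y : X)
    (hy : ∀ x, ∃ i : ℕ, x * (y ^ i)⁻¹ ∈ A) : ∀ x, x ∈ A := by
  by_contra hne
  push Not at hne
  have hAn : A.Normal := ⟨fun a ha x => by
    have e : x * a * x⁻¹ = (x * a * x⁻¹ * a⁻¹) * a := by group
    rw [e]; exact A.mul_mem (hcomm x a) ha⟩
  have hyA : y ∉ A := by
    intro hyA
    obtain ⟨x, hx⟩ := hne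
    obtain ⟨i, hi⟩ := hy x
    apply hx
    have e : x = (x * (y ^ i)⁻¹) * y ^ i := by group
    rw [e]; exact A.mul_mem hi (A.pow_mem hyA i)
  obtain ⟨q, hqdef⟩ : ∃ q : X ⧸ A, q = QuotientGroup.mk y := ⟨_, rfl⟩
  have hq : ∀ x : X, ∃ i : ℕ, (QuotientGroup.mk x : X ⧸ A) = q ^ i := by
    intro x
    obtain ⟨i, hi⟩ := hy x
    refine ⟨i, ?_⟩
    have := (QuotientGroup.eq_one_iff _).mpr hi
    rw [QuotientGroup.mk_mul, QuotientGroup.mk_inv, QuotientGroup.mk_pow, mul_inv_eq_one] at this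
    rw [hqdef]; exact this
  have hq1 : q ≠ 1 := by
    rw [hqdef]
    intro h
    exact hyA ((QuotientGroup.eq_one_iff _).mp h)
  obtain ⟨B, hBdef⟩ : ∃ B : Subgroup X, B = (zpowers (q ^ 2)).comap (QuotientGroup.mk' A) :=
    ⟨_, rfl⟩
  have hBmem : ∀ x, x ∈ B ↔ ∃ j : ℤ, (q ^ 2) ^ j = (QuotientGroup.mk x : X ⧸ A) := by
    intro x
    rw [hBdef, Subgroup.mem_comap, mem_zpowers_iff]
    rfl
  apply Hζ B ?_ y ?_ ?_
  · intro x hx
    rw [hBmem] at hx ⊢
    obtain ⟨j, hj⟩ := hx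
    obtain ⟨i, hi⟩ := hq (φ y)
    let φ' : X ⧸ A →* X ⧸ A := QuotientGroup.map A A φ.toMonoidHom hA
    have e1 : ∀ w : X, φ' (QuotientGroup.mk w) = QuotientGroup.mk (φ w) := fun w => rfl
    have e2 : φ' q = q ^ i := by rw [← hi, ← e1, hqdef]
    refine ⟨i * j, ?_⟩
    calc (q ^ 2) ^ ((i : ℤ) * j) = ((q ^ 2) ^ (i : ℤ)) ^ j := zpow_mul _ _ _
      _ = ((q ^ i) ^ 2) ^ j := by rw [zpow_natCast, ← pow_mul, mul_comm, pow_mul]
      _ = ((φ' q) ^ 2) ^ j := by rw [e2]
      _ = φ' ((q ^ 2) ^ j) := by rw [map_zpow, map_pow]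
      _ = φ' (QuotientGroup.mk x) := by rw [hj]
      _ = QuotientGroup.mk (φ x) := e1 x
  · rw [hBmem]
    rintro ⟨j, hj⟩
    rw [← hqdef] at hj
    have h1 : q ^ (2 * j - 1) = 1 := by
      rw [zpow_sub, zpow_mul, zpow_one]
      have : (q ^ (2 : ℤ)) = q ^ 2 := by rw [← zpow_natCast]; rfl
      rw [this, hj, mul_inv_cancel]
    have h2 : (orderOf q : ℤ) ∣ 2 * j - 1 := orderOf_dvd_iff_zpow_eq_one.mpr h1
    obtain ⟨c, hc⟩ := hX y
    have h3 : orderOf q ∣ 2 ^ c := by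
      apply orderOf_dvd_of_pow_eq_one
      rw [hqdef, ← QuotientGroup.mk_pow, hc]; rfl
    obtain ⟨e, -, he⟩ := (Nat.dvd_prime_pow Nat.prime_two).mp h3
    rcases Nat.eq_zero_or_pos e with rfl | hepos
    · rw [pow_zero, orderOf_eq_one_iff] at he
      exact hq1 he
    · have h4 : (2 : ℤ) ∣ 2 * j - 1 := by
        refine dvd_trans ?_ h2
        rw [he]
        push_cast
        exact dvd_pow_self 2 hepos.ne'
      omega
  · intro x
    obtain ⟨i, hi⟩ := hq x
    rw [hBmem, hBmem]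
    rcases Nat.even_or_odd' i with ⟨j, rfl | rfl⟩
    · left
      refine ⟨j, ?_⟩
      rw [hi, zpow_natCast, ← pow_mul]
    · right
      refine ⟨j, ?_⟩
      rw [QuotientGroup.mk_mul, QuotientGroup.mk_inv, hi, ← hqdef, zpow_natCast, ← pow_mul,
        pow_succ, mul_inv_cancel_right]

theorem exp_two_of_noInv (hX : IsPGroup 2 X) (φ : MulAut X) (Hζ : NoInvIndexTwo φ)
    (hcomm : ∀ a b : X, a * b = b * a) (K : Subgroup X) (hK : ∀ n ∈ K, n ^ 2 = 1) (y : X)
    (hy : ∀ x, ∃ i : ℕ, x * (y ^ i)⁻¹ ∈ K) : ∀ x : X, x ^ 2 = 1 := by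
  let A : Subgroup X :=
    { carrier := {x | x ^ 2 = 1}
      one_mem' := one_pow 2
      mul_mem' := by
        intro a b ha hb
        have ha' : a ^ 2 = 1 := ha
        have hb' : b ^ 2 = 1 := hb
        show (a * b) ^ 2 = 1
        rw [(show Commute a b from hcomm a b).mul_pow, ha', hb', one_mul]
      inv_mem' := by
        intro a ha
        have ha' : a ^ 2 = 1 := ha
        show (a⁻¹) ^ 2 = 1
        rw [inv_pow, ha', inv_one] }
  have hA : ∀ x ∈ A, φ x ∈ A := by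
    intro x hx
    have hx' : x ^ 2 = 1 := hx
    show (φ x) ^ 2 = 1
    rw [← map_pow, hx', map_one]
  exact cycQ hX φ Hζ A hA (fun x y => by
      have e : x * y * x⁻¹ * y⁻¹ = 1 := by rw [hcomm x y]; group
      rw [e]; exact A.one_mem) y (fun x => by
      obtain ⟨i, hi⟩ := hy x
      exact ⟨i, hK _ hi⟩)

theorem quat_of_noInv [Finite X] (hX : IsPGroup 2 X) (φ : MulAut X) (Hζ : NoInvIndexTwo φ)
    (hnc : ¬ ∀ a b : X, a * b = b * a) (K : Subgroup X) [hKn : K.Normal] (k : X)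
    (hK : K = zpowers k) (y : X) (hy : ∀ x, ∃ i : ℕ, x * (y ^ i)⁻¹ ∈ K) :
    k ^ 4 = 1 ∧ k ^ 2 ≠ 1 ∧ y * k * y⁻¹ = k⁻¹ ∧ y ^ 2 ∈ K := by
  classical
  have hzsq : ∀ (w : X) (j : ℤ), (w ^ 2) ^ j = (w ^ j) ^ 2 := by
    intro w j
    rw [← zpow_natCast (w ^ j) 2, ← zpow_mul, mul_comm, zpow_mul, zpow_natCast]
  have hKc : ∀ a ∈ K, ∀ b ∈ K, a * b = b * a := by
    intro a ha b hb
    rw [hK] at ha hb
    obtain ⟨i, rfl⟩ := mem_zpowers_iff.mp ha
    obtain ⟨j, rfl⟩ := mem_zpowers_iff.mp hb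
    exact zpow_mul_comm k i j
  have hcK : ∀ a b : X, ⁅a, b⁆ ∈ K := by
    intro a b
    obtain ⟨i, hi⟩ := hy a
    obtain ⟨j, hj⟩ := hy b
    rw [← QuotientGroup.eq_one_iff] at hi hj ⊢
    rw [QuotientGroup.mk_mul, QuotientGroup.mk_inv, QuotientGroup.mk_pow, mul_inv_eq_one] at hi hj
    rw [commutatorElement_def, QuotientGroup.mk_mul, QuotientGroup.mk_mul, QuotientGroup.mk_mul,
      QuotientGroup.mk_inv, QuotientGroup.mk_inv, hi, hj, ← pow_add, add_comm, pow_add]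
    group
  have hX'K : commutator X ≤ K := by
    rw [commutator_def, Subgroup.commutator_le]
    intro a _ b _
    exact hcK a b
  have hcomm_mem : ∀ a b : X, ⁅a, b⁆ ∈ commutator X := fun a b =>
    Subgroup.commutator_mem_commutator (mem_top a) (mem_top b)
  have hcharX' : ∀ w ∈ commutator X, φ w ∈ commutator X := by
    intro w hw
    have h := Subgroup.characteristic_iff_map_eq.mp
      (inferInstance : (commutator X).Characteristic) φ
    rw [← h]
    exact Subgroup.mem_map_of_mem _ hw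
  -- class two
  have hcen : ∀ x : X, x ∈ centralizer (commutator X : Set X) := by
    apply cycQ hX φ Hζ _ ?_ ?_ y ?_
    · intro x hx
      have h := Subgroup.characteristic_iff_map_eq.mp
        (inferInstance : (centralizer (commutator X : Set X)).Characteristic) φ
      rw [← h]
      exact Subgroup.mem_map_of_mem _ hx
    · intro a b
      have h : a * b * a⁻¹ * b⁻¹ ∈ K := hcK a b
      rw [Subgroup.mem_centralizer_iff]
      intro w hw
      exact hKc w (hX'K hw) _ h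
    · intro x
      obtain ⟨i, hi⟩ := hy x
      refine ⟨i, ?_⟩
      rw [Subgroup.mem_centralizer_iff]
      intro w hw
      exact hKc w (hX'K hw) _ hi
  have hc : CommCentral X := by
    intro a b z
    exact Subgroup.mem_centralizer_iff.mp (hcen z) ⁅a, b⁆ (hcomm_mem a b)
  -- the exponent of `X / X'`
  obtain ⟨n, hn⟩ := IsPGroup.iff_card.mp hX
  have hex : ∃ e : ℕ, ∀ x : X, x ^ 2 ^ e ∈ commutator X :=
    ⟨n, fun x => by rw [← hn, pow_card_eq_one']; exact one_mem _⟩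
  obtain ⟨e, he, hmin⟩ : ∃ e, (∀ x : X, x ^ 2 ^ e ∈ commutator X) ∧
      ∀ e' < e, ¬ ∀ x : X, x ^ 2 ^ e' ∈ commutator X :=
    ⟨Nat.find hex, Nat.find_spec hex, fun e' h' => Nat.find_min hex h'⟩
  have he0 : e ≠ 0 := by
    rintro rfl
    apply hnc
    intro a b
    have ha := he a
    have hb := he b
    rw [pow_zero, pow_one] at ha hb
    exact hKc a (hX'K ha) b (hX'K hb)
  obtain ⟨e', rfl⟩ := Nat.exists_eq_succ_of_ne_zero he0
  have hkA1 : k ^ 2 ^ e' ∉ commutator X := by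
    intro hk
    apply hmin e' (Nat.lt_succ_self e')
    let A₁ : Subgroup X :=
      { carrier := {x | x ^ 2 ^ e' ∈ commutator X}
        one_mem' := by
          show (1 : X) ^ 2 ^ e' ∈ commutator X
          rw [one_pow]; exact one_mem _
        mul_mem' := by
          intro a b ha hb
          show (a * b) ^ 2 ^ e' ∈ commutator X
          rw [mul_pow_class2 hc]
          exact mul_mem (mul_mem ha hb) (Subgroup.pow_mem _ (hcomm_mem b a) _)
        inv_mem' := by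
          intro a ha
          show (a⁻¹) ^ 2 ^ e' ∈ commutator X
          rw [inv_pow]; exact inv_mem ha }
    have hall : ∀ x, x ∈ A₁ := by
      apply cycQ hX φ Hζ A₁ ?_ ?_ y ?_
      · intro x hx
        show (φ x) ^ 2 ^ e' ∈ commutator X
        rw [← map_pow]
        exact hcharX' _ hx
      · intro a b
        show (a * b * a⁻¹ * b⁻¹) ^ 2 ^ e' ∈ commutator X
        exact Subgroup.pow_mem _ (hcomm_mem a b) _
      · intro x
        obtain ⟨i, hi⟩ := hy x
        refine ⟨i, ?_⟩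
        rw [hK] at hi
        obtain ⟨j, hj⟩ := mem_zpowers_iff.mp hi
        show (x * (y ^ i)⁻¹) ^ 2 ^ e' ∈ commutator X
        rw [← hj, ← zpow_natCast (k ^ j), ← zpow_mul, mul_comm, zpow_mul, zpow_natCast]
        exact Subgroup.zpow_mem _ hk j
    exact fun x => hall x
  obtain ⟨c, hc2⟩ := hX k
  obtain ⟨M, -, hM⟩ := (Nat.dvd_prime_pow Nat.prime_two).mp (orderOf_dvd_of_pow_eq_one hc2)
  obtain ⟨s, hsM, hs⟩ := subgroup_zpowers_prime_pow hM (commutator X) (hK ▸ hX'K)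
  have hs1 : e' < s := by
    by_contra hle
    push Not at hle
    apply hkA1
    rw [hs]
    have e1 : k ^ 2 ^ e' = (k ^ 2 ^ s) ^ 2 ^ (e' - s) := by
      rw [← pow_mul, ← pow_add, Nat.add_sub_cancel' hle]
    rw [e1]; exact Subgroup.pow_mem _ (mem_zpowers _) _
  have hs2 : s ≤ e' + 1 := by
    have h := he k
    rw [hs, pow_mem_zpowers_prime_pow hM hsM] at h
    exact (Nat.pow_dvd_pow_iff_le_right (by norm_num)).mp h
  have hse : s = e' + 1 := by omega
  subst hse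
  obtain ⟨z, hz⟩ : ∃ z : X, z = k ^ 2 ^ (e' + 1) := ⟨_, rfl⟩
  rw [← hz] at hs
  have hz1 : z ≠ 1 := by
    intro h1
    apply hnc
    intro a b
    have h2 := hcomm_mem a b
    rw [hs, h1, zpowers_one_eq_bot, mem_bot] at h2
    exact commutatorElement_eq_one_iff_mul_comm.mp h2
  have hsq : ∀ w ∈ commutator X, w ^ 2 ∈ zpowers (z ^ 2) := by
    intro w hw
    rw [hs] at hw
    obtain ⟨j, rfl⟩ := mem_zpowers_iff.mp hw
    rw [← hzsq]
    exact zpow_mem (mem_zpowers _) j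
  have he'0 : e' = 0 := by
    by_contra he'
    obtain ⟨e'', rfl⟩ := Nat.exists_eq_succ_of_ne_zero he'
    have hch : (2 ^ (e'' + 1 + 1)).choose 2 = (2 ^ e'' * (2 ^ (e'' + 1 + 1) - 1)) * 2 := by
      rw [Nat.choose_two_right]
      have e1 : 2 ^ (e'' + 1 + 1) * (2 ^ (e'' + 1 + 1) - 1) =
          2 * ((2 ^ e'' * (2 ^ (e'' + 1 + 1) - 1)) * 2) := by
        have : 2 ^ (e'' + 1 + 1) = 2 * (2 ^ e'' * 2) := by ring
        nth_rewrite 1 [this]
        ring
      rw [e1, Nat.mul_div_cancel_left _ (by norm_num : 0 < 2)]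
    have hmulT : ∀ a b : X, (a * b) ^ 2 ^ (e'' + 1 + 1) =
        a ^ 2 ^ (e'' + 1 + 1) * b ^ 2 ^ (e'' + 1 + 1) *
          (⁅b, a⁆ ^ (2 ^ e'' * (2 ^ (e'' + 1 + 1) - 1))) ^ 2 := by
      intro a b
      rw [mul_pow_class2 hc, hch, pow_mul]
    let T : Subgroup X :=
      { carrier := {x | x ^ 2 ^ (e'' + 1 + 1) ∈ zpowers (z ^ 2)}
        one_mem' := by
          show (1 : X) ^ 2 ^ (e'' + 1 + 1) ∈ zpowers (z ^ 2)
          rw [one_pow]; exact one_mem _
        mul_mem' := by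
          intro a b ha hb
          show (a * b) ^ 2 ^ (e'' + 1 + 1) ∈ zpowers (z ^ 2)
          rw [hmulT]
          exact mul_mem (mul_mem ha hb) (hsq _ (Subgroup.pow_mem _ (hcomm_mem b a) _))
        inv_mem' := by
          intro a ha
          show (a⁻¹) ^ 2 ^ (e'' + 1 + 1) ∈ zpowers (z ^ 2)
          rw [inv_pow]; exact inv_mem ha }
    apply Hζ T ?_ k ?_ ?_
    · intro x hx
      have hx' : x ^ 2 ^ (e'' + 1 + 1) ∈ zpowers (z ^ 2) := hx
      show (φ x) ^ 2 ^ (e'' + 1 + 1) ∈ zpowers (z ^ 2)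
      obtain ⟨j, hj⟩ := mem_zpowers_iff.mp hx'
      rw [← map_pow, ← hj, hzsq, map_pow]
      apply hsq
      apply hcharX'
      rw [hs]; exact zpow_mem (mem_zpowers z) j
    · intro hk
      have hk' : k ^ 2 ^ (e'' + 1 + 1) ∈ zpowers (z ^ 2) := hk
      rw [← hz] at hk'
      obtain ⟨c', hc'⟩ := hX z
      exact not_mem_zpowers_pow_prime (p := 2) ⟨c', hc'⟩ hz1 hk'
    · intro x
      have hx := he x
      rw [hs] at hx
      obtain ⟨j, hj⟩ := mem_zpowers_iff.mp hx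
      rcases Int.even_or_odd' j with ⟨j', rfl | rfl⟩
      · left
        show x ^ 2 ^ (e'' + 1 + 1) ∈ zpowers (z ^ 2)
        rw [← hj, zpow_mul, zpow_ofNat]
        exact zpow_mem (mem_zpowers _) j'
      · right
        show (x * k⁻¹) ^ 2 ^ (e'' + 1 + 1) ∈ zpowers (z ^ 2)
        rw [hmulT, inv_pow, ← hz, ← hj]
        refine mul_mem ?_ (hsq _ (Subgroup.pow_mem _ (hcomm_mem _ _) _))
        have e1 : z ^ (2 * j' + 1) * z⁻¹ = (z ^ 2) ^ j' := by
          rw [zpow_add, zpow_one, mul_inv_cancel_right, zpow_mul, zpow_ofNat]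
        rw [e1]; exact zpow_mem (mem_zpowers _) j'
  subst he'0
  have he2 : ∀ x : X, x ^ 2 ∈ commutator X := by
    intro x
    have := he x
    simpa using this
  have hz2 : z = k ^ 2 := by rw [hz]; norm_num
  have hcsq : ∀ a b : X, ⁅a, b⁆ ^ 2 = 1 := by
    intro a b
    rw [← commutator_pow_left_class2 hc b a 2, commutatorElement_eq_one_iff_mul_comm]
    exact Subgroup.mem_centralizer_iff.mp (hcen b) (a ^ 2) (he2 a)
  let Ω : Subgroup X :=
    { carrier := {w | w ∈ K ∧ w ^ 2 = 1}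
      one_mem' := ⟨K.one_mem, one_pow 2⟩
      mul_mem' := by
        rintro a b ⟨ha, ha2⟩ ⟨hb, hb2⟩
        refine ⟨K.mul_mem ha hb, ?_⟩
        rw [(show Commute a b from hKc a ha b hb).mul_pow, ha2, hb2, one_mul]
      inv_mem' := by
        rintro a ⟨ha, ha2⟩
        exact ⟨K.inv_mem ha, by rw [inv_pow, ha2, inv_one]⟩ }
  have hX'Ω : commutator X ≤ Ω := by
    rw [commutator_def, Subgroup.commutator_le]
    intro a _ b _
    exact ⟨hcK a b, hcsq a b⟩
  have hzz : z ^ 2 = 1 := (hX'Ω (by rw [hs]; exact mem_zpowers z)).2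
  have hk4 : k ^ 4 = 1 := by
    have e1 : k ^ 4 = (k ^ 2) ^ 2 := by rw [← pow_mul]
    rw [e1, ← hz2, hzz]
  have hk2 : k ^ 2 ≠ 1 := by rw [← hz2]; exact hz1
  refine ⟨hk4, hk2, ?_, hX'K (he2 y)⟩
  have h1 : ⁅y, k⁆ ∈ zpowers z := by rw [← hs]; exact hcomm_mem _ _
  obtain ⟨j, hj⟩ := mem_zpowers_iff.mp h1
  rcases Int.even_or_odd' j with ⟨j', rfl | rfl⟩
  · exfalso
    have h2 : ⁅y, k⁆ = 1 := by
      rw [← hj, zpow_mul, zpow_ofNat, hzz, one_zpow]
    have hyk : Commute y k := commutatorElement_eq_one_iff_mul_comm.mp h2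
    apply hnc
    intro a b
    obtain ⟨i, hi⟩ := hy a
    obtain ⟨i', hi'⟩ := hy b
    rw [hK] at hi hi'
    obtain ⟨u, hu⟩ := mem_zpowers_iff.mp hi
    obtain ⟨u', hu'⟩ := mem_zpowers_iff.mp hi'
    have ea : a = k ^ u * y ^ i := by rw [hu]; group
    have eb : b = k ^ u' * y ^ i' := by rw [hu']; group
    have hc1 : Commute (k ^ u * y ^ i) (k ^ u' * y ^ i') := by
      apply Commute.mul_left <;> apply Commute.mul_right
      · exact (Commute.refl k).zpow_zpow u u'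
      · exact (hyk.symm.zpow_left u).pow_right i'
      · exact (hyk.pow_left i).zpow_right u'
      · exact (Commute.refl y).pow_pow i i'
    rw [ea, eb]; exact hc1.eq
  · have h2 : ⁅y, k⁆ = z := by
      rw [← hj, zpow_add, zpow_one, zpow_mul, zpow_ofNat, hzz, one_zpow, one_mul]
    rw [commutatorElement_def, hz2] at h2
    have h3 : y * k * y⁻¹ = k ^ 2 * k := by rw [← h2]; group
    rw [h3]
    apply eq_inv_of_mul_eq_one_left
    rw [← pow_succ, ← pow_succ]; exact hk4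

end NoInv

end Cfsg.Agent.Lib.helper65
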