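import Mathlib
import Cfsg.Agent.Lib.helper65.TwoMeta
import Cfsg.Agent.Lib.helper65.TwoMetaAut

/-!
# Metacyclic `2`-groups containing a subgroup with an automorphism of odd order

`twoMeta_final`: let `R` be a finite metacyclic `2`-group, `X ≤ R` (given by an embedding
`ι : X →* R`), `g ∈ N_R(X) ∖ X` with `g² ∈ X`, such that `X` has an automorphism fixing no
subgroup of index two and some commutator `[g, u]`, `u ∈ X`, is not a square in `X`.
Then `R` is dihedral, generalised quaternion or quasi-dihedral.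
-/

set_option autoImplicit false

namespace Cfsg.Agent.Lib.helper65

open Subgroup

/-- In a finite cyclic group there is at most one involution. -/
theorem eq_one_or_eq_of_sq_eq_one {α : Type*} [Group α] [Finite α] [IsCyclic α] {δ q : α}
    (hδ1 : δ ≠ 1) (hδ2 : δ ^ 2 = 1) (hq : q ^ 2 = 1) : q = 1 ∨ q = δ := by
  have hord : orderOf δ = 2 := orderOf_eq_prime hδ2 hδ1
  have hmem : q ∈ zpowers δ := by
    apply mem_of_pow_eq_one_of_card_ge (by norm_num : 0 < 2) (zpowers δ) _ _ q hq
    · rw [Nat.card_zpowers, hord]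
    · intro x hx
      obtain ⟨j, rfl⟩ := mem_zpowers_iff.mp hx
      rw [← zpow_natCast (δ ^ j), ← zpow_mul, mul_comm, zpow_mul, zpow_natCast, hδ2, one_zpow]
  obtain ⟨j, rfl⟩ := mem_zpowers_iff.mp hmem
  rcases Int.even_or_odd' j with ⟨j', rfl | rfl⟩
  · left; rw [zpow_mul, zpow_ofNat, hδ2, one_zpow]
  · right; rw [zpow_add, zpow_one, zpow_mul, zpow_ofNat, hδ2, one_zpow, one_mul]

/-- A non-square of a cyclic `2`-group generates it. -/
theorem zpowers_eq_of_not_sq {G : Type*} [Group G] (hG : IsPGroup 2 G) {k d : G}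
    (hd : d ∈ zpowers k) (hsq : ∀ w : G, d ≠ w ^ 2) : zpowers k = zpowers d := by
  apply le_antisymm _ ((zpowers_le).mpr hd)
  obtain ⟨c, hc⟩ := hG k
  have hfin : IsOfFinOrder k := isOfFinOrder_iff_pow_eq_one.mpr ⟨2 ^ c, by positivity, hc⟩
  obtain ⟨j, hj⟩ := (hfin.mem_powers_iff_mem_zpowers).mpr hd
  have hj' : k ^ j = d := hj
  rcases Nat.even_or_odd' j with ⟨j', rfl | rfl⟩
  · exfalso
    apply hsq (k ^ j')
    rw [← hj', ← pow_mul, mul_comm]
  · have hcop : Nat.Coprime (2 * j' + 1) (2 ^ (c + 1)) :=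
      (Nat.coprime_two_right.mpr ⟨j', rfl⟩).pow_right _
    have h1lt : 1 < 2 ^ (c + 1) := Nat.one_lt_two_pow (Nat.succ_ne_zero c)
    obtain ⟨m, -, hm⟩ := Nat.exists_mul_mod_eq_one_of_coprime hcop h1lt
    rw [zpowers_le]
    have e : k = d ^ m := by
      rw [← hj', ← pow_mul]
      have h := Nat.div_add_mod ((2 * j' + 1) * m) (2 ^ (c + 1))
      rw [hm] at h
      rw [← h, pow_add, pow_mul, pow_succ 2 c, pow_mul, hc, one_pow, one_pow, one_mul, pow_one]
    rw [e]
    exact Subgroup.pow_mem _ (mem_zpowers d) m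

/-- Commutators lie in a normal subgroup with cyclic quotient. -/
theorem comm_mem_of_cyclic_quot {R : Type*} [Group R] (N : Subgroup R) [N.Normal]
    [hc : IsCyclic (R ⧸ N)] (r s : R) : r * s * r⁻¹ * s⁻¹ ∈ N := by
  obtain ⟨q, hq⟩ := hc.exists_generator
  obtain ⟨i, hi⟩ := mem_zpowers_iff.mp (hq (QuotientGroup.mk r))
  obtain ⟨j, hj⟩ := mem_zpowers_iff.mp (hq (QuotientGroup.mk s))
  rw [← QuotientGroup.eq_one_iff, QuotientGroup.mk_mul, QuotientGroup.mk_mul,
    QuotientGroup.mk_mul, QuotientGroup.mk_inv, QuotientGroup.mk_inv, ← hi, ← hj,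
    zpow_mul_comm q i j]
  group

theorem eq_zpowers_of_isCyclic {G : Type*} [Group G] (K : Subgroup G) [hK : IsCyclic ↥K] :
    ∃ k : G, K = zpowers k := by
  obtain ⟨k', hk'⟩ := IsCyclic.exists_generator (α := ↥K)
  refine ⟨k', le_antisymm ?_ ?_⟩
  · intro n hn
    obtain ⟨i, hi⟩ := mem_zpowers_iff.mp (hk' ⟨n, hn⟩)
    rw [mem_zpowers_iff]
    refine ⟨i, ?_⟩
    have := congrArg Subtype.val hi
    simpa using this
  · rw [zpowers_le]; exact k'.2

theorem twoMeta_final {R X : Type*} [Group R] [Finite R] [Group X] (hR : IsPGroup 2 R)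
    (hm : ∃ (N : Subgroup R) (_ : N.Normal), IsCyclic N ∧ IsCyclic (R ⧸ N))
    (ι : X →* R) (hι : Function.Injective ι) (g : R) (hg : g ∉ ι.range) (hg2 : g ^ 2 ∈ ι.range)
    (hgn : ∀ x : X, g * ι x * g⁻¹ ∈ ι.range) (φ : MulAut X) (Hζ : NoInvIndexTwo φ)
    (Hg : ∃ u : X, ∀ w : X, g * ι u * g⁻¹ * (ι u)⁻¹ ≠ ι w ^ 2) :
    (∃ m : ℕ, Nonempty (R ≃* DihedralGroup m)) ∨ (∃ m : ℕ, Nonempty (R ≃* QuaternionGroup m)) ∨
      Cfsg.IsQuasiDihedral R := by
  obtain ⟨N, hNn, hNc, hQc⟩ := hm
  obtain ⟨a, hNa⟩ := eq_zpowers_of_isCyclic N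
  have : Finite X := Finite.of_injective ι hι
  have hXp : IsPGroup 2 X := hR.of_injective ι hι
  obtain ⟨K, hKdef⟩ : ∃ K : Subgroup X, K = N.comap ι := ⟨_, rfl⟩
  have hKmem : ∀ x : X, x ∈ K ↔ ι x ∈ N := by intro x; rw [hKdef]; rfl
  have hKn : K.Normal := by rw [hKdef]; infer_instance
  have hKc : IsCyclic ↥K := by
    let f : ↥K →* ↥N := (ι.comp K.subtype).codRestrict N (fun x => (hKmem x.1).mp x.2)
    apply isCyclic_of_injective f
    intro x y hxy
    apply Subtype.ext; apply hι
    exact congrArg Subtype.val hxy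
  obtain ⟨k, hKk⟩ := eq_zpowers_of_isCyclic K
  have hQKc : IsCyclic (X ⧸ K) := by
    subst hKdef
    let f : X ⧸ N.comap ι →* R ⧸ N := QuotientGroup.map _ _ ι le_rfl
    apply isCyclic_of_injective f
    rw [injective_iff_map_eq_one]
    intro q hq
    obtain ⟨x, rfl⟩ := QuotientGroup.mk_surjective q
    have e : f (QuotientGroup.mk x) = QuotientGroup.mk (ι x) := QuotientGroup.map_mk _ _ _ _ _
    rw [e, QuotientGroup.eq_one_iff] at hq
    rw [QuotientGroup.eq_one_iff]
    exact hq
  obtain ⟨y, hy⟩ := exists_gen_mod hXp K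
  by_cases hcomm : ∀ a b : X, a * b = b * a
  · obtain ⟨u, hu⟩ := Hg
    have hδN : g * ι u * g⁻¹ * (ι u)⁻¹ ∈ N := comm_mem_of_cyclic_quot N g (ι u)
    obtain ⟨u', hu'⟩ := hgn u
    obtain ⟨d, hd⟩ : ∃ d : X, d = u' * u⁻¹ := ⟨_, rfl⟩
    have hιd : ι d = g * ι u * g⁻¹ * (ι u)⁻¹ := by rw [hd, map_mul, map_inv, hu']
    have hdK : d ∈ K := by rw [hKmem, hιd]; exact hδN
    have hdsq : ∀ w : X, d ≠ w ^ 2 := by
      intro w hw
      apply hu w
      rw [← hιd, hw, map_pow]
    have hKd : K = zpowers d := by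
      rw [hKk]
      exact zpowers_eq_of_not_sq hXp (hKk ▸ hdK) hdsq
    obtain ⟨s, hs⟩ := hg2
    have hgu : g * ι u * g⁻¹ = ι d * ι u := by rw [hιd]; group
    have hginv : g * ι d * g⁻¹ = (ι d)⁻¹ := by
      rw [hιd]
      have e1 : g * (g * ι u * g⁻¹ * (ι u)⁻¹) * g⁻¹ =
          (g ^ 2 * ι u * (g ^ 2)⁻¹) * (g * ι u * g⁻¹)⁻¹ := by rw [pow_two]; group
      have e2 : g ^ 2 * ι u * (g ^ 2)⁻¹ = ι u := by
        rw [← hs, ← map_mul, hcomm s u, map_mul]; group
      rw [e1, e2]; group
    have hd1 : d ≠ 1 := by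
      intro h
      exact hdsq 1 (by rw [h, one_pow])
    by_cases hd2 : d ^ 2 = 1
    · -- `X` is a four-group
      have hK2 : ∀ n ∈ K, n ^ 2 = 1 := by
        intro n hn
        rw [hKd] at hn
        obtain ⟨j, rfl⟩ := mem_zpowers_iff.mp hn
        rw [← zpow_natCast (d ^ j), ← zpow_mul, mul_comm, zpow_mul, zpow_natCast, hd2, one_zpow]
      have hexp : ∀ x : X, x ^ 2 = 1 := exp_two_of_noInv hXp φ Hζ hcomm K hK2 y hy
      have hKel : ∀ n ∈ K, n = 1 ∨ n = d := by
        intro n hn
        rw [hKd] at hn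
        obtain ⟨j, rfl⟩ := mem_zpowers_iff.mp hn
        rcases Int.even_or_odd' j with ⟨j', rfl | rfl⟩
        · left; rw [zpow_mul, zpow_ofNat, hd2, one_zpow]
        · right; rw [zpow_add, zpow_one, zpow_mul, zpow_ofNat, hd2, one_zpow, one_mul]
      have hu1 : u ≠ 1 := by
        intro h
        apply hd1
        apply hι
        rw [hιd, h, map_one]; group
      have hud : u ≠ d := by
        intro h
        apply hd1
        apply hι
        have e : ι d = g * ι d * g⁻¹ * (ι d)⁻¹ := by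
          nth_rewrite 1 [hιd]
          rw [h]
        rw [e, hginv, ← mul_inv_rev, ← pow_two, ← map_pow, hd2, map_one, inv_one]
      have hyel : ∀ i : ℕ, y ^ i = 1 ∨ y ^ i = y := by
        intro i
        rcases Nat.even_or_odd' i with ⟨j, rfl | rfl⟩
        · left; rw [pow_mul, hexp, one_pow]
        · right; rw [pow_succ, pow_mul, hexp, one_pow, one_mul]
      have hall0 : ∀ x : X, x = 1 ∨ x = d ∨ x = y ∨ x = d * y := by
        intro x
        obtain ⟨i, hi⟩ := hy x
        have e : x = (x * (y ^ i)⁻¹) * y ^ i := by group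
        rcases hKel _ hi with h1 | h1 <;> rcases hyel i with h2 | h2
        · left; rw [e, h1, h2, one_mul]
        · right; right; left; rw [e, h1, h2, one_mul]
        · right; left; rw [e, h1, h2, mul_one]
        · right; right; right; rw [e, h1, h2]
      have hdd : d * d = 1 := by rw [← pow_two, hd2]
      have hall : ∀ x : X, x = 1 ∨ x = d ∨ x = u ∨ x = d * u := by
        rcases hall0 u with h | h | h | h
        · exact absurd h hu1
        · exact absurd h hud
        · rw [h]; exact hall0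
        · have hyu : y = d * u := by rw [h, ← mul_assoc, hdd, one_mul]
          intro x
          rcases hall0 x with h1 | h1 | h1 | h1
          · left; exact h1
          · right; left; exact h1
          · right; right; right; rw [h1, hyu]
          · right; right; left; rw [h1, h]
      have hgs : g * ι s * g⁻¹ = ι s := by rw [hs]; group
      have hs' : s = 1 ∨ s = d := by
        rcases hall s with h | h | h | h
        · left; exact h
        · right; exact h
        · exfalso
          rw [h, hgu] at hgs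
          apply hd1
          apply hι
          rw [map_one]
          exact mul_eq_right.mp hgs
        · exfalso
          rw [h, map_mul] at hgs
          have e : g * (ι d * ι u) * g⁻¹ = (g * ι d * g⁻¹) * (g * ι u * g⁻¹) := by group
          rw [e, hginv, hgu, inv_mul_cancel_left] at hgs
          apply hd1
          apply hι
          rw [map_one]
          exact (mul_eq_right.mp hgs.symm)
      obtain ⟨t, ht2, htr, htu⟩ : ∃ t : R, t ^ 2 = 1 ∧ t ∉ ι.range ∧
          t * ι u * t⁻¹ = ι d * ι u := by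
        rcases hs' with h | h
        · exact ⟨g, by rw [← hs, h, map_one], hg, hgu⟩
        · refine ⟨ι u * g, ?_, ?_, ?_⟩
          · have e : (ι u * g) ^ 2 = ι u * (g * ι u * g⁻¹) * g ^ 2 := by
              rw [pow_two, pow_two]; group
            rw [e, hgu, ← hs, h, ← map_mul, ← map_mul, ← map_mul, ← map_one ι]
            congr 1
            have e2 : u * (d * u) * d = (u * d) ^ 2 := by rw [pow_two]; group
            rw [e2, hexp]
          · rintro ⟨w, hw⟩
            apply hg
            refine ⟨u⁻¹ * w, ?_⟩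
            rw [map_mul, map_inv, hw]; group
          · have e : ι u * g * ι u * (ι u * g)⁻¹ = ι u * (g * ι u * g⁻¹) * (ι u)⁻¹ := by group
            rw [e, hgu, ← map_mul, ← map_mul, ← map_inv, ← map_mul]
            congr 1
            rw [hcomm u (d * u)]; group
      -- involutions of `N`
      have hιd1 : ι d ≠ 1 := by
        intro h
        exact hd1 (hι (by rw [h, map_one]))
      have hιd2 : ι d ^ 2 = 1 := by rw [← map_pow, hd2, map_one]
      have hNinv : ∀ n ∈ N, n ^ 2 = 1 → n = 1 ∨ n = ι d := by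
        intro n hn hn2
        have hdN : ι d ∈ N := (hKmem d).mp hdK
        have h := eq_one_or_eq_of_sq_eq_one (α := ↥N) (δ := ⟨ι d, hdN⟩) (q := ⟨n, hn⟩)
          (by intro h; exact hιd1 (congrArg Subtype.val h))
          (Subtype.ext hιd2) (Subtype.ext hn2)
        rcases h with h | h
        · left; exact congrArg Subtype.val h
        · right; exact congrArg Subtype.val h
      have htN : t ∉ N := by
        intro h
        rcases hNinv t h ht2 with h1 | h1
        · exact htr ⟨1, by rw [h1, map_one]⟩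
        · exact htr ⟨d, h1.symm⟩
      have huN : ι u ∉ N := by
        intro h
        rcases hNinv (ι u) h (by rw [← map_pow, hexp, map_one]) with h1 | h1
        · exact hu1 (hι (by rw [h1, map_one]))
        · exact hud (hι h1)
      have hmk : (QuotientGroup.mk (ι u) : R ⧸ N) = QuotientGroup.mk t := by
        have h := eq_one_or_eq_of_sq_eq_one (α := R ⧸ N) (δ := QuotientGroup.mk t)
          (q := QuotientGroup.mk (ι u))
          (by intro h; exact htN ((QuotientGroup.eq_one_iff _).mp h))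
          (by rw [← QuotientGroup.mk_pow, ht2]; rfl)
          (by rw [← QuotientGroup.mk_pow, ← map_pow, hexp, map_one]; rfl)
        rcases h with h | h
        · exact absurd ((QuotientGroup.eq_one_iff _).mp h) huN
        · exact h
      have hκN : ι u * t ∈ N := by
        rw [← QuotientGroup.eq_one_iff, QuotientGroup.mk_mul, hmk, ← pow_two,
          ← QuotientGroup.mk_pow, ht2]
        rfl
      have hκ2 : (ι u * t) ^ 2 = ι d := by
        have e : (ι u * t) ^ 2 = ι u * (t * ι u * t⁻¹) * t ^ 2 := by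
          rw [pow_two, pow_two]; group
        rw [e, htu, ht2, mul_one, ← map_mul, ← map_mul]
        congr 1
        rw [hcomm u (d * u), mul_assoc, ← pow_two, hexp, mul_one]
      have hκ4 : (ι u * t) ^ 4 = 1 := by
        have e : (ι u * t) ^ 4 = ((ι u * t) ^ 2) ^ 2 := by rw [← pow_mul]
        rw [e, hκ2, hιd2]
      have htκ : t * (ι u * t) * t⁻¹ = (ι u * t)⁻¹ := by
        apply eq_inv_of_mul_eq_one_left
        have e : t * (ι u * t) * t⁻¹ * (ι u * t) = t * (ι u) ^ 2 * t := by
          rw [pow_two]; group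
        rw [e, ← map_pow, hexp, map_one, mul_one, ← pow_two, ht2]
      exact maxClass_of_inverting hR N hNa hκN hκ4 (by rw [hκ2]; exact hιd1) htκ
        (by rw [ht2]; exact N.one_mem)
    · -- contradiction
      exfalso
      obtain ⟨c, hc⟩ := hXp d
      obtain ⟨M, -, hM⟩ := (Nat.dvd_prime_pow Nat.prime_two).mp (orderOf_dvd_of_pow_eq_one hc)
      have hM2 : 2 ≤ M := by
        by_contra hlt
        have hM1 : M ≤ 1 := by omega
        apply hd2
        have h2 : orderOf d ∣ 2 := by
          rw [hM]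
          calc 2 ^ M ∣ 2 ^ 1 := pow_dvd_pow 2 hM1
            _ = 2 := pow_one 2
        exact orderOf_dvd_iff_pow_eq_one.mp h2
      obtain ⟨M', rfl⟩ : ∃ M', M = M' + 2 := ⟨M - 2, by omega⟩
      obtain ⟨d₄, hd₄⟩ : ∃ d₄ : X, d₄ = d ^ 2 ^ M' := ⟨_, rfl⟩
      have hd₄4 : d₄ ^ 4 = 1 := by
        rw [hd₄, ← pow_mul]
        have e : 2 ^ M' * 4 = 2 ^ (M' + 2) := by ring
        rw [e, ← hM, pow_orderOf_eq_one]
      have hd₄2 : d₄ ^ 2 ≠ 1 := by
        rw [hd₄, ← pow_mul]
        intro h
        have h1 := orderOf_dvd_of_pow_eq_one h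
        rw [hM] at h1
        have e : 2 ^ M' * 2 = 2 ^ (M' + 1) := by ring
        rw [e] at h1
        have := (Nat.pow_dvd_pow_iff_le_right (by norm_num)).mp h1
        omega
      have hκN : ι d₄ ∈ N := by
        rw [← hKmem, hd₄]; exact K.pow_mem hdK _
      have hκ4 : ι d₄ ^ 4 = 1 := by rw [← map_pow, hd₄4, map_one]
      have hκ2 : ι d₄ ^ 2 ≠ 1 := by
        rw [← map_pow]
        intro h
        exact hd₄2 (hι (by rw [h, map_one]))
      have hgκ : g * ι d₄ * g⁻¹ = (ι d₄)⁻¹ := by
        rw [hd₄, map_pow, ← conj_pow, hginv, inv_pow]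
      have huκ : ι u * ι d₄ * (ι u)⁻¹ = ι d₄ := by
        rw [← map_mul, hcomm u d₄, map_mul]; group
      have hNc' : ∀ x ∈ N, ∀ y ∈ N, x * y = y * x := by
        intro x hx y hy
        rw [hNa] at hx hy
        obtain ⟨i, rfl⟩ := mem_zpowers_iff.mp hx
        obtain ⟨j, rfl⟩ := mem_zpowers_iff.mp hy
        exact zpow_mul_comm a i j
      have hNn' : (zpowers a).Normal := hNa ▸ hNn
      have hconj := conj_four_of_cyclic_normal hNn' (hNa ▸ hκN) hκ4 hκ2
      obtain ⟨l, hl⟩ := two_quot_gen hR N hNc' hκN hκ2 hconj hgκ huκ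
      have hgl : g ^ (2 * l) = ι (s ^ l) := by rw [map_pow, hs, pow_mul]
      rw [hgl, ← map_inv, ← map_mul, ← hKmem, hKd] at hl
      obtain ⟨j, hj⟩ := mem_zpowers_iff.mp hl
      have hu_eq : ι u = (ι d) ^ j * (g ^ 2) ^ l := by
        rw [← hs, ← map_zpow, ← map_pow, ← map_mul, hj]
        congr 1
        group
      have hconj1 : g * (ι d) ^ j * g⁻¹ = ((ι d) ^ j)⁻¹ := by
        rw [← conj_zpow, hginv, inv_zpow]
      have hconj2 : g * (g ^ 2) ^ l * g⁻¹ = (g ^ 2) ^ l := by
        have hc1 : Commute g ((g ^ 2) ^ l) := ((Commute.refl g).pow_right 2).pow_right l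
        rw [hc1.eq]; group
      apply hu (d ^ (-j))
      rw [hu_eq]
      have e : g * ((ι d) ^ j * (g ^ 2) ^ l) * g⁻¹ * ((ι d) ^ j * (g ^ 2) ^ l)⁻¹ =
          (g * (ι d) ^ j * g⁻¹) * (g * (g ^ 2) ^ l * g⁻¹) * ((g ^ 2) ^ l)⁻¹ * ((ι d) ^ j)⁻¹ := by
        group
      rw [e, hconj1, hconj2, map_zpow, mul_inv_cancel_right, zpow_neg, pow_two]
  · obtain ⟨hk4, hk2, hyk, hy2⟩ := quat_of_noInv hXp φ Hζ hcomm K k hKk y hy
    exact maxClass_of_inverting hR N hNa (k := ι k) (v := ι y)
      ((hKmem k).mp (by rw [hKk]; exact mem_zpowers k))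
      (by rw [← map_pow, hk4, map_one])
      (by
        rw [← map_pow]
        intro h
        exact hk2 (hι (by rw [h, map_one])))
      (by rw [← map_inv, ← map_mul, ← map_inv, ← map_mul, hyk])
      (by rw [← map_pow]; exact (hKmem _).mp hy2)

end Cfsg.Agent.Lib.helper65
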