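import Mathlib
import Cfsg.Agent.Lib.helper65.RadKey
import Cfsg.Agent.Lib.helper65.TwoMetaFinal

/-!
# Automorphism groups of a `2`-group stabilising a metacyclic subgroup

`oddAutKey`: let `E` be a finite `2`-group, `X ≤ E` metacyclic, `Γ ≤ Aut(E)` stabilising `X` and
`c ∈ Γ` acting trivially on `E / X`, contained in no normal `2`-subgroup of `Γ`. Then `X` has an
automorphism fixing no subgroup of index two, and `c u u⁻¹` is a non-square of `X` for some `u ∈ X`.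
-/

set_option autoImplicit false

namespace Cfsg.Agent.Lib.helper65

open Subgroup

/-- A metacyclic `p`-group has Frattini quotient of order dividing `p²` (any prime `p`). -/
theorem index_frattini_dvd_sq_of_metacyclic' {X : Type*} [Group X] [Finite X] {p : ℕ}
    [hp : Fact p.Prime] (hX : IsPGroup p X)
    (hm : ∃ (N : Subgroup X) (_ : N.Normal), IsCyclic N ∧ IsCyclic (X ⧸ N)) :
    (frattini X).index ∣ p ^ 2 := by
  classical
  obtain ⟨N, hNn, hNc, hQc⟩ := hm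
  obtain ⟨a, hNa⟩ := eq_zpowers_of_isCyclic N
  obtain ⟨bq, hbq⟩ := hQc.exists_generator
  obtain ⟨b, rfl⟩ := QuotientGroup.mk_surjective bq
  have hgen : Subgroup.closure ((({a, b} : Finset X)) : Set X) = ⊤ := by
    rw [eq_top_iff]
    intro x _
    obtain ⟨i, hi⟩ := mem_zpowers_iff.mp (hbq (QuotientGroup.mk x))
    have h1 : x * (b ^ i)⁻¹ ∈ N := by
      rw [← QuotientGroup.eq_one_iff, QuotientGroup.mk_mul, QuotientGroup.mk_inv,
        QuotientGroup.mk_zpow, hi, mul_inv_cancel]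
    rw [hNa] at h1
    obtain ⟨j, hj⟩ := mem_zpowers_iff.mp h1
    have e : x = a ^ j * b ^ i := by rw [hj]; group
    rw [e]
    exact Subgroup.mul_mem _ (Subgroup.zpow_mem _ (Subgroup.subset_closure (by simp)) _)
      (Subgroup.zpow_mem _ (Subgroup.subset_closure (by simp)) _)
  have h := Cfsg.Agent.Lib.helper69.index_frattini_dvd_pow hX ({a, b} : Finset X) hgen
  exact h.trans (pow_dvd_pow p Finset.card_le_two)

/-- An automorphism stabilising the chain `E ≥ X ≥ Φ(X)` of a `p`-group is a `p`-element. -/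
theorem exists_pow_eq_one_of_chainStab {E : Type*} [Group E] [Finite E] {p : ℕ}
    [hp : Fact p.Prime] (hE : IsPGroup p E) (X : Subgroup E) (Γ : Subgroup (MulAut E))
    (hΓ : ∀ γ ∈ Γ, ∀ x ∈ X, γ x ∈ X) (γ : ↥Γ) (h1 : ∀ e, (γ : MulAut E) e * e⁻¹ ∈ X)
    (h2 : ∀ x : ↥X, resSub X Γ hΓ γ x * x⁻¹ ∈ frattini ↥X) : ∃ e : ℕ, γ ^ p ^ e = 1 := by
  have hXp : IsPGroup p ↥X := hE.to_subgroup X
  have hn0 : orderOf γ ≠ 0 := (orderOf_pos γ).ne'
  obtain ⟨e, m, hpm, hem⟩ := Nat.exists_eq_pow_mul_and_not_dvd hn0 p hp.out.ne_one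
  refine ⟨e, ?_⟩
  obtain ⟨γ', hγ'⟩ : ∃ γ' : ↥Γ, γ' = γ ^ p ^ e := ⟨_, rfl⟩
  rw [← hγ']
  have hγ'm : γ' ^ m = 1 := by rw [hγ', ← pow_mul, ← hem, pow_orderOf_eq_one]
  have hcop : Nat.Coprime m p := by
    rw [Nat.coprime_comm, Nat.Prime.coprime_iff_not_dvd hp.out]; exact hpm
  have h1' : ∀ e, (γ' : MulAut E) e * e⁻¹ ∈ X := by
    have hmem : (γ : MulAut E) ∈ trivMod X := h1
    have := (trivMod X).pow_mem hmem (p ^ e)
    rw [hγ']
    exact this
  have hres1 : resSub X Γ hΓ γ' = 1 := by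
    apply mulAut_eq_one_of_coprime_trivial_mod_frattini hXp _ m hcop
      (by rw [← map_pow, hγ'm, map_one])
    rw [hγ', map_pow]
    exact pow_trivial_mod_frattini _ h2 _
  have hfixX : ∀ x ∈ X, (γ' : MulAut E) x = x := by
    intro x hx
    have h := resSub_apply X Γ hΓ γ' ⟨x, hx⟩
    rw [hres1] at h
    exact h.symm
  have h3 : (γ' : MulAut E) = 1 := by
    apply mulAut_eq_one_of_stab X _ hfixX h1' m (congrArg Subtype.val hγ'm)
    intro a _ ha
    obtain ⟨j, hj⟩ := hE a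
    have h1 : orderOf a ∣ m := orderOf_dvd_of_pow_eq_one ha
    have h2 : orderOf a ∣ p ^ j := orderOf_dvd_of_pow_eq_one hj
    exact orderOf_eq_one_iff.mp (Nat.eq_one_of_dvd_coprimes (hcop.pow_right j) h1 h2)
  exact Subtype.ext h3

theorem pow_mem_of_invariant {X : Type*} [Group X] (φ : MulAut X) (B : Subgroup X)
    (hB : ∀ x ∈ B, φ x ∈ B) (n : ℕ) : ∀ x ∈ B, (φ ^ n) x ∈ B := by
  induction n with
  | zero => intro x hx; exact hx
  | succ n ih =>
    intro x hx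
    rw [pow_succ, MulAut.mul_apply]
    exact ih _ (hB x hx)

/-- An automorphism of odd order of a `2`-group `X` with `|X : Φ(X)| ≤ 4` fixing a subgroup of
index two is trivial. -/
theorem noInvIndexTwo_of_odd {X : Type*} [Group X] [Finite X] (hX : IsPGroup 2 X)
    (hidx : (frattini X).index ∣ 2 ^ 2) (φ : MulAut X) (m : ℕ) (hm : Odd m) (hφm : φ ^ m = 1)
    (hφ1 : φ ≠ 1) : NoInvIndexTwo φ := by
  intro B hB y₀ hy₀ hall
  apply hφ1
  have hidx2 : B.index = 2 := by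
    rw [Subgroup.index_eq_two_iff]
    refine ⟨y₀⁻¹, fun b => ?_⟩
    by_cases hb : b ∈ B
    · right
      refine ⟨hb, fun h => hy₀ ?_⟩
      have e : y₀ = (b * y₀⁻¹)⁻¹ * b := by group
      rw [e]; exact B.mul_mem (B.inv_mem h) hb
    · left
      exact ⟨(hall b).resolve_left hb, hb⟩
  have hcoatom : IsCoatom B := by
    refine ⟨fun h => hy₀ (by rw [h]; exact mem_top _), ?_⟩
    intro C hBC
    rw [eq_top_iff]
    obtain ⟨c, hcC, hcB⟩ := SetLike.exists_of_lt hBC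
    intro x _
    by_cases hx : x ∈ B
    · exact hBC.le hx
    · have h1 : x * c⁻¹ ∈ B := by
        rw [Subgroup.mul_mem_iff_of_index_two hidx2]
        constructor
        · intro h; exact absurd h hx
        · intro h; exact absurd (by simpa using B.inv_mem h) hcB
      have e : x = (x * c⁻¹) * c := by group
      rw [e]; exact C.mul_mem (hBC.le h1) hcC
  have hΦB : frattini X ≤ B := frattini_le_coatom hcoatom
  have hΦ : ∀ b : X, φ b ∈ frattini X ↔ b ∈ frattini X := by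
    intro b
    have h := Subgroup.characteristic_iff_comap_eq.mp
      (inferInstance : (frattini X).Characteristic) φ
    constructor
    · intro hb
      rw [← h]; exact hb
    · intro hb
      rw [← h] at hb; exact hb
  obtain ⟨j, hj⟩ := hm
  have hmpos : m = (m - 1) + 1 := by omega
  have hBiff : ∀ x : X, φ x ∈ B ↔ x ∈ B := by
    intro x
    refine ⟨fun h => ?_, hB x⟩
    have h1 := pow_mem_of_invariant φ B hB (m - 1) _ h
    have e : (φ ^ (m - 1)) (φ x) = (φ ^ m) x := by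
      nth_rewrite 2 [hmpos]
      rw [pow_succ, MulAut.mul_apply]
    rw [e, hφm] at h1
    exact h1
  have ha : ∀ x : X, φ x * x⁻¹ ∈ B := by
    intro x
    rw [Subgroup.mul_mem_iff_of_index_two hidx2, hBiff, inv_mem_iff]
  have hb : ∀ b ∈ B, φ b * b⁻¹ ∈ frattini X := by
    intro b hbB
    have h1 : (frattini X).relIndex B * B.index = (frattini X).index :=
      Subgroup.relIndex_mul_index hΦB
    rw [hidx2] at h1
    have h2 : (frattini X).relIndex B ∣ 2 := by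
      have h3 : (frattini X).relIndex B * 2 ∣ 2 * 2 := by rw [h1]; exact hidx
      exact Nat.dvd_of_mul_dvd_mul_right (by norm_num) h3
    rcases (Nat.dvd_prime Nat.prime_two).mp h2 with h3 | h3
    · have hBΦ : B ≤ frattini X := Subgroup.relIndex_eq_one.mp h3
      exact (frattini X).mul_mem ((hΦ b).mpr (hBΦ hbB)) ((frattini X).inv_mem (hBΦ hbB))
    · have h4 : ((frattini X).subgroupOf B).index = 2 := h3
      have h5 := Subgroup.mul_mem_iff_of_index_two h4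
        (a := (⟨φ b, hB b hbB⟩ : ↥B)) (b := (⟨b, hbB⟩ : ↥B)⁻¹)
      rw [Subgroup.mem_subgroupOf, Subgroup.mem_subgroupOf, Subgroup.mem_subgroupOf] at h5
      apply h5.mpr
      show φ b ∈ frattini X ↔ b⁻¹ ∈ frattini X
      rw [hΦ, inv_mem_iff]
  have hφ2 : ∀ x : X, (φ ^ 2) x * x⁻¹ ∈ frattini X := by
    intro x
    have e : (φ ^ 2) x * x⁻¹ = (φ (φ x * x⁻¹) * (φ x * x⁻¹)⁻¹) * (φ x * x⁻¹) ^ 2 := by
      rw [pow_two, pow_two, MulAut.mul_apply, map_mul, map_inv]; group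
    rw [e]
    exact (frattini X).mul_mem (hb _ (ha x))
      (Cfsg.Agent.Lib.helper3.pow_prime_mem_frattini hX _)
  have hφe : (φ ^ 2) ^ (j + 1) = φ := by
    rw [← pow_mul]
    have e : 2 * (j + 1) = m + 1 := by omega
    rw [e, pow_succ, hφm, one_mul]
  have hφΦ : ∀ x : X, φ x * x⁻¹ ∈ frattini X := by
    have h := pow_trivial_mod_frattini (φ ^ 2) hφ2 (j + 1)
    rw [hφe] at h
    exact h
  exact mulAut_eq_one_of_coprime_trivial_mod_frattini hX φ m
    (Nat.coprime_two_right.mpr ⟨j, hj⟩) hφm hφΦ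

theorem oddAutKey {E : Type*} [Group E] [Finite E] (hE : IsPGroup 2 E) (X : Subgroup E)
    (hm : ∃ (N : Subgroup ↥X) (_ : N.Normal), IsCyclic N ∧ IsCyclic (↥X ⧸ N))
    (Γ : Subgroup (MulAut E)) (hΓ : ∀ γ ∈ Γ, ∀ x ∈ X, γ x ∈ X)
    (c : MulAut E) (hc : c ∈ Γ) (hcX : ∀ e, c e * e⁻¹ ∈ X)
    (hrad : ∀ D : Subgroup (MulAut E), D ≤ Γ → (∀ a ∈ Γ, ∀ d ∈ D, a * d * a⁻¹ ∈ D) →
      IsPGroup 2 D → c ∉ D) :
    (∃ φ : MulAut ↥X, NoInvIndexTwo φ) ∧
      ∃ u : ↥X, ∀ w : ↥X, c (u : E) * (u : E)⁻¹ ≠ ((w : ↥X) : E) ^ 2 := by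
  classical
  have hXp : IsPGroup 2 ↥X := hE.to_subgroup X
  have hidx : (frattini ↥X).index ∣ 2 ^ 2 := index_frattini_dvd_sq_of_metacyclic' hXp hm
  obtain ⟨ρ, hρ⟩ : ∃ ρ : ↥Γ →* MulAut (↥X ⧸ frattini ↥X),
      ρ = (frQuot ↥X).comp (resSub X Γ hΓ) := ⟨_, rfl⟩
  have hρmk : ∀ (γ : ↥Γ) (x : ↥X),
      ρ γ (QuotientGroup.mk x) = QuotientGroup.mk (resSub X Γ hΓ γ x) := by
    intro γ x; rw [hρ]; rfl
  obtain ⟨N, hNdef⟩ : ∃ N : Subgroup ↥Γ, N = (trivMod X).comap Γ.subtype := ⟨_, rfl⟩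
  have hNmem : ∀ γ : ↥Γ, γ ∈ N ↔ ∀ e, (γ : MulAut E) e * e⁻¹ ∈ X := by
    intro γ; rw [hNdef]; rfl
  have hNnorm : ∀ h : ↥Γ, ∀ n ∈ N, h * n * h⁻¹ ∈ N := by
    intro h n hn
    rw [hNdef, Subgroup.mem_comap] at hn ⊢
    exact conj_mem_trivMod X _ _ (hΓ h h.2) hn
  obtain ⟨t, ht⟩ : ∃ t : ↥Γ, t = ⟨c, hc⟩ := ⟨_, rfl⟩
  have htN : t ∈ N := by rw [hNmem, ht]; exact hcX
  have hmapΓ : ∀ D' : Subgroup ↥Γ, D'.map Γ.subtype ≤ Γ := by
    rintro D' _ ⟨d, -, rfl⟩; exact d.2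
  have hmapnorm : ∀ D' : Subgroup ↥Γ, (∀ a : ↥Γ, ∀ d ∈ D', a * d * a⁻¹ ∈ D') →
      ∀ a ∈ Γ, ∀ d ∈ D'.map Γ.subtype, a * d * a⁻¹ ∈ D'.map Γ.subtype := by
    rintro D' hD' a ha _ ⟨d, hd, rfl⟩
    exact ⟨⟨a, ha⟩ * d * ⟨a, ha⟩⁻¹, hD' ⟨a, ha⟩ d hd, rfl⟩
  constructor
  · -- an element of `N` of odd order
    have hnotp : ¬ IsPGroup 2 ↥N := by
      intro hp'
      exact hrad (N.map Γ.subtype) (hmapΓ N) (hmapnorm N hNnorm) (hp'.map _)
        ⟨t, htN, by rw [ht]; rfl⟩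
    have hex : ∃ γ : ↥Γ, γ ∈ N ∧ ∀ k : ℕ, γ ^ 2 ^ k ≠ 1 := by
      by_contra hcon
      push Not at hcon
      apply hnotp
      rintro ⟨γ, hγ⟩
      obtain ⟨k, hk⟩ := hcon γ hγ
      exact ⟨k, Subtype.ext (by rw [Subgroup.coe_pow]; exact hk)⟩
    obtain ⟨γ, hγN, hγ⟩ := hex
    have hn0 : orderOf γ ≠ 0 := (orderOf_pos γ).ne'
    obtain ⟨e, m, hpm, hem⟩ := Nat.exists_eq_pow_mul_and_not_dvd hn0 2 (by norm_num)
    obtain ⟨ζ, hζ⟩ : ∃ ζ : ↥Γ, ζ = γ ^ 2 ^ e := ⟨_, rfl⟩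
    have hζm : ζ ^ m = 1 := by rw [hζ, ← pow_mul, ← hem, pow_orderOf_eq_one]
    have hζN : ζ ∈ N := by rw [hζ]; exact N.pow_mem hγN _
    have hζ1 : ζ ≠ 1 := by rw [hζ]; exact hγ e
    have hmodd : Odd m := by
      rw [← Nat.not_even_iff_odd, even_iff_two_dvd]; exact hpm
    refine ⟨resSub X Γ hΓ ζ, ?_⟩
    apply noInvIndexTwo_of_odd hXp hidx _ m hmodd (by rw [← map_pow, hζm, map_one])
    intro hres1
    apply hζ1
    have hfixX : ∀ x ∈ X, (ζ : MulAut E) x = x := by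
      intro x hx
      have h := resSub_apply X Γ hΓ ζ ⟨x, hx⟩
      rw [hres1] at h
      exact h.symm
    have h3 : (ζ : MulAut E) = 1 := by
      apply mulAut_eq_one_of_stab X _ hfixX ((hNmem ζ).mp hζN) m (congrArg Subtype.val hζm)
      intro a _ ha
      exact eq_one_of_odd_pow_eq_one hE hmodd ha
    exact Subtype.ext h3
  · -- `c` is not trivial modulo the Frattini subgroup
    obtain ⟨D', hD'⟩ : ∃ D' : Subgroup ↥Γ, D' = N ⊓ ρ.ker := ⟨_, rfl⟩
    have hD'norm : ∀ a : ↥Γ, ∀ d ∈ D', a * d * a⁻¹ ∈ D' := by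
      intro a d hd
      rw [hD', Subgroup.mem_inf] at hd ⊢
      exact ⟨hNnorm a d hd.1, (inferInstance : ρ.ker.Normal).conj_mem d hd.2 a⟩
    have hD'p : IsPGroup 2 ↥D' := by
      rintro ⟨γ, hγ⟩
      rw [hD', Subgroup.mem_inf, MonoidHom.mem_ker] at hγ
      obtain ⟨e, he⟩ := exists_pow_eq_one_of_chainStab hE X Γ hΓ γ ((hNmem γ).mp hγ.1) (by
        intro x
        rw [← QuotientGroup.eq_one_iff, QuotientGroup.mk_mul, QuotientGroup.mk_inv, ← hρmk,
          hγ.2]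
        exact mul_inv_cancel _)
      exact ⟨e, Subtype.ext (by rw [Subgroup.coe_pow]; exact he)⟩
    have hcD := hrad (D'.map Γ.subtype) (hmapΓ D') (hmapnorm D' hD'norm) (hD'p.map _)
    have htD : t ∉ D' := by
      intro h
      exact hcD ⟨t, h, by rw [ht]; rfl⟩
    have hρt : ρ t ≠ 1 := by
      intro h
      apply htD
      rw [hD', Subgroup.mem_inf, MonoidHom.mem_ker]
      exact ⟨htN, h⟩
    have hexv : ∃ v, ρ t v ≠ v := by
      by_contra hcon
      push Not at hcon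
      apply hρt
      ext v
      exact hcon v
    obtain ⟨v, hv⟩ := hexv
    obtain ⟨x, rfl⟩ := QuotientGroup.mk_surjective v
    refine ⟨x, ?_⟩
    intro w hw
    apply hv
    rw [hρmk]
    have h1 : resSub X Γ hΓ t x * x⁻¹ = w ^ 2 := by
      apply Subtype.ext
      rw [ht]
      exact hw
    have h2 : resSub X Γ hΓ t x * x⁻¹ ∈ frattini ↥X := by
      rw [h1]; exact Cfsg.Agent.Lib.helper3.pow_prime_mem_frattini hXp w
    have h3 := (QuotientGroup.eq_one_iff _).mpr h2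
    rw [QuotientGroup.mk_mul, QuotientGroup.mk_inv, mul_inv_eq_one] at h3
    exact h3

end Cfsg.Agent.Lib.helper65
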