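import Mathlib
import Cfsg.Prelude.Def_Characters
import Cfsg.Prelude.Def_OddOrderChar
import Cfsg.Prelude.Def_OddOrderLocal
import Cfsg.Prelude.Def_OddOrder
import Cfsg.Agent.Lib.helper32.Sib7
import Cfsg.Agent.Lib.helper32.Dade2
import Cfsg.Agent.Lib.helper15.MaxClass
import Cfsg.Agent.Lib.helper75.FpfRank
import Cfsg.Agent.Lib.helper65.BGType2
import Cfsg.Agent.Lib.helper54.BGTypes
import Cfsg.Agent.S1500
import Cfsg.Agent.S1501
import Cfsg.Agent.S1535
import Cfsg.Agent.S1537

/-!
# Coherence for a Frobenius maximal subgroup of Type I (statement S1542)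

`L` a maximal subgroup of Type I of a minimal simple group of odd order, a Frobenius group with
kernel `H = L_F`.  The characters of `L` induced from the non-principal irreducible characters of
`H` are irreducible, and they are coherent with respect to the Dade map of `(A(L), L, R)`:

* the Dade hypothesis holds (S1537), so the Dade map is a linear isometry into the virtual
  characters on the integer combinations vanishing at `1` (S1500, S1501);
* the abstract form of Sibley's theorem (S1535) gives coherence unless `H` is a non-abelian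
  `p`-group with `|H : H'| ≤ 4e² + 1`, `e = |L : H|`;
* in that case the alternatives of Type I apply: if `H` is a TI-subset the Dade map is ordinary
  induction and Sibley's theorem for TI kernels applies; `H` abelian is excluded; and if the
  exponent of `L/H` divides `p - 1` then `e ∣ p - 1` (the Sylow subgroups of the Frobenius
  complement are cyclic), so `4e² + 1 < p² ≤ |H : H'|`.
-/

set_option autoImplicit false

namespace Cfsg.Agent.Lib.helper65.PF1542

open Cfsg Subgroup
open Cfsg.Agent.Lib.helper32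

universe u

/-! ### Generic facts -/

/-- The irreducible characters of a Frobenius group `L` (centraliser form) that are nontrivial on
the kernel `K` are the characters induced from the non-principal irreducible characters of
`K`. -/
theorem relevant_eq {L : Type u} [Group L] [Fintype L] (K : Subgroup L) [K.Normal]
    (hC' : ∀ k ∈ K, k ≠ 1 → centralizer ({k} : Set L) ≤ K) :
    {χ : L → ℂ | IsIrrCharacter L χ ∧ ∃ h ∈ K, χ h ≠ χ 1} = inducedIrrAbove K ⊥ := by
  classical
  have hC : ∀ k ∈ K, k ≠ 1 → ∀ x : L, x * k = k * x → x ∈ K := by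
    intro k hk hk1 x hx
    exact hC' k hk hk1 (Subgroup.mem_centralizer_singleton_iff.mpr hx)
  ext χ
  constructor
  · rintro ⟨hχ, x, hx, hne⟩
    obtain ⟨φ, hφ, hφ1, rfl⟩ := relevant_eq_ind K hC' hχ ⟨x, hx, hne⟩
    refine ⟨φ, hφ, hφ1, ?_, rfl⟩
    intro b hb
    rw [Subgroup.mem_bot] at hb
    have h : b = 1 := Subtype.ext hb
    rw [h]
  · rintro ⟨θ, hθ, hne, -, rfl⟩
    refine ⟨frobC_irr K hC hθ hne, ?_⟩
    by_contra hcon
    push Not at hcon
    apply hne
    have hconst : ∀ z : K, θ z = θ 1 := by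
      intro z
      apply irr_apply_eq_of_indFun_eq K hθ z
      exact hcon (z : L) z.2
    have h1 : θ 1 = 1 := Cfsg.Agent.Lib.helper19.linear_of_abelian_quot
      (⊤ : Subgroup K) (fun _ _ => Subgroup.mem_top _) θ hθ (fun x _ => hconst x)
    funext z
    rw [hconst z, h1]

section Dade

variable {G : Type u} [Group G]

theorem dade_add (A : Set G) (L : Subgroup G) (H : G → Subgroup G) (α β : L → ℂ) :
    dadeIsometry A L H (α + β) = dadeIsometry A L H α + dadeIsometry A L H β := by
  funext g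
  simp only [dadeIsometry, Pi.add_apply]
  split_ifs with h
  · rfl
  · rw [add_zero]

theorem dade_zsmul (A : Set G) (L : Subgroup G) (H : G → Subgroup G) (n : ℤ) (α : L → ℂ) :
    dadeIsometry A L H (n • α) = n • dadeIsometry A L H α := by
  funext g
  simp only [dadeIsometry, Pi.smul_apply]
  split_ifs with h
  · rfl
  · rw [smul_zero]

theorem dade_one (A : Set G) (L : Subgroup G) (H : G → Subgroup G)
    (hD : DadeHypothesis A L H) (α : L → ℂ) : dadeIsometry A L H α 1 = 0 := by
  apply dadeIsometry_apply_of_not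
  rintro ⟨a, ha, u, hu, x, hx⟩
  have h1 : a * u = 1 := by rw [← hx]; group
  have hua : u = a⁻¹ := eq_inv_of_mul_eq_one_right h1
  have ha' : a ∈ H a ⊓ (L ⊓ centralizer ({a} : Set G)) := by
    refine ⟨?_, hD.subset ha, ?_⟩
    · have h2 := (H a).inv_mem hu
      rwa [hua, inv_inv] at h2
    · exact Subgroup.mem_centralizer_iff.mpr (fun y hy => by rw [Set.mem_singleton_iff.mp hy])
  rw [hD.inf_eq_bot a ha, Subgroup.mem_bot] at ha'
  exact hD.one_not_mem (ha' ▸ ha)

/-- With trivial supports the Dade map is ordinary induction. -/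
theorem dade_eq_indFun [Fintype G] (A : Set G) (L : Subgroup G) [Fintype L]
    (R : G → Subgroup G) (hD : DadeHypothesis A L R) (hR : ∀ a ∈ A, R a = ⊥)
    (α : L → ℂ) (hα : IsClassFunction L α) (hαA : ∀ x : L, (x : G) ∉ A → α x = 0) :
    dadeIsometry A L R α = indFun L α := by
  classical
  have hTI : ∀ a ∈ A, ∀ x : G, x⁻¹ * a * x ∈ A → x ∈ L := by
    intro a ha x hx
    obtain ⟨l, hl, hla⟩ := hD.fusion a ha x⁻¹ (by rwa [inv_inv])
    rw [inv_inv] at hla
    have hc : x * l ∈ centralizer ({a} : Set G) := by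
      rw [Subgroup.mem_centralizer_iff]
      intro y hy
      rw [Set.mem_singleton_iff.mp hy]
      have e1 : a * (x * l) = x * (x⁻¹ * a * x) * l := by group
      rw [e1, ← hla]; group
    rw [← hD.sup_eq a ha, hR a ha, bot_sup_eq] at hc
    have e2 : x = x * l * l⁻¹ := by group
    rw [e2]
    exact L.mul_mem hc.1 (L.inv_mem hl)
  funext g
  by_cases hg : ∃ a ∈ A, ∃ x : G, x * g * x⁻¹ = a
  · obtain ⟨a, ha, x, hx⟩ := hg
    have haL : a ∈ L := hD.subset ha
    rw [dadeIsometry_apply_of_conj A L R hD α hα g ⟨a, haL⟩ ha 1 (one_mem _) x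
      (by rw [hx, mul_one])]
    have hcl := Cfsg.Agent.Lib.helper4.isClassFunction_indFun L α
    rw [← hcl g x, hx, Cfsg.Agent.Lib.helper4.indFun_apply]
    have key : ∀ y : G, extendByZero L α (y⁻¹ * a * y) =
        extendByZero L (fun _ => α ⟨a, haL⟩) y := by
      intro y
      by_cases hy : y ∈ L
      · rw [Cfsg.Agent.Lib.helper4.extendByZero_apply_mem _ _ hy,
          Cfsg.Agent.Lib.helper4.extendByZero_apply_mem _ _
            (mul_mem (mul_mem (inv_mem hy) haL) hy)]
        have h1 := hα ⟨a, haL⟩ (⟨y, hy⟩ : L)⁻¹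
        rw [← h1]
        congr 1
        apply Subtype.ext
        simp
      · rw [Cfsg.Agent.Lib.helper4.extendByZero_apply_of_not_mem _ _ hy]
        by_cases hmem : y⁻¹ * a * y ∈ L
        · rw [Cfsg.Agent.Lib.helper4.extendByZero_apply_mem _ _ hmem]
          apply hαA
          intro hA'
          exact hy (hTI a ha y hA')
        · exact Cfsg.Agent.Lib.helper4.extendByZero_apply_of_not_mem _ _ hmem
    simp only [key]
    rw [Cfsg.Agent.Lib.helper4.sum_extendByZero, Finset.sum_const, Finset.card_univ,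
      nsmul_eq_mul, ← Nat.card_eq_fintype_card]
    have hN : (Nat.card L : ℂ) ≠ 0 := by
      exact_mod_cast (Nat.card_pos (α := L)).ne'
    field_simp
  · rw [dadeIsometry_apply_of_not A L R α g (by
      rintro ⟨a, ha, u, hu, x, hx⟩
      rw [hR a ha, Subgroup.mem_bot] at hu
      exact hg ⟨a, ha, x, by rw [hx, hu, mul_one]⟩)]
    rw [Cfsg.Agent.Lib.helper4.indFun_apply, Finset.sum_eq_zero, mul_zero]
    intro y _
    by_cases hmem : y⁻¹ * g * y ∈ L
    · rw [Cfsg.Agent.Lib.helper4.extendByZero_apply_mem _ _ hmem]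
      apply hαA
      intro hA'
      exact hg ⟨_, hA', y⁻¹, by rw [inv_inv]⟩
    · exact Cfsg.Agent.Lib.helper4.extendByZero_apply_of_not_mem _ _ hmem

end Dade

/-! ### The Frobenius complement -/

/-- In a Frobenius group `L` of odd order (centraliser form) with kernel `K` complemented by `U`,
the index of `K` divides the exponent of `L/K`: the Sylow subgroups of `U` are cyclic. -/
theorem index_dvd_exponent {L : Type u} [Group L] [Finite L] (hodd : Odd (Nat.card L))
    (K U : Subgroup L) [K.Normal] (hc : IsComplement' K U) (hK1 : K ≠ ⊥) (hU1 : U ≠ ⊥)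
    (hC : ∀ k ∈ K, k ≠ 1 → ∀ x : L, x * k = k * x → x ∈ K) :
    K.index ∣ Monoid.exponent (L ⧸ K) := by
  classical
  have hdisj : ∀ g : L, g ∈ K → g ∈ U → g = 1 := by
    intro g hgK hgU
    have h := hc.disjoint
    rw [Subgroup.disjoint_def] at h
    exact h hgK hgU
  have hfpf : ∀ u ∈ U, u ≠ 1 → K ⊓ centralizer {u} = ⊥ := by
    intro u hu hu1
    rw [eq_bot_iff]
    rintro x ⟨hxK, hxc⟩
    rw [Subgroup.mem_bot]
    by_contra hx1
    have hux : u * x = x * u := Subgroup.mem_centralizer_iff.mp hxc u rfl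
    exact hu1 (hdisj u (hC x hxK hx1 u hux) hu)
  have hUF : IsFrobeniusComplement U :=
    Cfsg.Agent.Lib.helper75.isFrobeniusComplement_of_fpf_complement K U hc hK1 hU1 hfpf
  have hUodd : Odd (Nat.card U) := Odd.of_dvd_nat hodd (Subgroup.card_subgroup_dvd_card U)
  have hsyl : ∀ (q : ℕ) [Fact q.Prime] (P : Sylow q U), IsCyclic P := by
    intro q _ P
    rcases Cfsg.Agent.Lib.helper75.frob_sylow_cyclic_or_quat U hUF q P with h | ⟨-, n, ⟨e⟩⟩
    · exact h
    · exfalso
      have h1 : Nat.card P = 4 * 2 ^ n := by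
        rw [Nat.card_congr e.toEquiv, Nat.card_eq_fintype_card, QuaternionGroup.card]
      have h2 : Odd (Nat.card P) :=
        Odd.of_dvd_nat hUodd (Subgroup.card_subgroup_dvd_card (P : Subgroup U))
      rw [h1] at h2
      exact (Nat.not_even_iff_odd.mpr h2) ⟨2 * 2 ^ n, by ring⟩
  have h1 : Nat.card U ∣ Monoid.exponent U := by
    rw [Nat.dvd_iff_prime_pow_dvd_dvd]
    intro q k hq hqk
    have : Fact q.Prime := ⟨hq⟩
    obtain ⟨P⟩ : Nonempty (Sylow q U) := inferInstance
    have h2 : q ^ k ∣ Nat.card P := P.pow_dvd_card_of_pow_dvd_card hqk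
    have h3 : IsCyclic P := hsyl q P
    have h4 : Monoid.exponent P = Nat.card P := IsCyclic.exponent_eq_card
    have h5 : Monoid.exponent P ∣ Monoid.exponent U :=
      Monoid.exponent_dvd_of_monoidHom (P : Subgroup U).subtype (Subgroup.subtype_injective _)
    rw [h4] at h5
    exact h2.trans h5
  have h2 : Monoid.exponent U ∣ Monoid.exponent (L ⧸ K) := by
    apply Monoid.exponent_dvd_of_monoidHom ((QuotientGroup.mk' K).comp U.subtype)
    rw [injective_iff_map_eq_one]
    intro u hu
    have h3 : (u : L) ∈ K := by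
      rw [← QuotientGroup.eq_one_iff]
      exact hu
    exact Subtype.ext (hdisj (u : L) h3 u.2)
  rw [hc.symm.index_eq_card]
  exact h1.trans h2

theorem arith {e p : ℕ} (he : e ∣ p - 1) (heodd : Odd e) (hpodd : Odd p) (hp1 : 1 < p) :
    4 * e ^ 2 + 1 < p ^ 2 := by
  obtain ⟨k, rfl⟩ := hpodd
  have hk : 1 ≤ k := by omega
  have h1 : 2 * k + 1 - 1 = 2 * k := by omega
  rw [h1] at he
  have hcop : Nat.Coprime e 2 :=
    ((Nat.Prime.coprime_iff_not_dvd Nat.prime_two).mpr fun h =>
      (Nat.not_even_iff_odd.mpr heodd) (even_iff_two_dvd.mpr h)).symm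
  have h2 : e ∣ k := hcop.dvd_of_dvd_mul_left he
  have h3 : e ≤ k := Nat.le_of_dvd (by omega) h2
  nlinarith

/-! ### The main theorem -/

section Main

variable {G : Type u} [Group G] [Fintype G]

theorem core (hG : IsMinSimpleOddOrder G) (L : Subgroup G) [Fintype L] (hL : IsCoatom L)
    (hI : IsOfTypeI L) (K : Subgroup L) [K.Normal] (hK : K = fittingHall L)
    (hfrob : ∀ x ∈ fittingHallOf L, x ≠ 1 → L ⊓ centralizer ({x} : Set G) ≤ fittingHallOf L) :
    (∀ χ ∈ inducedIrrAbove K ⊥, IsIrrCharacter L χ) ∧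
      IsCoherent (inducedIrrAbove K ⊥) {1}ᶜ (dadeIsometry (typeA L) L (supportR L)) := by
  classical
  obtain ⟨hsol, hodd, hF1, hF2, U, hU1, hcompl, -, -⟩ := id hI.1
  rw [← hK] at hF1 hF2 hcompl
  have hmem : ∀ x : L, x ∈ K ↔ (x : G) ∈ fittingHallOf L := by
    intro x
    rw [hK, Cfsg.Agent.Lib.helper29.mem_fittingHallOf_iff L x.2]
  have hC : ∀ k ∈ K, k ≠ 1 → ∀ x : L, x * k = k * x → x ∈ K := by
    intro k hk hk1 x hx
    rw [hmem]
    exact hfrob (k : G) ((hmem k).mp hk) (fun h => hk1 (Subtype.ext h))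
      ⟨x.2, Subgroup.mem_centralizer_iff.mpr fun y hy => by
        rw [Set.mem_singleton_iff.mp hy]
        exact (congrArg Subtype.val hx).symm⟩
  have hC' : ∀ k ∈ K, k ≠ 1 → centralizer ({k} : Set L) ≤ K := by
    intro k hk hk1 x hx
    exact hC k hk hk1 x (Subgroup.mem_centralizer_singleton_iff.mp hx)
  have hirr : ∀ χ ∈ inducedIrrAbove K ⊥, IsIrrCharacter L χ := by
    rintro χ ⟨θ, hθ, hne, -, rfl⟩
    exact frobC_irr K hC hθ hne
  refine ⟨hirr, ?_⟩
  have hD : DadeHypothesis (typeA L) L (supportR L) :=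
    (Cfsg.Agent.S1537.result hG L hL (typeA L) (Or.inr (Or.inl rfl))).2
  have hA : ∀ x : L, x ∈ K → x ≠ 1 → (x : G) ∈ typeA L := by
    intro x hx hx1
    have hx1' : (x : G) ≠ 1 := fun h => hx1 (Subtype.ext h)
    unfold typeA
    rw [if_pos hI]
    exact ⟨x.2, hx1', (x : G), (hmem x).mp hx, hx1', rfl⟩
  have hS : ∀ χ ∈ inducedIrrAbove K ⊥, IsCharacter L χ := fun χ hχ =>
    Cfsg.Agent.Lib.helper4.isCharacter_of_isIrrCharacter (hirr χ hχ)
  have hSK : ∀ χ ∈ inducedIrrAbove K ⊥, ∀ x : L, x ∉ K → χ x = 0 := by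
    rintro χ ⟨θ, -, -, -, rfl⟩ x hx
    exact indFun_normal_apply_of_not_mem K θ hx
  have hvan : ∀ α ∈ zspanOn (inducedIrrAbove K ⊥) {1}ᶜ, ∀ x : L, (x : G) ∉ typeA L →
      α x = 0 := by
    intro α hα x hx
    by_cases hxK : x ∈ K
    · have hx1 : x = 1 := by
        by_contra h
        exact hx (hA x hxK h)
      rw [hx1]
      exact apply_one_of_mem_zspanOn_compl_one hα
    · exact zspan_apply_eq_zero (fun χ hχ => hSK χ hχ x hxK) hα.1
  have hgen : ∀ α ∈ zspanOn (inducedIrrAbove K ⊥) {1}ᶜ, IsGeneralizedCharacter L α :=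
    fun α hα => zspan_isGeneralizedCharacter hS hα.1
  have hcls : ∀ α ∈ zspanOn (inducedIrrAbove K ⊥) {1}ᶜ, IsClassFunction L α := fun α hα =>
    Cfsg.Agent.Lib.helper4.isClassFunction_of_isGeneralizedCharacter (hgen α hα)
  have hiso : IsLinearIsometryOn (zspanOn (inducedIrrAbove K ⊥) {1}ᶜ)
      (dadeIsometry (typeA L) L (supportR L)) := by
    refine ⟨fun α _ β _ => dade_add _ _ _ α β, fun α _ n => dade_zsmul _ _ _ n α, ?_, ?_⟩
    · intro α hα β hβ
      exact (Cfsg.Agent.S1500.result (typeA L) L (supportR L) hD α (hcls α hα)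
        (hvan α hα)).1 β (hcls β hβ) (hvan β hβ)
    · intro α hα
      exact Cfsg.Agent.S1501.result (typeA L) L (supportR L) hD α (hgen α hα) (hvan α hα)
  have hone : ∀ α ∈ zspanOn (inducedIrrAbove K ⊥) {1}ᶜ,
      dadeIsometry (typeA L) L (supportR L) α 1 = 0 := fun α _ => dade_one _ _ _ hD α
  have he : Nat.card K ≠ K.index + 1 := by
    intro h
    have h1 : Odd (Nat.card K) := Odd.of_dvd_nat hodd (Subgroup.card_subgroup_dvd_card K)
    have h2 : Odd K.index := Odd.of_dvd_nat hodd (Subgroup.index_dvd_card K)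
    rw [h] at h1
    exact (Nat.not_even_iff_odd.mpr h1) (Odd.add_one h2)
  have hrel := relevant_eq K hC'
  have hsib := Cfsg.Agent.S1535.result K hF1 hF2 hC' he
    (dadeIsometry (typeA L) L (supportR L)) (by rw [hrel]; exact hiso) (by rw [hrel]; exact hone)
  rw [hrel] at hsib
  rcases hsib with hcoh | ⟨p, hp, ⟨m, hcard⟩, hna, hidx⟩
  · exact hcoh
  -- the exceptional case: `K` a non-abelian `p`-group with `|K : K'| ≤ 4e² + 1`
  rcases hI.2 with hTI | ⟨hab, -, -⟩ | ⟨hexp, -⟩
  · -- `H` is a TI-subset: the Dade map is ordinary induction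
    have hFL : fittingHallOf L ≤ L := Cfsg.Agent.Lib.helper29.fittingHallOf_le L
    have hFn : L ≤ normalizer (fittingHallOf L : Set G) :=
      Cfsg.Agent.Lib.helper29.le_normalizer_fittingHallOf L
    have hF1' : fittingHallOf L ≠ ⊥ := by
      intro h
      apply hF1
      rw [eq_bot_iff]
      intro x hx
      have h2 := (hmem x).mp hx
      rw [h, Subgroup.mem_bot] at h2
      exact Subgroup.mem_bot.mpr (Subtype.ext h2)
    obtain ⟨y, hy1⟩ := (Subgroup.ne_bot_iff_exists_ne_one).mp hF1'
    have hy1' : (y : G) ≠ 1 := fun h => hy1 (Subtype.ext h)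
    have hN : normalizer (fittingHallOf L : Set G) = L :=
      Cfsg.Agent.Lib.helper65.BGType2.normalizer_eq_of_coatom' hG.2.1 hL (fun x hx => hFL hx)
        ⟨y, y.2, hy1'⟩ hFn
    have hlt : fittingHallOf L < L := by
      refine lt_of_le_of_ne hFL ?_
      intro h
      apply hF2
      rw [eq_top_iff]
      intro x _
      rw [hmem, h]
      exact x.2
    have hFr : FrobTI (fittingHallOf L) L := by
      refine ⟨hlt, hF1', ?_, ?_, hTI, hN⟩
      · intro x hx h hh
        exact (Subgroup.mem_normalizer_iff.mp (hFn hx) h).mp hh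
      · intro h hh hh1 x hx hcomm
        exact hfrob h hh hh1 ⟨hx, Subgroup.mem_centralizer_iff.mpr fun z hz => by
          rw [Set.mem_singleton_iff.mp hz]
          exact hcomm.symm⟩
    have hnil : Group.IsNilpotent (fittingHallOf L) :=
      Cfsg.Agent.Lib.helper54.BGTypes.fittingHallOf_isNilpotent L
    have hsibTI := sibley hFr hodd hnil
    rw [Cfsg.Agent.Lib.helper29.subgroupOf_fittingHallOf L, ← hK] at hsibTI
    obtain ⟨hne, τ₁, hτ₁, hagree⟩ := hsibTI
    refine ⟨hne, τ₁, hτ₁, fun α hα => ?_⟩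
    rw [hagree α hα]
    symm
    apply dade_eq_indFun (typeA L) L (supportR L) hD ?_ α (hcls α hα) (hvan α hα)
    intro a ha
    apply Cfsg.Agent.Lib.helper88.BG1433.supportR_eq_bot_of_le
    have ha' : a ∈ fittingHallOf L ∧ a ≠ 1 := by
      unfold typeA at ha
      rw [if_pos hI] at ha
      obtain ⟨haL, ha1, x, hx, hx1, hax⟩ := ha
      exact ⟨hfrob x hx hx1 ⟨haL, Subgroup.mem_centralizer_iff.mpr fun z hz => by
        rw [Set.mem_singleton_iff.mp hz]
        exact hax.symm⟩, ha1⟩
    intro c hc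
    rw [← hN]
    by_contra hcN
    have hca : c * a * c⁻¹ = a := by
      have h := Subgroup.mem_centralizer_iff.mp hc a rfl
      rw [← h]; group
    exact ha'.2 (hTI c hcN a ha'.1 (by rw [hca]; exact ha'.1))
  · -- `H` abelian: excluded
    exfalso
    apply hna
    refine ⟨⟨fun a b => ?_⟩⟩
    have ha : ((a : L) : G) ∈ fittingHallOf L := (hmem a).mp a.2
    have hb : ((b : L) : G) ∈ fittingHallOf L := (hmem b).mp b.2
    have h1 := hab.is_comm.comm ⟨_, ha⟩ ⟨_, hb⟩
    have h2 : ((a : L) : G) * ((b : L) : G) = ((b : L) : G) * ((a : L) : G) :=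
      congrArg Subtype.val h1
    apply Subtype.ext
    apply Subtype.ext
    exact h2
  · -- the exponent of `L/H` divides `p - 1`
    exfalso
    have hm : m ≠ 0 := by
      rintro rfl
      rw [pow_zero] at hcard
      exact hF1 (Subgroup.card_eq_one.mp hcard)
    have hpK : p ∣ Nat.card K := by
      rw [hcard]; exact dvd_pow_self p hm
    have hm2 : 2 ≤ m := by
      by_contra hlt
      apply hna
      have hm1 : m = 1 := by omega
      rw [hm1, pow_one] at hcard
      have : Fact p.Prime := ⟨hp⟩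
      have hcyc : IsCyclic K := isCyclic_of_prime_card hcard
      exact inferInstance
    have : Fact p.Prime := ⟨hp⟩
    have h3 : p ^ 2 ∣ (commutator K).index :=
      Cfsg.Agent.Lib.helper15.MaxClass.sq_dvd_index_commutator hcard hm2
    have h4 : (⁅K, K⁆.subgroupOf K) = commutator K := by
      rw [← Subgroup.map_subtype_commutator]
      exact Subgroup.comap_map_eq_self_of_injective K.subtype_injective _
    rw [h4] at hidx
    have h5 : p ^ 2 ≤ (commutator K).index :=
      Nat.le_of_dvd (Nat.pos_of_ne_zero Subgroup.index_ne_zero_of_finite) h3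
    have hpodd : Odd p :=
      Odd.of_dvd_nat hodd (hpK.trans (Subgroup.card_subgroup_dvd_card K))
    have heodd : Odd K.index := Odd.of_dvd_nat hodd (Subgroup.index_dvd_card K)
    have he1 : K.index ∣ Monoid.exponent (↥L ⧸ K) :=
      index_dvd_exponent hodd K U hcompl hF1 hU1 hC
    have hpF : p ∣ Nat.card (fittingHallOf L) := by
      rw [Cfsg.Agent.Lib.helper29.card_fittingHallOf L, ← hK]; exact hpK
    have he2 : K.index ∣ p - 1 := by
      have h6 := hexp p hp hpF
      subst hK
      exact he1.trans h6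
    have h7 := arith he2 heodd hpodd hp.one_lt
    omega

/-- **Statement S1542.** -/
theorem s1542 (hG : IsMinSimpleOddOrder G) (L : Subgroup G) [Fintype L] (hL : IsCoatom L)
    (hI : IsOfTypeI L)
    (hfrob : ∀ x ∈ fittingHallOf L, x ≠ 1 → L ⊓ centralizer ({x} : Set G) ≤ fittingHallOf L) :
    (∀ χ ∈ inducedIrrAbove (fittingHall L) ⊥, IsIrrCharacter L χ) ∧
      IsCoherent (inducedIrrAbove (fittingHall L) ⊥) {1}ᶜ
        (dadeIsometry (typeA L) L (supportR L)) :=
  core hG L hL hI (fittingHall L) rfl hfrob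

end Main

end Cfsg.Agent.Lib.helper65.PF1542
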