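import Mathlib
import Cfsg.Agent.Lib.helper68.HallPet
import Cfsg.Agent.Lib.helper65.PearlPow

/-! S5238 block G (helper65 racer copies, prefixed names): HP, K9A, K9B. -/

set_option autoImplicit false

namespace Cfsg.Agent.Lib.helper65.PearlG

open Cfsg.Agent.Lib.helper68 Cfsg.Agent.Lib.helper65.PearlPow
open scoped commutatorElement

variable {G : Type*} [Group G] [Finite G]

theorem h65_gam_one (y : G) : y ∈ gam G 1 := by
  unfold gam
  simp

theorem h65_lcs_map_mul (T : Subgroup G) (j : ℕ) (h : T ≤ gam G j) (k : ℕ) :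
    ((⊤ : Subgroup ↥T).lowerCentralSeries k).map T.subtype ≤ gam G ((k + 1) * j) := by
  induction k with
  | zero =>
    rw [Subgroup.lowerCentralSeries_zero, zero_add, one_mul]
    intro a ha
    obtain ⟨b, -, rfl⟩ := ha
    exact h b.2
  | succ k ih =>
    rw [Subgroup.lowerCentralSeries_succ, Subgroup.map_commutator]
    have h1 : (⊤ : Subgroup ↥T).map T.subtype ≤ gam G j := by
      intro a ha
      obtain ⟨b, -, rfl⟩ := ha
      exact h b.2
    refine le_trans (Subgroup.commutator_mono ih h1) ?_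
    have := gam_comm_le (H := G) ((k + 1) * j) j
    rw [show (k + 1) * j + j = (k + 1 + 1) * j by ring] at this
    exact this

/-- K9A. -/
theorem h65_pg_lcs_sub_mul (T : Subgroup G) (j : ℕ) (h : T ≤ gam G j) (k : ℕ) (hk : 1 ≤ k) (a : ↥T)
    (ha : a ∈ gam ↥T k) : (a : G) ∈ gam G (k * j) := by
  have h1 := h65_lcs_map_mul T j h (k - 1)
  rw [show k - 1 + 1 = k by omega] at h1
  exact h1 ⟨a, ha, rfl⟩

theorem h65_lcs_map_add (T : Subgroup G) (j : ℕ)
    (h2 : ∀ a b : ↥T, com (a : G) (b : G) ∈ gam G (j + 1)) (k : ℕ) :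
    ((⊤ : Subgroup ↥T).lowerCentralSeries (k + 1)).map T.subtype ≤ gam G (j + k + 1) := by
  induction k with
  | zero =>
    rw [Subgroup.lowerCentralSeries_succ, Subgroup.lowerCentralSeries_zero, Subgroup.map_commutator,
      Subgroup.commutator_le]
    intro g₁ hg₁ g₂ hg₂
    obtain ⟨a, -, rfl⟩ := hg₁
    obtain ⟨b, -, rfl⟩ := hg₂
    have := h2 a⁻¹ b⁻¹
    have e : ⁅((a : ↥T) : G), ((b : ↥T) : G)⁆ = com ((a⁻¹ : ↥T) : G) ((b⁻¹ : ↥T) : G) := by
      rw [commutatorElement_def]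
      unfold com
      simp
    show ⁅((a : ↥T) : G), ((b : ↥T) : G)⁆ ∈ _
    rw [e]
    exact this
  | succ k ih =>
    rw [Subgroup.lowerCentralSeries_succ, Subgroup.map_commutator]
    have h1 : (⊤ : Subgroup ↥T).map T.subtype ≤ gam G 1 := fun a _ => h65_gam_one a
    refine le_trans (Subgroup.commutator_mono ih h1) ?_
    have := gam_comm_le (H := G) (j + k + 1) 1
    rw [show j + k + 1 + 1 = j + (k + 1) + 1 by ring] at this
    exact this

/-- K9B. -/
theorem h65_pg_lcs_sub_add (T : Subgroup G) (j : ℕ)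
    (h2 : ∀ a b : ↥T, com (a : G) (b : G) ∈ gam G (j + 1)) (k : ℕ) (hk : 2 ≤ k) (a : ↥T)
    (ha : a ∈ gam ↥T k) : (a : G) ∈ gam G (j + k - 1) := by
  have h1 := h65_lcs_map_add T j h2 (k - 2)
  rw [show j + (k - 2) + 1 = j + k - 1 by omega] at h1
  refine h1 ⟨a, ?_, rfl⟩
  have e : k - 2 + 1 = k - 1 := by omega
  rw [e]
  exact ha

/-- HP. -/
theorem h65_pg_hp (p : ℕ) [Fact p.Prime] (hGp : IsPGroup p G) (T N : Subgroup G)
    (hM : ∀ k, 2 ≤ k → ∀ a : ↥T, a ∈ gam ↥T k → (a : G) ^ (p.choose k) ∈ N) (a b : G) (ha : a ∈ T)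
    (hb : b ∈ T) : ∃ z ∈ N, (a * b) ^ p = a ^ p * b ^ p * z := by
  have hTp : IsPGroup p ↥T := hGp.to_subgroup T
  have hnil : Group.IsNilpotent ↥T := hTp.isNilpotent
  obtain ⟨c, hc⟩ := (Subgroup.nilpotent_iff_lowerCentralSeries).mp hnil
  obtain ⟨z, hz, h⟩ := hall_petrescu_mem (H := ↥T) c hc (N.subgroupOf T) p (fun k hk _ a ha' => by
      rw [Subgroup.mem_subgroupOf]
      have := hM k hk a ha'
      simpa using this) ⟨a, ha⟩ ⟨b, hb⟩
  refine ⟨(z : G), Subgroup.mem_subgroupOf.mp hz, ?_⟩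
  have := congrArg (Subtype.val) h
  simpa using this

end Cfsg.Agent.Lib.helper65.PearlG
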