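import Mathlib
import Cfsg.Agent.Lib.helper68.HallPet
import Cfsg.Agent.Lib.helper65.PearlPow
import Cfsg.Agent.Lib.helper65.PearlGA

/-! S5238 block G (helper65 racer copy): F3 core, from `gam G n = ⊥` and the surjectivity of
`g ↦ com x g` onto `gam G 2`. -/

set_option autoImplicit false

namespace Cfsg.Agent.Lib.helper65.PearlG

open Cfsg.Agent.Lib.helper68 Cfsg.Agent.Lib.helper65.PearlPow

variable {G : Type*} [Group G] [Finite G]

/-- Commutators of `zpowers x ⊔ gam G i` lie in `gam G (i + 1)`. -/
theorem h65_com_sup (x : G) (i : ℕ) (a b : G) (ha : a ∈ Subgroup.zpowers x ⊔ gam G i)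
    (hb : b ∈ Subgroup.zpowers x ⊔ gam G i) : com a b ∈ gam G (i + 1) := by
  set T : Subgroup G := Subgroup.zpowers x ⊔ gam G i with hT
  set φ := QuotientGroup.mk' (gam G (i + 1)) with hφ
  have hcen : ∀ u ∈ gam G i, ∀ s : G, φ u * φ s = φ s * φ u := by
    intro u hu s
    have h1 : com u s ∈ gam G (i + 1) := com_mem hu (h65_gam_one s)
    have h2 : φ (com u s) = 1 := (QuotientGroup.eq_one_iff _).mpr h1
    unfold com at h2
    simp only [map_mul, map_inv] at h2
    calc φ u * φ s = φ s * φ u * ((φ u)⁻¹ * (φ s)⁻¹ * φ u * φ s) := by group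
      _ = φ s * φ u := by rw [h2, mul_one]
  have hTx : T ≤ (Subgroup.centralizer {φ x}).comap φ := by
    refine sup_le ?_ ?_
    · rw [Subgroup.zpowers_le, Subgroup.mem_comap, Subgroup.mem_centralizer_iff]
      intro h hh
      rw [Set.mem_singleton_iff] at hh
      rw [hh]
    · intro u hu
      rw [Subgroup.mem_comap, Subgroup.mem_centralizer_iff]
      intro h hh
      rw [Set.mem_singleton_iff] at hh
      rw [hh]
      exact (hcen u hu x).symm
  have hTb : T ≤ (Subgroup.centralizer {φ b}).comap φ := by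
    refine sup_le ?_ ?_
    · rw [Subgroup.zpowers_le, Subgroup.mem_comap, Subgroup.mem_centralizer_iff]
      intro h hh
      rw [Set.mem_singleton_iff] at hh
      rw [hh]
      have := (Subgroup.mem_centralizer_iff.mp (Subgroup.mem_comap.mp (hTx hb))) (φ x) rfl
      exact this.symm
    · intro u hu
      rw [Subgroup.mem_comap, Subgroup.mem_centralizer_iff]
      intro h hh
      rw [Set.mem_singleton_iff] at hh
      rw [hh]
      exact (hcen u hu b).symm
  have hab := (Subgroup.mem_centralizer_iff.mp (Subgroup.mem_comap.mp (hTb ha))) (φ b) rfl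
  apply (QuotientGroup.eq_one_iff _).mp
  show φ (com a b) = 1
  unfold com
  simp only [map_mul, map_inv]
  calc (φ a)⁻¹ * (φ b)⁻¹ * φ a * φ b = (φ a)⁻¹ * (φ b)⁻¹ * (φ a * φ b) := by group
    _ = (φ a)⁻¹ * (φ b)⁻¹ * (φ b * φ a) := by rw [hab]
    _ = 1 := by group

/-- K5 core. -/
theorem h65_pg_F3_core (p : ℕ) [Fact p.Prime] (hGp : IsPGroup p G) (n : ℕ) (x : G)
    (hx : x ^ p = 1) (hbot : gam G n = ⊥) (hsurj : ∀ m ∈ gam G 2, ∃ g : G, m = com x g) :
    ∀ i, 2 ≤ i → ∀ m ∈ gam G i, m ^ p ∈ gam G (i + p - 1) := by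
  have hp := (Fact.out : p.Prime)
  have key : ∀ d i, n ≤ i + d → 2 ≤ i → ∀ m ∈ gam G i, m ^ p ∈ gam G (i + p - 1) := by
    intro d
    induction d with
    | zero =>
      intro i hin hi m hm
      have : m ∈ gam G n := gam_antitone (by omega) hm
      rw [hbot, Subgroup.mem_bot] at this
      rw [this, one_pow]
      exact Subgroup.one_mem _
    | succ d ih =>
      intro i hin hi m hm
      have IH := ih (i + 1) (by omega) (by omega)
      have hxT : x ∈ Subgroup.zpowers x ⊔ gam G i :=
        (le_sup_left : Subgroup.zpowers x ≤ _) (Subgroup.mem_zpowers x)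
      have hgT : gam G i ≤ Subgroup.zpowers x ⊔ gam G i := le_sup_right
      have hcomT : ∀ a b : ↥(Subgroup.zpowers x ⊔ gam G i),
          com (a : G) (b : G) ∈ gam G (i + 1) := fun a b => h65_com_sup x i a b a.2 b.2
      have hM : ∀ k, 2 ≤ k → ∀ a : ↥(Subgroup.zpowers x ⊔ gam G i),
          a ∈ gam ↥(Subgroup.zpowers x ⊔ gam G i) k →
            (a : G) ^ (p.choose k) ∈ gam G (i + p - 1) := by
        intro k hk a ha
        have ha' := h65_pg_lcs_sub_add _ i hcomT k hk a ha
        rcases lt_trichotomy k p with hkp | hkp | hkp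
        · obtain ⟨q, hq⟩ := hp.dvd_choose_self (by omega) hkp
          rw [hq, mul_comm, pow_mul]
          have h1 : (a : G) ^ q ∈ gam G (i + 1) :=
            (gam G (i + 1)).pow_mem (gam_antitone (by omega) ha') q
          have h2 := IH _ h1
          exact gam_antitone (by omega) h2
        · subst hkp
          rw [Nat.choose_self, pow_one]
          exact ha'
        · rw [Nat.choose_eq_zero_of_lt hkp, pow_zero]
          exact Subgroup.one_mem _
      have hm2 : m ∈ gam G 2 := gam_antitone hi hm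
      obtain ⟨g, hg⟩ := hsurj m hm2
      have hxm : (x * m) ^ p = 1 := by
        have e : x * m = g⁻¹ * x * g⁻¹⁻¹ := by
          rw [hg]
          unfold com
          group
        rw [e, conj_pow, hx]
        group
      obtain ⟨z, hz, h⟩ := h65_pg_hp p hGp (Subgroup.zpowers x ⊔ gam G i) (gam G (i + p - 1)) hM
        x⁻¹ (x * m) (Subgroup.inv_mem _ hxT) (Subgroup.mul_mem _ hxT (hgT hm))
      rw [inv_mul_cancel_left, hxm, inv_pow, hx] at h
      rw [h]
      simpa using hz
  intro i hi m hm
  exact key n i (by omega) hi m hm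

end Cfsg.Agent.Lib.helper65.PearlG
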