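import Mathlib
import Cfsg.Agent.Lib.helper68.HallPet
import Cfsg.Agent.Lib.helper65.PearlPow
import Cfsg.Agent.Lib.helper65.PearlGA

/-! S5238 block G (helper65 racer copies): cores of the F4 step, the F4 base and the uniserial
action, with the facts they use as hypotheses. -/

set_option autoImplicit false

namespace Cfsg.Agent.Lib.helper65.PearlG

open Cfsg.Agent.Lib.helper68 Cfsg.Agent.Lib.helper65.PearlPow

variable {G : Type*} [Group G] [Finite G]

/-- K7 core. -/
theorem h65_pg_F4_step_core (p : ℕ) [Fact p.Prime] (hp2 : p ≠ 2) (hGp : IsPGroup p G) (x : G)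
    (hF3 : ∀ i, 2 ≤ i → ∀ m ∈ gam G i, m ^ p ∈ gam G (i + p - 1))
    (i : ℕ) (hi : 2 ≤ i)
    (ih : ∀ m' ∈ gam G (i + 1), m' ∉ gam G (i + 2) → m' ^ p ∉ gam G (i + p + 1))
    (m : G) (hm : m ∈ gam G i) (huni : com m x ∉ gam G (i + 2)) : m ^ p ∉ gam G (i + p) := by
  have hp := (Fact.out : p.Prime)
  have hp3 : 3 ≤ p := by have := hp.two_le; omega
  intro hmp
  have hM : ∀ k, 2 ≤ k → ∀ a : ↥(gam G i), a ∈ gam ↥(gam G i) k →
      (a : G) ^ (p.choose k) ∈ gam G (i + p + 1) := by
    intro k hk a ha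
    have ha' := h65_pg_lcs_sub_mul (gam G i) i le_rfl k (by omega) a ha
    rcases lt_trichotomy k p with hkp | hkp | hkp
    · obtain ⟨q, hq⟩ := hp.dvd_choose_self (by omega) hkp
      rw [hq, mul_comm, pow_mul]
      have h1 : (a : G) ^ q ∈ gam G (2 * i) :=
        (gam G (2 * i)).pow_mem (gam_antitone (Nat.mul_le_mul_right i hk) ha') q
      have h2 := hF3 (2 * i) (by omega) _ h1
      exact gam_antitone (by omega) h2
    · subst hkp
      rw [Nat.choose_self, pow_one]
      exact gam_antitone (by nlinarith [hp3, hi]) ha'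
    · rw [Nat.choose_eq_zero_of_lt hkp, pow_zero]
      exact Subgroup.one_mem _
  have hcm : com m x ∈ gam G (i + 1) := com_mem hm (h65_gam_one x)
  obtain ⟨z, hz, h⟩ := h65_pg_hp p hGp (gam G i) (gam G (i + p + 1)) hM m (com m x) hm
    (gam_antitone (by omega) hcm)
  have e1 : m * com m x = x⁻¹ * m * x⁻¹⁻¹ := by
    unfold com
    group
  rw [e1, conj_pow] at h
  have e2 : (com m x) ^ p = com (m ^ p) x * z⁻¹ := by
    have e3 : com (m ^ p) x = (m ^ p)⁻¹ * (x⁻¹ * m ^ p * x⁻¹⁻¹) := by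
      unfold com
      group
    rw [e3, h]
    group
  have h3 : com (m ^ p) x ∈ gam G (i + p + 1) := com_mem hmp (h65_gam_one x)
  have h4 : (com m x) ^ p ∈ gam G (i + p + 1) := by
    rw [e2]
    exact Subgroup.mul_mem _ h3 (Subgroup.inv_mem _ hz)
  exact ih (com m x) hcm huni h4

/-- K6 core. -/
theorem h65_pg_F4_base_core (p : ℕ) [Fact p.Prime] (n : ℕ) (x : G) (hx : x ^ p = 1)
    (hbot : gam G n = ⊥)
    (hF3 : ∀ i, 2 ≤ i → ∀ m ∈ gam G i, m ^ p ∈ gam G (i + p - 1))
    (huni : ∀ i, 2 ≤ i → i + 2 ≤ n → ∀ m ∈ gam G i, m ∉ gam G (i + 1) →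
      com m x ∉ gam G (i + 2))
    (hn : p + 2 ≤ n) (m : G) (hm : m ∈ gam G (n - p)) (hm' : m ∉ gam G (n - p + 1))
    (g : G) (hg : g ∈ gam G (n - p - 1)) (hmg : m = com x g) : m ^ p ≠ 1 := by
  have hp := (Fact.out : p.Prime)
  have hp2 := hp.two_le
  intro hmp
  have hnil : gam G (n - p - 1 + 1 + p) = ⊥ := by
    rw [show n - p - 1 + 1 + p = n by omega]
    exact hbot
  have hexp : ∀ y ∈ gam G (n - p - 1 + 2), y ^ p = 1 := by
    intro y hy
    have := hF3 (n - p - 1 + 2) (by omega) y hy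
    rw [show n - p - 1 + 2 + p - 1 = n by omega, hbot, Subgroup.mem_bot] at this
    exact this
  have h := pearl_pow p hp (n - p - 1) (by omega) x g hx hg hnil hexp
  rw [← hmg, hmp, one_mul] at h
  have hy : ∀ k, k ≤ p - 1 →
      yk x m k ∈ gam G (n - p + k) ∧ yk x m k ∉ gam G (n - p + k + 1) := by
    intro k
    induction k with
    | zero =>
      intro _
      exact ⟨hm, hm'⟩
    | succ k ih =>
      intro hk
      obtain ⟨h1, h2⟩ := ih (by omega)
      constructor
      · show com (yk x m k) x ∈ gam G (n - p + k + 1)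
        exact com_mem h1 (h65_gam_one x)
      · show com (yk x m k) x ∉ gam G (n - p + k + 2)
        exact huni (n - p + k) (by omega) (by omega) _ h1 h2
  have := (hy (p - 1) le_rfl).2
  rw [show n - p + (p - 1) + 1 = n by omega, hbot, Subgroup.mem_bot] at this
  exact this h

/-- K4 core. -/
theorem h65_pg_uniserial_core (p : ℕ) [Fact p.Prime] (x : G) (i : ℕ)
    (hc1 : Nat.card (gam G i) = p * Nat.card (gam G (i + 1)))
    (hc2 : Nat.card (gam G (i + 2)) < Nat.card (gam G (i + 1)))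
    (hsurj : ∀ u ∈ gam G (i + 1), ∃ g ∈ gam G i, u = com x g)
    (m : G) (hm : m ∈ gam G i) (hm' : m ∉ gam G (i + 1)) : com m x ∉ gam G (i + 2) := by
  have hp := (Fact.out : p.Prime)
  intro hcon
  set φ := QuotientGroup.mk' (gam G (i + 2)) with hφ
  have hZ : ∀ h : G, h ∈ (Subgroup.centralizer {φ x}).comap φ ↔ com h x ∈ gam G (i + 2) := by
    intro h
    rw [Subgroup.mem_comap, Subgroup.mem_centralizer_iff, ← QuotientGroup.eq_one_iff]
    constructor
    · intro hh
      have h1 := hh (φ x) rfl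
      show φ (com h x) = 1
      unfold com
      simp only [map_mul, map_inv]
      calc (φ h)⁻¹ * (φ x)⁻¹ * φ h * φ x = (φ h)⁻¹ * (φ x)⁻¹ * (φ h * φ x) := by group
        _ = (φ h)⁻¹ * (φ x)⁻¹ * (φ x * φ h) := by rw [h1]
        _ = 1 := by group
    · intro hh y hy
      rw [Set.mem_singleton_iff] at hy
      rw [hy]
      have h2 : φ (com h x) = 1 := hh
      unfold com at h2
      simp only [map_mul, map_inv] at h2
      calc φ x * φ h = φ h * φ x * ((φ h)⁻¹ * (φ x)⁻¹ * φ h * φ x)⁻¹ := by group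
        _ = φ h * φ x := by rw [h2, inv_one, mul_one]
  set B : Subgroup G := gam G i ⊓ (Subgroup.centralizer {φ x}).comap φ with hB
  have h1 : gam G (i + 1) ≤ B := by
    intro u hu
    exact Subgroup.mem_inf.mpr ⟨gam_antitone (by omega) hu,
      (hZ u).mpr (com_mem (i := i + 1) (j := 1) hu (h65_gam_one x))⟩
  have hmB : m ∈ B := Subgroup.mem_inf.mpr ⟨hm, (hZ m).mpr hcon⟩
  have hBle : B ≤ gam G i := inf_le_left
  have hBeq : B = gam G i := by
    apply Subgroup.eq_of_le_of_card_ge hBle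
    obtain ⟨t, ht⟩ := Subgroup.card_dvd_of_le h1
    have hpos : 0 < Nat.card (gam G (i + 1)) := Nat.card_pos
    have ht2 : Nat.card B ∣ Nat.card (gam G i) := Subgroup.card_dvd_of_le hBle
    rw [hc1, ht, mul_comm p] at ht2
    have ht3 : t ∣ p := Nat.dvd_of_mul_dvd_mul_left hpos ht2
    rcases (Nat.dvd_prime hp).mp ht3 with h | h
    · exfalso
      rw [h, mul_one] at ht
      have := Subgroup.eq_of_le_of_card_ge h1 (le_of_eq ht)
      rw [← this] at hmB
      exact hm' hmB
    · rw [hc1, ht, h, mul_comm]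
  have h2 : gam G (i + 1) ≤ gam G (i + 2) := by
    intro u hu
    obtain ⟨g, hg, rfl⟩ := hsurj u hu
    have hgB : g ∈ B := by rw [hBeq]; exact hg
    have h3 : com g x ∈ gam G (i + 2) := (hZ g).mp (Subgroup.mem_inf.mp hgB).2
    have e : com x g = (com g x)⁻¹ := by
      unfold com
      group
    rw [e]
    exact Subgroup.inv_mem _ h3
  have := Nat.le_of_dvd Nat.card_pos (Subgroup.card_dvd_of_le h2)
  omega

end Cfsg.Agent.Lib.helper65.PearlG
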