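import Mathlib
import Cfsg.Agent.Lib.helper81.S0197Defs

/-!
Piece PB of the S0197 split: the two rows with `b ≠ 0`.
-/

set_option autoImplicit false

namespace Cfsg.Agent.Lib.helper65.S0197

open Cfsg Cfsg.Agent.Lib.helper81.S0197

theorem int_sq_le_two (x : ℤ) (h0 : x ≠ 0) (h2 : x ^ 2 ≤ 2) : x = 1 ∨ x = -1 := by
  have h3 : x ≤ 1 := by nlinarith
  have h4 : -1 ≤ x := by nlinarith
  omega

theorem sum_sq_two {ι : Type*} [Fintype ι] (b : ι → ℤ) (h : ∑ i, b i ^ 2 = 2) :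
    ∃ i j : ι, i ≠ j ∧ (b i = 1 ∨ b i = -1) ∧ (b j = 1 ∨ b j = -1) ∧
      ∀ k, k ≠ i → k ≠ j → b k = 0 := by
  classical
  have hnn : ∀ s : Finset ι, 0 ≤ ∑ k ∈ s, b k ^ 2 := fun s =>
    Finset.sum_nonneg (fun k _ => sq_nonneg _)
  obtain ⟨i, hi⟩ : ∃ i, b i ≠ 0 := by
    by_contra hne
    have h0 : ∑ i, b i ^ 2 = 0 := Finset.sum_eq_zero (fun i _ => by
      have : b i = 0 := by
        by_contra h1
        exact hne ⟨i, h1⟩
      rw [this]; ring)
    omega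
  have e1 : b i ^ 2 + ∑ k ∈ Finset.univ.erase i, b k ^ 2 = 2 :=
    (Finset.add_sum_erase Finset.univ (fun k => b k ^ 2) (Finset.mem_univ i)).trans h
  have hi2 : b i = 1 ∨ b i = -1 := by
    apply int_sq_le_two _ hi
    have := hnn (Finset.univ.erase i)
    linarith
  have hi3 : b i ^ 2 = 1 := by rcases hi2 with h1 | h1 <;> rw [h1] <;> norm_num
  have e2 : ∑ k ∈ Finset.univ.erase i, b k ^ 2 = 1 := by linarith
  obtain ⟨j, hj, hj0⟩ : ∃ j ∈ Finset.univ.erase i, b j ≠ 0 := by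
    by_contra hne
    have h0 : ∑ k ∈ Finset.univ.erase i, b k ^ 2 = 0 := Finset.sum_eq_zero (fun k hk => by
      have : b k = 0 := by
        by_contra h1
        exact hne ⟨k, hk, h1⟩
      rw [this]; ring)
    omega
  have e3 : b j ^ 2 + ∑ k ∈ (Finset.univ.erase i).erase j, b k ^ 2 = 1 :=
    (Finset.add_sum_erase (Finset.univ.erase i) (fun k => b k ^ 2) hj).trans e2
  have hj2 : b j = 1 ∨ b j = -1 := by
    apply int_sq_le_two _ hj0
    have := hnn ((Finset.univ.erase i).erase j)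
    linarith
  have hj3 : b j ^ 2 = 1 := by rcases hj2 with h1 | h1 <;> rw [h1] <;> norm_num
  have e4 : ∑ k ∈ (Finset.univ.erase i).erase j, b k ^ 2 = 0 := by linarith
  have hji : j ≠ i := Finset.ne_of_mem_erase hj
  refine ⟨i, j, hji.symm, hi2, hj2, ?_⟩
  intro k hki hkj
  have hk : k ∈ (Finset.univ.erase i).erase j :=
    Finset.mem_erase.mpr ⟨hkj, Finset.mem_erase.mpr ⟨hki, Finset.mem_univ k⟩⟩
  have h5 := (Finset.sum_eq_zero_iff_of_nonneg (fun k _ => sq_nonneg (b k))).mp e4 k hk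
  exact pow_eq_zero_iff (two_ne_zero) |>.mp h5

theorem sum_two_support {ι : Type*} [Fintype ι] (F b : ι → ℤ) (i j : ι) (hij : i ≠ j)
    (hb : ∀ k, k ≠ i → k ≠ j → b k = 0) : ∑ k, F k * b k = F i * b i + F j * b j := by
  classical
  apply Fintype.sum_eq_add i j hij
  intro k hk
  rw [hb k hk.1 hk.2, mul_zero]

/-- PIECE PB: the two rows with `b ≠ 0`. -/
theorem pat_b {ι : Type*} [Fintype ι] {χ0 : ι} {T Y W a b f : ι → ℤ} {g : ℤ}
    (h : Arith ι χ0 T Y W a b f g) :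
    ∃ i4 i5 : ι, i4 ≠ i5 ∧ b i4 = 1 ∧ b i5 = -1 ∧ (∀ k, k ≠ i4 → k ≠ i5 → b k = 0) ∧
      T i4 = T i5 ∧ Y i4 = Y i5 ∧ W i4 = W i5 ∧ a i4 = a i5 := by
  obtain ⟨i, j, hij, hi, hj, hb⟩ := sum_sq_two b h.sbb
  have key : ∀ i4 i5 : ι, i4 ≠ i5 → b i4 = 1 → b i5 = -1 → (∀ k, k ≠ i4 → k ≠ i5 → b k = 0) →
      ∃ i4 i5 : ι, i4 ≠ i5 ∧ b i4 = 1 ∧ b i5 = -1 ∧ (∀ k, k ≠ i4 → k ≠ i5 → b k = 0) ∧
        T i4 = T i5 ∧ Y i4 = Y i5 ∧ W i4 = W i5 ∧ a i4 = a i5 := by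
    intro i4 i5 h45 h4 h5 hb'
    refine ⟨i4, i5, h45, h4, h5, hb', ?_, ?_, ?_, ?_⟩
    · have e := h.sTb
      rw [sum_two_support T b i4 i5 h45 hb', h4, h5] at e
      linarith
    · have e := h.sYb
      rw [sum_two_support Y b i4 i5 h45 hb', h4, h5] at e
      linarith
    · have e := h.sWb
      rw [sum_two_support W b i4 i5 h45 hb', h4, h5] at e
      linarith
    · have e := h.sab
      rw [sum_two_support a b i4 i5 h45 hb', h4, h5] at e
      linarith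
  have e := h.sfb
  rw [sum_two_support f b i j hij hb] at e
  have fi := h.f_pos i
  have fj := h.f_pos j
  rcases hi with hi | hi <;> rcases hj with hj | hj
  · rw [hi, hj] at e; linarith
  · exact key i j hij hi hj hb
  · exact key j i hij.symm hj hi (fun k hk1 hk2 => hb k hk2 hk1)
  · rw [hi, hj] at e; linarith

end Cfsg.Agent.Lib.helper65.S0197
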