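import Mathlib
import Cfsg.Agent.Lib.helper6.S3366Defs

/-!
Piece P8 of the S3366 split: the action of a complement `L` on the Heisenberg coordinates is
that of `SL(2,3)`.
-/

set_option autoImplicit false

namespace Cfsg.Agent.Lib.helper65.S3366

open Cfsg.Agent.Lib.helper6.S3366

theorem zmod3_cases : ∀ x : ZMod 3, x = 0 ∨ x = 1 ∨ x = 2 := by decide

/-- A multiplicative self-map of `H3` fixing the central generator and commuting with `neg` is
the action of an element of `SL(2,3)`. -/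
theorem h3_hom_eq_act (θ : H3 → H3) (hmul : ∀ h h', θ (h * h') = θ h * θ h')
    (hc : θ ⟨0, 0, 1⟩ = ⟨0, 0, 1⟩) (hneg : ∀ h, θ (H3.neg h) = H3.neg (θ h)) :
    ∃ A : SL23, ∀ h, θ h = H3.act A h := by
  have h1 : θ 1 = 1 := by
    have := hmul 1 1
    rw [mul_one] at this
    exact left_eq_mul.mp this
  have h0 : θ ⟨0, 0, 0⟩ = ⟨0, 0, 0⟩ := h1
  obtain ⟨P, hP⟩ : ∃ P, P = θ ⟨1, 0, 0⟩ := ⟨_, rfl⟩
  obtain ⟨Q, hQ⟩ : ∃ Q, Q = θ ⟨0, 1, 0⟩ := ⟨_, rfl⟩
  have key : ∀ u : H3, H3.neg u = u * u → (θ u).k = 0 := by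
    intro u hu
    have e := hneg u
    rw [hu, hmul] at e
    have e2 := congrArg H3.k e
    simp only [H3.mul_def, H3.neg] at e2
    linear_combination e2
  have hPk : P.k = 0 := by rw [hP]; exact key _ (by decide)
  have hQk : Q.k = 0 := by rw [hQ]; exact key _ (by decide)
  have hTk : (θ ⟨1, 1, 0⟩).k = 0 := key _ (by decide)
  have hT : θ ⟨1, 1, 0⟩ = P * Q * ⟨0, 0, 1⟩ := by
    rw [hP, hQ, ← hc, ← hmul, ← hmul]
    exact congrArg θ (by decide)
  have hdet : P.x * Q.y - Q.x * P.y = 1 := by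
    have e := congrArg H3.k hT
    rw [hTk] at e
    simp only [H3.mul_def] at e
    rw [hPk, hQk] at e
    linear_combination e
  have hE1 : ∀ x : ZMod 3, θ ⟨x, 0, 0⟩ = ⟨x * P.x, x * P.y, 0⟩ := by
    intro x
    rcases zmod3_cases x with rfl | rfl | rfl
    · rw [h0]; ext <;> simp
    · rw [← hP]; ext <;> simp [hPk]
    · have e : (⟨2, 0, 0⟩ : H3) = ⟨1, 0, 0⟩ * ⟨1, 0, 0⟩ := by decide
      rw [e, hmul, ← hP]
      ext
      · simp only [H3.mul_def]; ring
      · simp only [H3.mul_def]; ring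
      · simp only [H3.mul_def]; rw [hPk]; ring
  have hE2 : ∀ y : ZMod 3, θ ⟨0, y, 0⟩ = ⟨y * Q.x, y * Q.y, 0⟩ := by
    intro y
    rcases zmod3_cases y with rfl | rfl | rfl
    · rw [h0]; ext <;> simp
    · rw [← hQ]; ext <;> simp [hQk]
    · have e : (⟨0, 2, 0⟩ : H3) = ⟨0, 1, 0⟩ * ⟨0, 1, 0⟩ := by decide
      rw [e, hmul, ← hQ]
      ext
      · simp only [H3.mul_def]; ring
      · simp only [H3.mul_def]; ring
      · simp only [H3.mul_def]; rw [hQk]; ring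
  have hC : ∀ m : ZMod 3, θ ⟨0, 0, m⟩ = ⟨0, 0, m⟩ := by
    intro m
    rcases zmod3_cases m with rfl | rfl | rfl
    · exact h0
    · exact hc
    · have e : (⟨0, 0, 2⟩ : H3) = ⟨0, 0, 1⟩ * ⟨0, 0, 1⟩ := by decide
      rw [e, hmul, hc]
  refine ⟨⟨!![P.x, Q.x; P.y, Q.y], ?_⟩, ?_⟩
  · rw [Matrix.det_fin_two_of]; exact hdet
  · intro h
    have e : h = ⟨h.x, 0, 0⟩ * ⟨0, h.y, 0⟩ * ⟨0, 0, h.k + h.x * h.y⟩ := by
      ext
      · simp [H3.mul_def]
      · simp [H3.mul_def]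
      · simp only [H3.mul_def]; ring
    have e' : θ h = ⟨h.x * P.x, h.x * P.y, 0⟩ * ⟨h.y * Q.x, h.y * Q.y, 0⟩ *
        ⟨0, 0, h.k + h.x * h.y⟩ := by
      conv_lhs => rw [e]
      rw [hmul, hmul, hE1, hE2, hC]
    rw [e']
    ext
    · simp only [H3.mul_def, H3.act]
      show h.x * P.x + h.y * Q.x + 0 = P.x * h.x + Q.x * h.y
      ring
    · simp only [H3.mul_def, H3.act]
      show h.x * P.y + h.y * Q.y + 0 = P.y * h.x + Q.y * h.y
      ring
    · simp only [H3.mul_def, H3.act]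
      linear_combination (-(h.x * h.y)) * hdet

theorem h3_act_inj (A B : SL23) (h : ∀ u : H3, H3.act A u = H3.act B u) : A = B := by
  have e1 := h ⟨1, 0, 0⟩
  have e2 := h ⟨0, 1, 0⟩
  simp only [H3.act, mul_one, mul_zero, add_zero, zero_add, H3.mk.injEq, and_true] at e1 e2
  ext i j
  fin_cases i <;> fin_cases j
  · exact e1.1
  · exact e2.1
  · exact e1.2
  · exact e2.2

section P8

variable {X : Type*} [Group X] [Finite X] {R : Subgroup X} {π : X →* SL23} {z : X}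

theorem exists_lam (S : Setting X R π z) (hz : ∀ g : X, g * z = z * g)
    (hK : ∀ x : X, (∀ r ∈ R, x * r = r * x) → x ∈ R)
    (t : X) (ι : H3 →* X) (hι : Function.Injective ι) (hιR : ∀ r : X, r ∈ R ↔ ∃ h, ι h = r)
    (hιt : ∀ h, t * ι h * t⁻¹ = ι (H3.neg h))
    (L : Subgroup X) (hLt : ∀ l ∈ L, l * t = t * l) (hLR : ∀ l ∈ L, l ∈ R → l = 1)
    (hL : Nat.card L = 24) :
    ∃ lam : SL23 →* X, (∀ A, lam A ∈ L) ∧ Function.Injective lam ∧
      ∀ (A : SL23) (h : H3), lam A * ι h * (lam A)⁻¹ = ι (phi A h) := by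
  have hnorm : ∀ (l : X) (h : H3), ∃ h', ι h' = l * ι h * l⁻¹ := by
    intro l h
    refine (hιR _).mp ((S.ker _).mp ?_)
    rw [map_mul, map_mul, map_inv, (S.ker _).mpr ((hιR _).mpr ⟨h, rfl⟩), mul_one,
      mul_inv_cancel]
  choose θ hθ using hnorm
  have θ_mul : ∀ l h h', θ l (h * h') = θ l h * θ l h' := by
    intro l h h'
    apply hι
    rw [hθ, map_mul, map_mul, hθ, hθ]
    group
  have θ_comp : ∀ l l' h, θ (l * l') h = θ l (θ l' h) := by
    intro l l' h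
    apply hι
    rw [hθ, hθ, hθ]
    group
  have hcz : ι ⟨0, 0, 1⟩ ∈ Subgroup.zpowers z := by
    refine (S.cent _ ((hιR _).mpr ⟨_, rfl⟩)).mp ?_
    intro s hs
    obtain ⟨h, rfl⟩ := (hιR s).mp hs
    rw [← map_mul, ← map_mul]
    congr 1
    ext
    · simp [H3.mul_def]
    · simp [H3.mul_def]
    · simp only [H3.mul_def]; ring
  have θ_c : ∀ l, θ l ⟨0, 0, 1⟩ = ⟨0, 0, 1⟩ := by
    intro l
    apply hι
    rw [hθ]
    obtain ⟨k, hk⟩ := Subgroup.mem_zpowers_iff.mp hcz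
    rw [← hk]
    have hcomm : Commute l (z ^ k) := Commute.zpow_right (hz l) k
    exact mul_inv_eq_iff_eq_mul.mpr hcomm.eq
  have θ_neg : ∀ l, l * t = t * l → ∀ h, θ l (H3.neg h) = H3.neg (θ l h) := by
    intro l hl h
    apply hι
    rw [hθ, ← hιt, ← hιt, hθ]
    have e : l * (t * ι h * t⁻¹) * l⁻¹ = (l * t) * ι h * (l * t)⁻¹ := by group
    rw [e, hl]
    group
  have hex : ∀ l : ↥L, ∃ A : SL23, ∀ h, θ (l : X) h = H3.act A h := fun l =>
    h3_hom_eq_act (θ l) (θ_mul l) (θ_c l) (θ_neg l (hLt l l.2))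
  choose ρ hρ using hex
  have ρ_mul : ∀ l l' : ↥L, ρ (l * l') = ρ l * ρ l' := by
    intro l l'
    apply h3_act_inj
    intro h
    rw [← hρ, Subgroup.coe_mul, θ_comp, hρ, hρ, H3.act_act]
  let ρhom : ↥L →* SL23 := MonoidHom.mk' ρ ρ_mul
  have hinj : Function.Injective ρhom := by
    rw [injective_iff_map_eq_one]
    intro l hl
    have hl' : ρ l = 1 := hl
    have hfix : ∀ h, θ (l : X) h = h := by
      intro h
      rw [hρ, hl', H3.act_one]
    have hlR : (l : X) ∈ R := by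
      apply hK
      intro r hr
      obtain ⟨h, rfl⟩ := (hιR r).mp hr
      have e := hθ (l : X) h
      rw [hfix] at e
      exact (mul_inv_eq_iff_eq_mul.mp e.symm)
    exact Subtype.ext (hLR _ l.2 hlR)
  have hbij : Function.Bijective ρhom :=
    (Nat.bijective_iff_injective_and_card ρhom).mpr ⟨hinj, by rw [hL, card_SL23]⟩
  let e : ↥L ≃* SL23 := MulEquiv.ofBijective ρhom hbij
  refine ⟨L.subtype.comp e.symm.toMonoidHom, fun A => (e.symm A).2, ?_, ?_⟩
  · exact L.subtype_injective.comp e.symm.injective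
  · intro A h
    show ((e.symm A : ↥L) : X) * ι h * ((e.symm A : ↥L) : X)⁻¹ = ι (phi A h)
    rw [← hθ, hρ]
    have e2 : ρ (e.symm A) = A := e.apply_symm_apply A
    rw [e2]
    rfl

end P8

end Cfsg.Agent.Lib.helper65.S3366
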