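import Mathlib
import Cfsg.Agent.Lib.helper24.S6eDefs

/-! S6002 split (helper24), piece AINV (racer copy): exactly ten non-central involutions. -/

set_option autoImplicit false

namespace Cfsg.Agent.Lib.helper24

open Matrix Cfsg Cfsg.Geo

/-- Five pairwise anticommuting involutions: none is `± 1`, and they are pairwise non-proportional. -/
theorem h65_s6_anti_aux {F : Type*} [Field F] (h2 : (2 : F) ≠ 0) {n : Type*} [Fintype n]
    [DecidableEq n] [Nonempty n] (G : Fin 5 → Matrix n n F) (hG2 : ∀ i, G i * G i = 1)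
    (hGa : ∀ i j, i ≠ j → G i * G j = -(G j * G i)) :
    (∀ i (c d : F), c * c = 1 → d * d = 1 → c • G i ≠ d • (1 : Matrix n n F)) ∧
    (∀ i j (c d : F), c * c = 1 → d * d = 1 → c • G i = d • G j → i = j ∧ c = d) := by
  have hne0 : ∀ i, G i ≠ 0 := by
    intro i h0
    have := hG2 i
    rw [h0, mul_zero] at this
    exact zero_ne_one this
  have hprop : ∀ i j (e : F), e * e = 1 → i ≠ j → G i ≠ e • G j := by
    intro i j e he hij h
    have e0 : e ≠ 0 := by
      rintro rfl
      simp at he
    have h1 : G i * G j = e • (1 : Matrix n n F) := by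
      rw [h, Matrix.smul_mul, hG2]
    have h3 : G j * G i = e • (1 : Matrix n n F) := by
      rw [h, Matrix.mul_smul, hG2]
    have h4 := hGa i j hij
    rw [h1, h3] at h4
    have h5 : (2 * e) • (1 : Matrix n n F) = 0 := by
      have : e • (1 : Matrix n n F) + e • (1 : Matrix n n F) = 0 := by
        nth_rewrite 1 [h4]
        exact neg_add_cancel _
      rw [← add_smul] at this
      rw [two_mul]
      exact this
    rcases smul_eq_zero.mp h5 with h6 | h6
    · exact (mul_ne_zero h2 e0) h6
    · exact one_ne_zero h6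
  constructor
  · intro i c d hc hd h
    obtain ⟨j, hj⟩ := exists_ne i
    have hGi : G i = (c * d) • (1 : Matrix n n F) := by
      have : c • (c • G i) = c • (d • (1 : Matrix n n F)) := by rw [h]
      rw [smul_smul, smul_smul, hc, one_smul] at this
      exact this
    have he : (c * d) * (c * d) = 1 := by
      calc (c * d) * (c * d) = (c * c) * (d * d) := by ring
        _ = 1 := by rw [hc, hd, one_mul]
    have e0 : c * d ≠ 0 := by
      intro h0
      rw [h0] at he
      simp at he
    have h4 := hGa i j (Ne.symm hj)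
    rw [hGi, Matrix.smul_mul, Matrix.mul_smul, Matrix.one_mul, Matrix.mul_one] at h4
    have h5 : (2 * (c * d)) • G j = 0 := by
      have : (c * d) • G j + (c * d) • G j = 0 := by
        nth_rewrite 1 [h4]
        exact neg_add_cancel _
      rw [← add_smul] at this
      rw [two_mul]
      exact this
    rcases smul_eq_zero.mp h5 with h6 | h6
    · exact (mul_ne_zero h2 e0) h6
    · exact hne0 j h6
  · intro i j c d hc hd h
    have hGi : G i = (c * d) • G j := by
      have : c • (c • G i) = c • (d • G j) := by rw [h]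
      rw [smul_smul, smul_smul, hc, one_smul] at this
      exact this
    have he : (c * d) * (c * d) = 1 := by
      calc (c * d) * (c * d) = (c * c) * (d * d) := by ring
        _ = 1 := by rw [hc, hd, one_mul]
    by_cases hij : i = j
    · refine ⟨hij, ?_⟩
      subst hij
      have h7 : (c - d) • G i = 0 := by
        rw [sub_smul, h, sub_self]
      rcases smul_eq_zero.mp h7 with h6 | h6
      · exact sub_eq_zero.mp h6
      · exact absurd h6 (hne0 i)
    · exact absurd hGi (hprop i j _ he hij)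

/-- AINV (L), racer copy. -/
theorem h65_s6_invol_card {F : Type*} [Field F] [Fintype F] (h2 : (2 : F) ≠ 0) (R : Subgroup (GL S6I F))
    (hneg : ∃ z ∈ R, (z : Matrix S6I S6I F) = -1) (t : Fin 4 → GL S6I F) (hfr : S6Frame R t) :
    Nat.card {s : GL S6I F // s ∈ R ∧ (s : Matrix S6I S6I F) * (s : Matrix S6I S6I F) = 1 ∧ (s : Matrix S6I S6I F) ≠ 1 ∧ (s : Matrix S6I S6I F) ≠ -1} = 10 := by
  classical
  obtain ⟨z, hzR, hz⟩ := hneg
  obtain ⟨htR, ht2, hta, hgen⟩ := hfr
  -- the four matrices
  obtain ⟨A, hA⟩ : ∃ A : Matrix S6I S6I F, A = (t 0 : Matrix S6I S6I F) := ⟨_, rfl⟩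
  obtain ⟨B, hB⟩ : ∃ B : Matrix S6I S6I F, B = (t 1 : Matrix S6I S6I F) := ⟨_, rfl⟩
  obtain ⟨C, hC⟩ : ∃ C : Matrix S6I S6I F, C = (t 2 : Matrix S6I S6I F) := ⟨_, rfl⟩
  obtain ⟨D, hD⟩ : ∃ D : Matrix S6I S6I F, D = (t 3 : Matrix S6I S6I F) := ⟨_, rfl⟩
  have hAA : A * A = 1 := by rw [hA]; exact ht2 0
  have hBB : B * B = 1 := by rw [hB]; exact ht2 1
  have hCC : C * C = 1 := by rw [hC]; exact ht2 2
  have hDD : D * D = 1 := by rw [hD]; exact ht2 3
  have hBA : B * A = -(A * B) := by rw [hA, hB]; exact hta 1 0 (by decide)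
  have hCA : C * A = -(A * C) := by rw [hA, hC]; exact hta 2 0 (by decide)
  have hDA : D * A = -(A * D) := by rw [hA, hD]; exact hta 3 0 (by decide)
  have hCB : C * B = -(B * C) := by rw [hB, hC]; exact hta 2 1 (by decide)
  have hDB : D * B = -(B * D) := by rw [hB, hD]; exact hta 3 1 (by decide)
  have hDC : D * C = -(C * D) := by rw [hC, hD]; exact hta 3 2 (by decide)
  have hAA' : ∀ X : Matrix S6I S6I F, A * (A * X) = X := fun X => by rw [← mul_assoc, hAA, one_mul]
  have hBB' : ∀ X : Matrix S6I S6I F, B * (B * X) = X := fun X => by rw [← mul_assoc, hBB, one_mul]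
  have hCC' : ∀ X : Matrix S6I S6I F, C * (C * X) = X := fun X => by rw [← mul_assoc, hCC, one_mul]
  have hDD' : ∀ X : Matrix S6I S6I F, D * (D * X) = X := fun X => by rw [← mul_assoc, hDD, one_mul]
  have hBA' : ∀ X : Matrix S6I S6I F, B * (A * X) = -(A * (B * X)) := fun X => by
    rw [← mul_assoc, hBA, neg_mul, mul_assoc]
  have hCA' : ∀ X : Matrix S6I S6I F, C * (A * X) = -(A * (C * X)) := fun X => by
    rw [← mul_assoc, hCA, neg_mul, mul_assoc]
  have hDA' : ∀ X : Matrix S6I S6I F, D * (A * X) = -(A * (D * X)) := fun X => by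
    rw [← mul_assoc, hDA, neg_mul, mul_assoc]
  have hCB' : ∀ X : Matrix S6I S6I F, C * (B * X) = -(B * (C * X)) := fun X => by
    rw [← mul_assoc, hCB, neg_mul, mul_assoc]
  have hDB' : ∀ X : Matrix S6I S6I F, D * (B * X) = -(B * (D * X)) := fun X => by
    rw [← mul_assoc, hDB, neg_mul, mul_assoc]
  have hDC' : ∀ X : Matrix S6I S6I F, D * (C * X) = -(C * (D * X)) := fun X => by
    rw [← mul_assoc, hDC, neg_mul, mul_assoc]
  -- the five anticommuting involutions
  obtain ⟨G, hG⟩ : ∃ G : Fin 5 → Matrix S6I S6I F, G = ![A, B, C, D, A * B * C * D] := ⟨_, rfl⟩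
  have hG2 : ∀ i, G i * G i = 1 := by
    intro i
    rw [hG]
    fin_cases i <;>
      simp only [Fin.zero_eta, Fin.mk_one, Fin.reduceFinMk, Matrix.cons_val_zero, Matrix.cons_val_one,
        Matrix.cons_val, mul_assoc, hAA, hBB, hCC, hDD, hBA, hCA, hDA, hCB, hDB, hDC, hAA', hBB', hCC', hDD',
        hBA', hCA', hDA', hCB', hDB', hDC', neg_mul, mul_neg, neg_neg, mul_one, one_mul]
  have hGa : ∀ i j, i ≠ j → G i * G j = -(G j * G i) := by
    intro i j hij
    rw [hG]
    fin_cases i <;> fin_cases j <;>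
      first
      | exact absurd rfl hij
      | simp only [Fin.zero_eta, Fin.mk_one, Fin.reduceFinMk, Matrix.cons_val_zero, Matrix.cons_val_one,
          Matrix.cons_val, mul_assoc, hAA, hBB, hCC, hDD, hBA, hCA, hDA, hCB, hDB, hDC, hAA', hBB', hCC', hDD',
          hBA', hCA', hDA', hCB', hDB', hDC', neg_mul, mul_neg, neg_neg, mul_one, one_mul]
  obtain ⟨haux1, haux2⟩ := h65_s6_anti_aux h2 G hG2 hGa
  -- units
  obtain ⟨g, hg⟩ : ∃ g : Fin 5 → GL S6I F, g = ![t 0, t 1, t 2, t 3, t 0 * t 1 * t 2 * t 3] := ⟨_, rfl⟩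
  have hgR : ∀ i, g i ∈ R := by
    intro i
    rw [hg]
    fin_cases i
    · exact htR 0
    · exact htR 1
    · exact htR 2
    · exact htR 3
    · exact R.mul_mem (R.mul_mem (R.mul_mem (htR 0) (htR 1)) (htR 2)) (htR 3)
  have hgG : ∀ i, (g i : Matrix S6I S6I F) = G i := by
    intro i
    rw [hg, hG]
    fin_cases i
    · exact hA.symm
    · exact hB.symm
    · exact hC.symm
    · exact hD.symm
    · show ((t 0 * t 1 * t 2 * t 3 : GL S6I F) : Matrix S6I S6I F) = A * B * C * D
      rw [Units.val_mul, Units.val_mul, Units.val_mul, hA, hB, hC, hD]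
  -- signs
  have hsgn : ∀ ε : Bool, ((if ε then (-1 : F) else 1) * (if ε then (-1 : F) else 1)) = 1 := by
    intro ε; cases ε <;> simp
  have hmat : ∀ (i : Fin 5) (ε : Bool), (((if ε then z else 1) * g i : GL S6I F) : Matrix S6I S6I F) =
      (if ε then (-1 : F) else 1) • G i := by
    intro i ε
    rw [Units.val_mul, hgG]
    cases ε
    · simp
    · simp [hz]
  have hm1 : (-1 : Matrix S6I S6I F) = (-1 : F) • (1 : Matrix S6I S6I F) := by simp
  have hp1 : (1 : Matrix S6I S6I F) = (1 : F) • (1 : Matrix S6I S6I F) := by simp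
  have hneg1 : (-1 : Matrix S6I S6I F) ≠ 1 := by
    intro h
    have e := congrFun (congrFun h (Sum.inl 0)) (Sum.inl 0)
    simp only [Matrix.neg_apply, Matrix.one_apply_eq] at e
    apply h2
    linear_combination -e
  -- the map
  let f : Fin 5 × Bool → {s : GL S6I F // s ∈ R ∧ (s : Matrix S6I S6I F) * (s : Matrix S6I S6I F) = 1 ∧
      (s : Matrix S6I S6I F) ≠ 1 ∧ (s : Matrix S6I S6I F) ≠ -1} := fun p =>
    ⟨(if p.2 then z else 1) * g p.1, by
      refine ⟨R.mul_mem (by split_ifs; exact hzR; exact R.one_mem) (hgR _), ?_, ?_, ?_⟩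
      · rw [hmat, Matrix.smul_mul, Matrix.mul_smul, smul_smul, hsgn, one_smul, hG2]
      · rw [hmat, hp1]
        exact haux1 _ _ _ (hsgn _) (by simp)
      · rw [hmat, hm1]
        exact haux1 _ _ _ (hsgn _) (by simp)⟩
  have hfinj : Function.Injective f := by
    rintro ⟨i, ε⟩ ⟨j, δ⟩ h
    have h' : (((if ε then z else 1) * g i : GL S6I F) : Matrix S6I S6I F) =
        (((if δ then z else 1) * g j : GL S6I F) : Matrix S6I S6I F) := by
      have := congrArg (fun s => ((s.1 : GL S6I F) : Matrix S6I S6I F)) h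
      exact this
    rw [hmat, hmat] at h'
    obtain ⟨hij, hcd⟩ := haux2 i j _ _ (hsgn ε) (hsgn δ) h'
    subst hij
    have : ε = δ := by
      cases ε <;> cases δ
      · rfl
      · exfalso
        simp only [Bool.false_eq_true, if_false, if_true] at hcd
        apply h2
        linear_combination hcd
      · exfalso
        simp only [Bool.false_eq_true, if_false, if_true] at hcd
        apply h2
        linear_combination -hcd
      · rfl
    rw [this]
  -- the frame products
  have hP : ∀ a : Fin 4 → Bool,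
      ((if a 0 then (t 0 : Matrix S6I S6I F) else 1) * (if a 1 then (t 1 : Matrix S6I S6I F) else 1) *
        (if a 2 then (t 2 : Matrix S6I S6I F) else 1) * (if a 3 then (t 3 : Matrix S6I S6I F) else 1) = 1) ∨
      (∃ i, (if a 0 then (t 0 : Matrix S6I S6I F) else 1) * (if a 1 then (t 1 : Matrix S6I S6I F) else 1) *
        (if a 2 then (t 2 : Matrix S6I S6I F) else 1) * (if a 3 then (t 3 : Matrix S6I S6I F) else 1) = G i) ∨
      (((if a 0 then (t 0 : Matrix S6I S6I F) else 1) * (if a 1 then (t 1 : Matrix S6I S6I F) else 1) *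
        (if a 2 then (t 2 : Matrix S6I S6I F) else 1) * (if a 3 then (t 3 : Matrix S6I S6I F) else 1)) *
       ((if a 0 then (t 0 : Matrix S6I S6I F) else 1) * (if a 1 then (t 1 : Matrix S6I S6I F) else 1) *
        (if a 2 then (t 2 : Matrix S6I S6I F) else 1) * (if a 3 then (t 3 : Matrix S6I S6I F) else 1)) = -1) := by
    intro a
    rw [← hA, ← hB, ← hC, ← hD]
    cases a 0 <;> cases a 1 <;> cases a 2 <;> cases a 3 <;>
      simp only [Bool.false_eq_true, if_false, if_true, mul_one, one_mul] <;>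
      first
      | (left; rfl)
      | (left; trivial)
      | trivial
      | (right; left; exact ⟨0, by rw [hG]; rfl⟩)
      | (right; left; exact ⟨1, by rw [hG]; rfl⟩)
      | (right; left; exact ⟨2, by rw [hG]; rfl⟩)
      | (right; left; exact ⟨3, by rw [hG]; rfl⟩)
      | (right; left; exact ⟨4, by rw [hG]; rfl⟩)
      | (right; right
         simp only [mul_assoc, hAA, hBB, hCC, hDD, hBA, hCA, hDA, hCB, hDB, hDC, hAA', hBB', hCC', hDD',
           hBA', hCA', hDA', hCB', hDB', hDC', neg_mul, mul_neg, neg_neg, mul_one, one_mul])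
  have hfsurj : Function.Surjective f := by
    rintro ⟨s, hsR, hs2, hs1, hsm1⟩
    obtain ⟨a, ε, hs⟩ := hgen s hsR
    rcases hP a with h | ⟨i, h⟩ | h
    · exfalso
      rw [h] at hs
      cases ε
      · apply hs1
        rw [hs]; simp
      · apply hsm1
        rw [hs]; simp
    · refine ⟨(i, ε), ?_⟩
      apply Subtype.ext
      apply Units.ext
      show (((if ε then z else 1) * g i : GL S6I F) : Matrix S6I S6I F) = (s : Matrix S6I S6I F)
      rw [hmat, hs, h]
    · exfalso
      rw [hs, Matrix.smul_mul, Matrix.mul_smul, smul_smul, hsgn, one_smul, h] at hs2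
      exact hneg1 hs2
  rw [← Nat.card_congr (Equiv.ofBijective f ⟨hfinj, hfsurj⟩)]
  simp [Nat.card_eq_fintype_card]

end Cfsg.Agent.Lib.helper24
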