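import Mathlib
import Cfsg.Agent.Lib.helper38.TN2
import Cfsg.Agent.Lib.helper92.ExtraSub

/-!
helper65: piece G of S4415 (Thompson's N-groups lemma): a monomial irreducible `R` on four lines
with the determinant condition is extraspecial of order 32 and has an elementary abelian subgroup
of order 8.
-/

set_option autoImplicit false

namespace Cfsg.Agent.Lib.helper65

open Cfsg.Agent.Lib.helper38.TN

/-- the 3-cycle `0 → 1 → 2 → 0` on `Fin 4`. -/
def tngC : Equiv.Perm (Fin 4) where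
  toFun := ![1, 2, 0, 3]
  invFun := ![2, 0, 1, 3]
  left_inv := by decide
  right_inv := by decide

/-- the three double transpositions. -/
def tngS1 : Equiv.Perm (Fin 4) := Equiv.swap 0 1 * Equiv.swap 2 3
/-- the three double transpositions. -/
def tngS2 : Equiv.Perm (Fin 4) := Equiv.swap 0 2 * Equiv.swap 1 3
/-- the three double transpositions. -/
def tngS3 : Equiv.Perm (Fin 4) := Equiv.swap 0 3 * Equiv.swap 1 2

/-- the four-group of `Perm (Fin 4)`. -/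
def tngV : Finset (Equiv.Perm (Fin 4)) := {1, tngS1, tngS2, tngS3}

/-- sign vectors of product one. -/
def tngE : Finset (Fin 4 → ZMod 3) :=
  Finset.univ.filter (fun ε => (∀ i, ε i = 1 ∨ ε i = -1) ∧ ∏ i, ε i = 1)

theorem tng_dec1 : ∀ π : Equiv.Perm (Fin 4), (π * (tngC * π * tngC⁻¹)) ^ 8 = 1 → π ∈ tngV := by
  decide +kernel

theorem tng_dec2 : tngC * tngS1 * tngC⁻¹ = tngS3 ∧ tngC * tngS3 * tngC⁻¹ = tngS2 ∧
    tngC * tngS2 * tngC⁻¹ = tngS1 := by decide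

theorem tng_dec3 : ∀ σ : Equiv.Perm (Fin 4),
    (∀ i, (![1, -1, -1, 1] : Fin 4 → ZMod 3) (σ i) = ![1, -1, -1, 1] i) →
    (∀ i, (![-1, 1, -1, 1] : Fin 4 → ZMod 3) (σ i) = ![-1, 1, -1, 1] i) → σ = 1 := by decide

theorem tng_cardE : tngE.card = 8 := by decide

theorem tng_cardV : tngV.card = 4 := by decide

theorem tng_sign : ∀ σ ∈ tngV, Equiv.Perm.sign σ = 1 := by decide

theorem tng_sq : ∀ σ ∈ tngV, σ * σ = 1 := by decide

theorem tng_dec5 : ∀ i : Fin 4, (![1, -1, -1, 1] : Fin 4 → ZMod 3) (tngS1⁻¹ i) *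
    (![1, -1, -1, 1] : Fin 4 → ZMod 3) i = -1 := by decide

theorem tng_dec6 : ∀ σ ∈ tngV, ∀ ε : Fin 4 → ZMod 3, (∀ i, ε i = 1 ∨ ε i = -1) → ∏ i, ε i = 1 →
    (∀ i, ε i * ε (σ i) = 1) ∨ (∀ i, ε i * ε (σ i) = -1) := by decide +kernel

theorem tng_dec7 : ∀ ε : Fin 4 → ZMod 3, (∀ i, ε i = 1 ∨ ε i = -1) → (∀ i, ε (tngS1 i) = ε i) →
    (∀ i, ε (tngS2 i) = ε i) → (ε = fun _ => 1) ∨ (ε = fun _ => -1) := by decide +kernel

theorem tng_dec8 : ∀ δ : Fin 4 → ZMod 3, (∀ i, δ i = 1 ∨ δ i = -1) → ∏ i, δ i = 1 →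
    ∃ a b c : Bool, δ = fun i => ((if c then (-1 : ZMod 3) else 1) *
      (if b then (![-1, 1, -1, 1] : Fin 4 → ZMod 3) i else 1)) *
      (if a then (![1, -1, -1, 1] : Fin 4 → ZMod 3) i else 1) := by decide +kernel

theorem tng_unit_mul : ∀ a b : ZMod 3, (a = 1 ∨ a = -1) → (b = 1 ∨ b = -1) →
    (a * b = 1 ∨ a * b = -1) := by decide

theorem tng_unit_sq : ∀ a : ZMod 3, (a = 1 ∨ a = -1) → a * a = 1 := by decide

section mon

variable {G : Type*} [Group G] {V : Type*} [AddCommGroup V] [Module (ZMod 3) V]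

/-- `g` acts monomially on the family `U`, with permutation `σ` and coefficients `ε`. -/
def TngMon (ρ : Representation (ZMod 3) G V) (U : Fin 4 → V) (g : G) (σ : Equiv.Perm (Fin 4))
    (ε : Fin 4 → ZMod 3) : Prop := ∀ i, ρ g (U i) = ε i • U (σ i)

/-- independence and spanning of the family `U`. -/
structure TngBasis (U : Fin 4 → V) : Prop where
  ind : ∀ a : Fin 4 → ZMod 3, ∑ i, a i • U i = 0 → ∀ i, a i = 0
  span : ∀ v : V, ∃ a : Fin 4 → ZMod 3, v = ∑ i, a i • U i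

variable {ρ : Representation (ZMod 3) G V} {U : Fin 4 → V}

theorem tngMon_one : TngMon ρ U 1 1 (fun _ => 1) := by
  intro i
  rw [rho_one, one_smul]; rfl

theorem tngMon_congr {g : G} {σ σ' : Equiv.Perm (Fin 4)} {ε ε' : Fin 4 → ZMod 3}
    (hm : TngMon ρ U g σ ε) (hσ : σ = σ') (hε : ∀ i, ε i = ε' i) : TngMon ρ U g σ' ε' := by
  subst hσ
  intro i
  rw [← hε i]; exact hm i

theorem tngMon_mul {g h : G} {σ τ : Equiv.Perm (Fin 4)} {ε δ : Fin 4 → ZMod 3}
    (hg : TngMon ρ U g σ ε) (hh : TngMon ρ U h τ δ) :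
    TngMon ρ U (g * h) (σ * τ) (fun i => δ i * ε (τ i)) := by
  intro i
  rw [rho_mul, hh i, map_smul, hg (τ i), smul_smul]; rfl

theorem tngMon_inv {g : G} {σ : Equiv.Perm (Fin 4)} {ε : Fin 4 → ZMod 3}
    (hg : TngMon ρ U g σ ε) (hε : ∀ i, ε i * ε i = 1) :
    TngMon ρ U g⁻¹ σ⁻¹ (fun i => ε (σ⁻¹ i)) := by
  intro i
  have h1 := hg (σ⁻¹ i)
  have hσi : σ (σ⁻¹ i) = i := by simp
  rw [hσi] at h1
  have h2 : U i = ε (σ⁻¹ i) • ρ g (U (σ⁻¹ i)) := by
    rw [h1, smul_smul, hε, one_smul]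
  conv_lhs => rw [h2]
  rw [map_smul, rho_inv_self]

theorem tngMon_pow {g : G} {σ : Equiv.Perm (Fin 4)} {ε : Fin 4 → ZMod 3}
    (hg : TngMon ρ U g σ ε) (k : ℕ) : ∃ ε', TngMon ρ U (g ^ k) (σ ^ k) ε' := by
  induction k with
  | zero => exact ⟨_, by rw [pow_zero, pow_zero]; exact tngMon_one⟩
  | succ k ih =>
    obtain ⟨ε', h'⟩ := ih
    exact ⟨_, by rw [pow_succ, pow_succ]; exact tngMon_mul h' hg⟩

theorem TngBasis.ne_zero (hB : TngBasis U) (i : Fin 4) : U i ≠ 0 := by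
  intro h
  have key := hB.ind (fun j => if j = i then 1 else 0) (by
    simp only [ite_smul, one_smul, zero_smul, Finset.sum_ite_eq', Finset.mem_univ, if_true]
    exact h) i
  simp at key

theorem TngBasis.smul_eq (hB : TngBasis U) {j j' : Fin 4} {c c' : ZMod 3} (hc : c ≠ 0)
    (h : c • U j = c' • U j') : j = j' ∧ c = c' := by
  have key := hB.ind (fun i => (if i = j then c else 0) - (if i = j' then c' else 0)) (by
    simp only [sub_smul, ite_smul, zero_smul, Finset.sum_sub_distrib, Finset.sum_ite_eq',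
      Finset.mem_univ, if_true]
    rw [h, sub_self])
  have hj := key j
  simp only [if_true] at hj
  by_cases hjj : j = j'
  · refine ⟨hjj, ?_⟩
    rw [if_pos hjj] at hj
    exact sub_eq_zero.mp hj
  · rw [if_neg hjj, sub_zero] at hj
    exact absurd hj hc

theorem tngMon_unit (hB : TngBasis U) {g : G} {σ : Equiv.Perm (Fin 4)} {ε : Fin 4 → ZMod 3}
    (hg : TngMon ρ U g σ ε) (i : Fin 4) : ε i = 1 ∨ ε i = -1 := by
  apply zmod3_unit
  intro h0
  have := hg i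
  rw [h0, zero_smul] at this
  exact hB.ne_zero i (rho_inj ρ g (by rw [this, map_zero]))

theorem tngMon_unique (hB : TngBasis U) {g : G} {σ σ' : Equiv.Perm (Fin 4)}
    {ε ε' : Fin 4 → ZMod 3} (h : TngMon ρ U g σ ε) (h' : TngMon ρ U g σ' ε') :
    σ = σ' ∧ ε = ε' := by
  have key : ∀ i, σ i = σ' i ∧ ε i = ε' i := by
    intro i
    have hne : ε i ≠ 0 := by
      rcases tngMon_unit hB h i with h1 | h1 <;> rw [h1] <;> decide
    exact hB.smul_eq hne ((h i).symm.trans (h' i))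
  exact ⟨Equiv.ext (fun i => (key i).1), funext (fun i => (key i).2)⟩

theorem tngMon_act (hB : TngBasis U) {g g' : G} {σ : Equiv.Perm (Fin 4)} {ε : Fin 4 → ZMod 3}
    (h : TngMon ρ U g σ ε) (h' : TngMon ρ U g' σ ε) (v : V) : ρ g v = ρ g' v := by
  obtain ⟨a, rfl⟩ := hB.span v
  rw [map_sum, map_sum]
  exact Finset.sum_congr rfl (fun i _ => by rw [map_smul, map_smul, h i, h' i])

theorem tngMon_exists (hB : TngBasis U) {g : G}
    (hm : ∀ i : Fin 4, ∃ j : Fin 4, ∃ ε : ZMod 3, ρ g (U i) = ε • U j) :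
    ∃ (σ : Equiv.Perm (Fin 4)) (ε : Fin 4 → ZMod 3), TngMon ρ U g σ ε := by
  choose f e hf using hm
  have he : ∀ i, e i ≠ 0 := by
    intro i h0
    have := hf i
    rw [h0, zero_smul] at this
    exact hB.ne_zero i (rho_inj ρ g (by rw [this, map_zero]))
  have hinj : Function.Injective f := by
    intro i j hij
    have h1 : ρ g (e j • U i) = ρ g (e i • U j) := by
      rw [map_smul, map_smul, hf i, hf j, hij, smul_smul, smul_smul, mul_comm]
    exact (hB.smul_eq (he j) (rho_inj ρ g h1)).1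
  exact ⟨Equiv.ofBijective f (Finite.injective_iff_bijective.mp hinj), e, fun i => by
    rw [hf i]; rfl⟩

theorem tngMon_conj_diag {g d : G} {σ : Equiv.Perm (Fin 4)} {α δ : Fin 4 → ZMod 3}
    (hg : TngMon ρ U g σ α) (hα : ∀ i, α i * α i = 1) (hd : TngMon ρ U d 1 δ) :
    TngMon ρ U (g * d * g⁻¹) 1 (fun i => δ (σ⁻¹ i)) := by
  refine tngMon_congr (tngMon_mul (tngMon_mul hg hd) (tngMon_inv hg hα)) (by simp) ?_
  intro i
  show α (σ⁻¹ i) * (δ (σ⁻¹ i) * α (σ⁻¹ i)) = δ (σ⁻¹ i)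
  rw [mul_left_comm, hα, mul_one]

theorem tngMon_neg (hB : TngBasis U) {g : G} (hg : TngMon ρ U g 1 (fun _ => -1)) (v : V) :
    ρ g v = -v := by
  obtain ⟨a, rfl⟩ := hB.span v
  rw [map_sum, ← Finset.sum_neg_distrib]
  refine Finset.sum_congr rfl (fun i _ => ?_)
  rw [map_smul, hg i, Equiv.Perm.one_apply, neg_one_smul, smul_neg]

end mon

section main

variable {G : Type*} [Group G] [Finite G] {V : Type*} [AddCommGroup V] [Module (ZMod 3) V]
  [Finite V]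
variable {ρ : Representation (ZMod 3) G V} {R : Subgroup G} {b q₁ q₂ q₃ : G} {u₁ u₂ u₃ : V}

theorem tng_basis (h : Ctx ρ R b q₁ q₂ q₃ u₁ u₂ u₃) (u₄ : V) (hu₄ : CLine ρ q₁ q₂ u₄) :
    TngBasis ![u₁, u₂, u₃, u₄] := by
  have F := h.frame
  have hc : ∀ a : ZMod 3, a • u₄ ∈ fixQ ρ q₁ q₂ := fun a =>
    (fixQ ρ q₁ q₂).smul_mem a ⟨hu₄.2.1, hu₄.2.2.1⟩
  constructor
  · intro a ha
    rw [Fin.sum_univ_four] at ha
    have ha' : a 0 • u₁ + a 1 • u₂ + a 2 • u₃ + a 3 • u₄ = 0 := ha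
    obtain ⟨h1, h2, h3, h4⟩ := F.indep (hc (a 3)) ha'
    have h4' := smul_eq_zero_left hu₄.1 h4
    intro i
    fin_cases i
    · exact h1
    · exact h2
    · exact h3
    · exact h4'
  · intro v
    obtain ⟨a₁, a₂, a₃, c, hcm, rfl⟩ := F.decomp v
    obtain ⟨a₄, rfl⟩ := hu₄.2.2.2 c hcm.1 hcm.2
    refine ⟨![a₁, a₂, a₃, a₄], ?_⟩
    rw [Fin.sum_univ_four]
    rfl

theorem tng_act_inj (h : Ctx ρ R b q₁ q₂ q₃ u₁ u₂ u₃) {r r' : G} (hr : r ∈ R) (hr' : r' ∈ R)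
    (hv : ∀ v, ρ r v = ρ r' v) : r = r' := by
  have h1 : r'⁻¹ * r = 1 := h.faith _ (R.mul_mem (R.inv_mem hr') hr) (fun v => by
    rw [rho_mul, hv, rho_inv_self])
  calc r = r' * (r'⁻¹ * r) := by group
    _ = r' := by rw [h1, mul_one]

theorem tng_pow8 (h : Ctx ρ R b q₁ q₂ q₃ u₁ u₂ u₃) {U : Fin 4 → V} (hB : TngBasis U) {r : G}
    (hr : r ∈ R) {σ : Equiv.Perm (Fin 4)} {ε : Fin 4 → ZMod 3} (hm : TngMon ρ U r σ ε) :
    σ ^ 8 = 1 := by
  have hdvd : orderOf r ∣ Nat.card ↥R := by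
    have := orderOf_dvd_natCard (⟨r, hr⟩ : ↥R)
    rwa [Subgroup.orderOf_mk] at this
  have hcop : (orderOf r).Coprime 3 := Nat.Coprime.coprime_dvd_left hdvd h.cop
  obtain ⟨ε', h'⟩ := tngMon_pow hm (orderOf r)
  rw [pow_orderOf_eq_one] at h'
  have h1 : σ ^ orderOf r = 1 := (tngMon_unique hB tngMon_one h').1.symm
  have h2 : σ ^ 24 = 1 := by
    have := pow_card_eq_one (G := Equiv.Perm (Fin 4)) (x := σ)
    rwa [Fintype.card_perm, Fintype.card_fin] at this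
  have h3 : σ ^ Nat.gcd (orderOf r) 24 = 1 := pow_gcd_eq_one.mpr ⟨h1, h2⟩
  have h4 : Nat.gcd (orderOf r) 24 ∣ 8 := by
    have hc : (Nat.gcd (orderOf r) 24).Coprime 3 :=
      Nat.Coprime.coprime_dvd_left (Nat.gcd_dvd_left _ _) hcop
    exact hc.dvd_of_dvd_mul_right (Nat.gcd_dvd_right _ _)
  obtain ⟨k, hk⟩ := h4
  rw [hk, pow_mul, h3, one_pow]

theorem mono_concl (h : Ctx ρ R b q₁ q₂ q₃ u₁ u₂ u₃) (hR : RIrr ρ R) (u₄ : V)
    (hu₄ : CLine ρ q₁ q₂ u₄)
    (hmono : ∀ r ∈ R, ∀ i : Fin 4, ∃ j : Fin 4, ∃ ε : ZMod 3,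
      ρ r (![u₁,u₂,u₃,u₄] i) = ε • ![u₁,u₂,u₃,u₄] j)
    (hdet : MonoDet ρ R u₁ u₂ u₃ u₄) : Concl R := by
  classical
  have F := h.frame
  have T := F.tri
  have hB := tng_basis h u₄ hu₄
  have hq2R : q₂ ∈ R := by rw [← T.c1]; exact h.bR _ h.q1R
  -- monomial data of the basic elements
  have mb : TngMon ρ ![u₁, u₂, u₃, u₄] b tngC (fun _ => 1) := by
    intro i
    fin_cases i
    · show ρ b u₁ = (1 : ZMod 3) • u₂
      rw [one_smul, F.bu1]
    · show ρ b u₂ = (1 : ZMod 3) • u₃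
      rw [one_smul, F.bu2]
    · show ρ b u₃ = (1 : ZMod 3) • u₁
      rw [one_smul, F.bu3]
    · show ρ b u₄ = (1 : ZMod 3) • u₄
      rw [one_smul, F.cfix u₄ hu₄.2.1 hu₄.2.2.1]
  have mbi : TngMon ρ ![u₁, u₂, u₃, u₄] b⁻¹ tngC⁻¹ (fun _ => 1) :=
    tngMon_inv mb (fun _ => one_mul 1)
  have mq1 : TngMon ρ ![u₁, u₂, u₃, u₄] q₁ 1 ![1, -1, -1, 1] := by
    intro i
    fin_cases i
    · show ρ q₁ u₁ = (1 : ZMod 3) • u₁
      rw [one_smul, F.q1u1]
    · show ρ q₁ u₂ = (-1 : ZMod 3) • u₂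
      rw [neg_one_smul, F.q1u2]
    · show ρ q₁ u₃ = (-1 : ZMod 3) • u₃
      rw [neg_one_smul, F.q1u3]
    · show ρ q₁ u₄ = (1 : ZMod 3) • u₄
      rw [one_smul, hu₄.2.1]
  have mq2 : TngMon ρ ![u₁, u₂, u₃, u₄] q₂ 1 ![-1, 1, -1, 1] := by
    intro i
    fin_cases i
    · show ρ q₂ u₁ = (-1 : ZMod 3) • u₁
      rw [neg_one_smul, F.q2u1]
    · show ρ q₂ u₂ = (1 : ZMod 3) • u₂
      rw [one_smul, F.q2u2]
    · show ρ q₂ u₃ = (-1 : ZMod 3) • u₃
      rw [neg_one_smul, F.q2u3]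
    · show ρ q₂ u₄ = (1 : ZMod 3) • u₄
      rw [one_smul, hu₄.2.2.1]
  have hex : ∀ r ∈ R, ∃ (σ : Equiv.Perm (Fin 4)) (ε : Fin 4 → ZMod 3),
      TngMon ρ ![u₁, u₂, u₃, u₄] r σ ε := fun r hr => tngMon_exists hB (hmono r hr)
  have hsqu : ∀ {g : G} {σ : Equiv.Perm (Fin 4)} {ε : Fin 4 → ZMod 3},
      TngMon ρ ![u₁, u₂, u₃, u₄] g σ ε → ∀ i, ε i * ε i = 1 := fun hm i =>
    tng_unit_sq _ (tngMon_unit hB hm i)
  -- conjugation by `b`
  have hconj : ∀ r ∈ R, ∀ (σ : Equiv.Perm (Fin 4)) (ε : Fin 4 → ZMod 3),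
      TngMon ρ ![u₁, u₂, u₃, u₄] r σ ε →
      ∃ ε', TngMon ρ ![u₁, u₂, u₃, u₄] (b * r * b⁻¹) (tngC * σ * tngC⁻¹) ε' :=
    fun r _ σ ε hm => ⟨_, tngMon_mul (tngMon_mul mb hm) mbi⟩
  -- Step A: permutations lie in the four-group
  have hV4 : ∀ r ∈ R, ∀ (σ : Equiv.Perm (Fin 4)) (ε : Fin 4 → ZMod 3),
      TngMon ρ ![u₁, u₂, u₃, u₄] r σ ε → σ ∈ tngV := by
    intro r hr σ ε hm
    obtain ⟨ε', m1⟩ := hconj r hr σ ε hm
    exact tng_dec1 σ (tng_pow8 h hB (R.mul_mem hr (h.bR r hr)) (tngMon_mul hm m1))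
  -- Step B: the product of the signs is one
  have hprod : ∀ r ∈ R, ∀ (σ : Equiv.Perm (Fin 4)) (ε : Fin 4 → ZMod 3),
      TngMon ρ ![u₁, u₂, u₃, u₄] r σ ε → ∏ i, ε i = 1 := by
    intro r hr σ ε hm
    have h1 := hdet r hr σ ε hm
    rw [tng_sign σ (hV4 r hr σ ε hm)] at h1
    simpa using h1
  -- Step C: all double transpositions occur
  have exS : ∃ r ∈ R, ∃ (σ : Equiv.Perm (Fin 4)) (ε : Fin 4 → ZMod 3),
      TngMon ρ ![u₁, u₂, u₃, u₄] r σ ε ∧ σ ≠ 1 := by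
    by_contra hcon
    have hcon' : ∀ r ∈ R, ∀ (σ : Equiv.Perm (Fin 4)) (ε : Fin 4 → ZMod 3),
        TngMon ρ ![u₁, u₂, u₃, u₄] r σ ε → σ = 1 := by
      intro r hr σ ε hm
      by_contra hne
      exact hcon ⟨r, hr, σ, ε, hm, hne⟩
    have hinv : ∀ r ∈ R, ∀ v ∈ Submodule.span (ZMod 3) {u₁}, ρ r v ∈ Submodule.span (ZMod 3) {u₁} := by
      intro r hr v hv
      obtain ⟨a, rfl⟩ := Submodule.mem_span_singleton.mp hv
      obtain ⟨σ, ε, hm⟩ := hex r hr
      have hσ := hcon' r hr σ ε hm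
      have h0 := hm 0
      rw [hσ] at h0
      have h0' : ρ r u₁ = ε 0 • u₁ := h0
      rw [map_smul, h0', smul_smul]
      exact Submodule.mem_span_singleton.mpr ⟨_, rfl⟩
    rcases hR _ hinv with hbot | htop
    · have h1 : u₁ ∈ Submodule.span (ZMod 3) {u₁} := Submodule.mem_span_singleton_self u₁
      rw [hbot] at h1
      exact F.u1 ((Submodule.mem_bot _).mp h1)
    · have h1 : u₂ ∈ Submodule.span (ZMod 3) {u₁} := by rw [htop]; trivial
      obtain ⟨a, ha⟩ := Submodule.mem_span_singleton.mp h1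
      have h2 : (1 : ZMod 3) • (![u₁, u₂, u₃, u₄] 1) = a • (![u₁, u₂, u₃, u₄] 0) := by
        show (1 : ZMod 3) • u₂ = a • u₁
        rw [one_smul, ha]
      exact absurd (hB.smul_eq one_ne_zero h2).1 (by decide)
  have hstep : ∀ σ : Equiv.Perm (Fin 4),
      (∃ r ∈ R, ∃ ε : Fin 4 → ZMod 3, TngMon ρ ![u₁, u₂, u₃, u₄] r σ ε) →
      (∃ r ∈ R, ∃ ε : Fin 4 → ZMod 3, TngMon ρ ![u₁, u₂, u₃, u₄] r (tngC * σ * tngC⁻¹) ε) := by
    rintro σ ⟨r, hr, ε, hm⟩
    obtain ⟨ε', m1⟩ := hconj r hr σ ε hm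
    exact ⟨_, h.bR r hr, ε', m1⟩
  have hS : (∃ r ∈ R, ∃ ε : Fin 4 → ZMod 3, TngMon ρ ![u₁, u₂, u₃, u₄] r tngS1 ε) ∧
      (∃ r ∈ R, ∃ ε : Fin 4 → ZMod 3, TngMon ρ ![u₁, u₂, u₃, u₄] r tngS2 ε) ∧
      (∃ r ∈ R, ∃ ε : Fin 4 → ZMod 3, TngMon ρ ![u₁, u₂, u₃, u₄] r tngS3 ε) := by
    obtain ⟨r₀, hr₀, σ₀, ε₀, hm₀, hne₀⟩ := exS
    have hmem := hV4 r₀ hr₀ σ₀ ε₀ hm₀
    obtain ⟨d1, d2, d3⟩ := tng_dec2
    simp only [tngV, Finset.mem_insert, Finset.mem_singleton] at hmem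
    rcases hmem with e | e | e | e
    · exact absurd e hne₀
    · subst e
      have e1 : ∃ r ∈ R, ∃ ε : Fin 4 → ZMod 3, TngMon ρ ![u₁, u₂, u₃, u₄] r tngS1 ε :=
        ⟨r₀, hr₀, ε₀, hm₀⟩
      have e3 := hstep _ e1
      rw [d1] at e3
      have e2 := hstep _ e3
      rw [d2] at e2
      exact ⟨e1, e2, e3⟩
    · subst e
      have e2 : ∃ r ∈ R, ∃ ε : Fin 4 → ZMod 3, TngMon ρ ![u₁, u₂, u₃, u₄] r tngS2 ε :=
        ⟨r₀, hr₀, ε₀, hm₀⟩
      have e1 := hstep _ e2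
      rw [d3] at e1
      have e3 := hstep _ e1
      rw [d1] at e3
      exact ⟨e1, e2, e3⟩
    · subst e
      have e3 : ∃ r ∈ R, ∃ ε : Fin 4 → ZMod 3, TngMon ρ ![u₁, u₂, u₃, u₄] r tngS3 ε :=
        ⟨r₀, hr₀, ε₀, hm₀⟩
      have e2 := hstep _ e3
      rw [d2] at e2
      have e1 := hstep _ e2
      rw [d3] at e1
      exact ⟨e1, e2, e3⟩
  obtain ⟨⟨g₁, hg₁R, α, mg₁⟩, ⟨g₂, hg₂R, β, mg₂⟩, ⟨g₃, hg₃R, γ, mg₃⟩⟩ := hS
  -- Step D: the element `z = -1`
  obtain ⟨z, hzdef⟩ : ∃ z : G, z = q₁ * (g₁ * q₁ * g₁⁻¹) := ⟨_, rfl⟩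
  have hzR : z ∈ R := by
    rw [hzdef]
    exact R.mul_mem h.q1R (R.mul_mem (R.mul_mem hg₁R h.q1R) (R.inv_mem hg₁R))
  have mz : TngMon ρ ![u₁, u₂, u₃, u₄] z 1 (fun _ => -1) := by
    rw [hzdef]
    refine tngMon_congr (tngMon_mul mq1 (tngMon_conj_diag mg₁ (hsqu mg₁) mq1)) (mul_one 1) ?_
    intro i
    exact tng_dec5 i
  have hzv : ∀ v, ρ z v = -v := tngMon_neg hB mz
  have hzc : ∀ r ∈ R, r * z = z * r := by
    intro r hr
    apply tng_act_inj h (R.mul_mem hr hzR) (R.mul_mem hzR hr)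
    intro v
    rw [rho_mul, rho_mul, hzv, hzv, map_neg]
  have hzz : z * z = 1 := by
    apply tng_act_inj h (R.mul_mem hzR hzR) R.one_mem
    intro v
    rw [rho_mul, hzv, hzv, neg_neg, rho_one]
  have hz1 : z ≠ 1 := by
    intro h1
    have h2 := hzv u₁
    rw [h1, rho_one] at h2
    exact neg_ne_self F.u1 h2.symm
  -- Step E: squares
  have hsq : ∀ x ∈ R, x * x = 1 ∨ x * x = z := by
    intro x hx
    obtain ⟨σ, ε, hm⟩ := hex x hx
    have hσ := hV4 x hx σ ε hm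
    have m2 := tngMon_mul hm hm
    rcases tng_dec6 σ hσ ε (tngMon_unit hB hm) (hprod x hx σ ε hm) with k | k
    · left
      apply tng_act_inj h (R.mul_mem hx hx) R.one_mem
      exact tngMon_act hB (tngMon_congr m2 (tng_sq σ hσ) k) tngMon_one
    · right
      apply tng_act_inj h (R.mul_mem hx hx) hzR
      exact tngMon_act hB (tngMon_congr m2 (tng_sq σ hσ) k) mz
  have hsq' : ∀ x ∈ R, x * x ∈ Subgroup.zpowers z := by
    intro x hx
    rcases hsq x hx with e | e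
    · rw [e]; exact Subgroup.one_mem _
    · rw [e]; exact Subgroup.mem_zpowers z
  -- Step G: commutators
  have hZc : ∀ m ∈ Subgroup.zpowers z, ∀ y ∈ R, y⁻¹ * m * y = m := by
    intro m hm y hy
    have hle : Subgroup.zpowers z ≤ Subgroup.centralizer {y} := by
      rw [Subgroup.zpowers_le]
      rw [Subgroup.mem_centralizer_iff]
      intro w hw
      rw [Set.mem_singleton_iff] at hw
      subst hw
      exact hzc w hy
    have h1 := Subgroup.mem_centralizer_iff.mp (hle hm) y (Set.mem_singleton y)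
    calc y⁻¹ * m * y = y⁻¹ * (m * y) := mul_assoc _ _ _
      _ = y⁻¹ * (y * m) := by rw [h1]
      _ = m := by group
  have hcomm : ∀ x ∈ R, ∀ y ∈ R, x * y * x⁻¹ * y⁻¹ ∈ Subgroup.zpowers z := by
    intro x hx y hy
    have e : x * y * x⁻¹ * y⁻¹ = (x * y * (x * y)) * (y⁻¹ * (x * x)⁻¹ * y) * (y * y)⁻¹ := by
      group
    rw [e, hZc _ (Subgroup.inv_mem _ (hsq' x hx)) y hy]
    exact Subgroup.mul_mem _ (Subgroup.mul_mem _ (hsq' _ (R.mul_mem hx hy))
      (Subgroup.inv_mem _ (hsq' x hx))) (Subgroup.inv_mem _ (hsq' y hy))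
  -- Step H: the centre
  have hcent : ∀ x ∈ R, (∀ r ∈ R, r * x = x * r) → x ∈ Subgroup.zpowers z := by
    intro x hx hxc
    obtain ⟨σ, ε, hm⟩ := hex x hx
    have hu := tngMon_unit hB hm
    have hcancel : ∀ (i : Fin 4) (s t : ZMod 3), ε i * s = ε i * t → s = t := by
      intro i s t hst
      calc s = ε i * (ε i * s) := by rw [← mul_assoc, hsqu hm i, one_mul]
        _ = ε i * (ε i * t) := by rw [hst]
        _ = t := by rw [← mul_assoc, hsqu hm i, one_mul]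
    have hσ1 : σ = 1 := by
      apply tng_dec3 σ
      · intro i
        have ma := tngMon_mul hm mq1
        have mb' := tngMon_mul mq1 hm
        rw [hxc q₁ h.q1R] at mb'
        have e := congrFun (tngMon_unique hB ma mb').2 i
        have e' : ε i * (![1, -1, -1, 1] : Fin 4 → ZMod 3) i
            = ε i * (![1, -1, -1, 1] : Fin 4 → ZMod 3) (σ i) := by
          rw [mul_comm]; exact e
        exact (hcancel i _ _ e').symm
      · intro i
        have ma := tngMon_mul hm mq2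
        have mb' := tngMon_mul mq2 hm
        rw [hxc q₂ hq2R] at mb'
        have e := congrFun (tngMon_unique hB ma mb').2 i
        have e' : ε i * (![-1, 1, -1, 1] : Fin 4 → ZMod 3) i
            = ε i * (![-1, 1, -1, 1] : Fin 4 → ZMod 3) (σ i) := by
          rw [mul_comm]; exact e
        exact (hcancel i _ _ e').symm
    subst hσ1
    have hinvar : ∀ {g : G} {τ : Equiv.Perm (Fin 4)} {δ : Fin 4 → ZMod 3}, g ∈ R →
        TngMon ρ ![u₁, u₂, u₃, u₄] g τ δ → ∀ i, ε (τ i) = ε i := by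
      intro g τ δ hg mg i
      have ma := tngMon_mul hm mg
      have mb' := tngMon_mul mg hm
      rw [hxc g hg] at mb'
      have e := congrFun (tngMon_unique hB ma mb').2 i
      have e1 : δ i * ε (τ i) = δ i * ε i := by
        have e2 : δ i * ε (τ i) = ε i * δ i := e
        rw [e2, mul_comm]
      have hδ := hsqu mg i
      calc ε (τ i) = δ i * (δ i * ε (τ i)) := by rw [← mul_assoc, hδ, one_mul]
        _ = δ i * (δ i * ε i) := by rw [e1]
        _ = ε i := by rw [← mul_assoc, hδ, one_mul]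
    rcases tng_dec7 ε hu (hinvar hg₁R mg₁) (hinvar hg₂R mg₂) with e | e
    · have : x = 1 := by
        apply tng_act_inj h hx R.one_mem
        exact tngMon_act hB (tngMon_congr hm rfl (fun i => congrFun e i)) tngMon_one
      rw [this]; exact Subgroup.one_mem _
    · have : x = z := by
        apply tng_act_inj h hx hzR
        exact tngMon_act hB (tngMon_congr hm rfl (fun i => congrFun e i)) mz
      rw [this]; exact Subgroup.mem_zpowers z
  -- Step I: nonabelian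
  have hnonab : ∃ x ∈ R, ∃ y ∈ R, x * y ≠ y * x := by
    refine ⟨g₁, hg₁R, q₁, h.q1R, fun hc => hz1 ?_⟩
    rw [hzdef, hc, mul_assoc, mul_inv_cancel, mul_one, T.sq]
  have hES : Cfsg.IsExtraspecial 2 ↥R :=
    Cfsg.Agent.Lib.helper92.isExtraspecial_of_data R z hzz hz1 hcomm hsq' hcent hzc hnonab
  -- Step J: diagonal elements
  have hD : ∀ δ : Fin 4 → ZMod 3, (∀ i, δ i = 1 ∨ δ i = -1) → ∏ i, δ i = 1 →
      ∃ d ∈ R, TngMon ρ ![u₁, u₂, u₃, u₄] d 1 δ := by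
    intro δ h1 h2
    obtain ⟨a, b', c, rfl⟩ := tng_dec8 δ h1 h2
    have mA : TngMon ρ ![u₁, u₂, u₃, u₄] (if a then q₁ else 1) 1
        (fun i => if a then (![1, -1, -1, 1] : Fin 4 → ZMod 3) i else 1) := by
      cases a
      · exact tngMon_one
      · exact mq1
    have mB : TngMon ρ ![u₁, u₂, u₃, u₄] (if b' then q₂ else 1) 1
        (fun i => if b' then (![-1, 1, -1, 1] : Fin 4 → ZMod 3) i else 1) := by
      cases b'
      · exact tngMon_one
      · exact mq2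
    have mC : TngMon ρ ![u₁, u₂, u₃, u₄] (if c then z else 1) 1
        (fun _ => if c then (-1 : ZMod 3) else 1) := by
      cases c
      · exact tngMon_one
      · exact mz
    have hAR : (if a then q₁ else 1) ∈ R := by
      cases a
      · exact R.one_mem
      · exact h.q1R
    have hBR : (if b' then q₂ else 1) ∈ R := by
      cases b'
      · exact R.one_mem
      · exact hq2R
    have hCR : (if c then z else 1) ∈ R := by
      cases c
      · exact R.one_mem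
      · exact hzR
    refine ⟨(if a then q₁ else 1) * ((if b' then q₂ else 1) * (if c then z else 1)),
      R.mul_mem hAR (R.mul_mem hBR hCR), ?_⟩
    exact tngMon_congr (tngMon_mul mA (tngMon_mul mB mC)) (by simp) (fun i => rfl)
  have hgσ : ∀ σ ∈ tngV, ∃ g ∈ R, ∃ α' : Fin 4 → ZMod 3, TngMon ρ ![u₁, u₂, u₃, u₄] g σ α' := by
    intro σ hσ
    simp only [tngV, Finset.mem_insert, Finset.mem_singleton] at hσ
    rcases hσ with e | e | e | e
    · subst e; exact ⟨1, R.one_mem, _, tngMon_one⟩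
    · subst e; exact ⟨g₁, hg₁R, α, mg₁⟩
    · subst e; exact ⟨g₂, hg₂R, β, mg₂⟩
    · subst e; exact ⟨g₃, hg₃R, γ, mg₃⟩
  have hall : ∀ σ ∈ tngV, ∀ ε ∈ tngE, ∃ r ∈ R, TngMon ρ ![u₁, u₂, u₃, u₄] r σ ε := by
    intro σ hσ ε hε
    obtain ⟨hε1, hε2⟩ := (Finset.mem_filter.mp hε).2
    obtain ⟨g, hgR, α', mg⟩ := hgσ σ hσ
    have hα' := tngMon_unit hB mg
    obtain ⟨d, hdR, md⟩ := hD (fun i => ε i * α' i) (fun i => tng_unit_mul _ _ (hε1 i) (hα' i))
      (by rw [Finset.prod_mul_distrib, hε2, hprod g hgR σ α' mg, mul_one])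
    refine ⟨g * d, R.mul_mem hgR hdR, tngMon_congr (tngMon_mul mg md) (mul_one σ) ?_⟩
    intro i
    show ε i * α' i * α' i = ε i
    rw [mul_assoc, hsqu mg i, mul_one]
  -- the cardinality of `R`
  have hcard : Nat.card ↥R = 32 := by
    choose σf εf hΦ using (fun r : ↥R => hex r.1 r.2)
    have hinj : Function.Injective (fun r : ↥R => (σf r, εf r)) := by
      intro r r' e
      have e1 : σf r = σf r' := congrArg Prod.fst e
      have e2 : εf r = εf r' := congrArg Prod.snd e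
      apply Subtype.ext
      apply tng_act_inj h r.2 r'.2
      exact tngMon_act hB (hΦ r) (by rw [e1, e2]; exact hΦ r')
    have hrange : Set.range (fun r : ↥R => (σf r, εf r)) = ↑(tngV ×ˢ tngE) := by
      ext ⟨σ, ε⟩
      constructor
      · rintro ⟨r, hr⟩
        have e1 : σf r = σ := congrArg Prod.fst hr
        have e2 : εf r = ε := congrArg Prod.snd hr
        subst e1 e2
        rw [Finset.mem_coe, Finset.mem_product]
        exact ⟨hV4 r.1 r.2 _ _ (hΦ r), Finset.mem_filter.mpr ⟨Finset.mem_univ _,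
          tngMon_unit hB (hΦ r), hprod r.1 r.2 _ _ (hΦ r)⟩⟩
      · intro hmem
        rw [Finset.mem_coe, Finset.mem_product] at hmem
        obtain ⟨r, hr, mr⟩ := hall σ hmem.1 ε hmem.2
        refine ⟨⟨r, hr⟩, ?_⟩
        obtain ⟨e1, e2⟩ := tngMon_unique hB (hΦ ⟨r, hr⟩) mr
        exact Prod.ext e1 e2
    rw [Nat.card_congr (Equiv.ofInjective _ hinj), hrange, Nat.card_coe_set_eq,
      Set.ncard_coe_finset, Finset.card_product, tng_cardV, tng_cardE]
  -- Step K: the elementary abelian subgroup of order 8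
  let A : Subgroup G :=
    { carrier := {r | r ∈ R ∧ ∃ ε : Fin 4 → ZMod 3, TngMon ρ ![u₁, u₂, u₃, u₄] r 1 ε}
      mul_mem' := by
        rintro x y ⟨hx, ε, mx⟩ ⟨hy, δ, my⟩
        exact ⟨R.mul_mem hx hy, _, tngMon_congr (tngMon_mul mx my) (mul_one 1) (fun _ => rfl)⟩
      one_mem' := ⟨R.one_mem, _, tngMon_one⟩
      inv_mem' := by
        rintro x ⟨hx, ε, mx⟩
        exact ⟨R.inv_mem hx, _, tngMon_congr (tngMon_inv mx (hsqu mx)) inv_one (fun _ => rfl)⟩ }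
  have hAR : A ≤ R := fun x hx => hx.1
  have hAcomm : IsMulCommutative ↥A := by
    refine ⟨⟨fun x y => Subtype.ext ?_⟩⟩
    obtain ⟨hx, ε, mx⟩ := x.2
    obtain ⟨hy, δ, my⟩ := y.2
    show (x : G) * (y : G) = (y : G) * (x : G)
    apply tng_act_inj h (R.mul_mem hx hy) (R.mul_mem hy hx)
    exact tngMon_act hB (tngMon_mul mx my)
      (tngMon_congr (tngMon_mul my mx) rfl (fun i => mul_comm _ _))
  have hAexp : ∀ a ∈ A, a ^ 2 = 1 := by
    rintro a ⟨ha, ε, ma⟩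
    rw [pow_two]
    apply tng_act_inj h (R.mul_mem ha ha) R.one_mem
    exact tngMon_act hB (tngMon_congr (tngMon_mul ma ma) (mul_one 1) (fun i => hsqu ma i))
      tngMon_one
  have hAcard : Nat.card ↥A = 8 := by
    choose εA hΨ using (fun a : ↥A => a.2.2)
    have hinj : Function.Injective εA := by
      intro a a' e
      apply Subtype.ext
      apply tng_act_inj h a.2.1 a'.2.1
      exact tngMon_act hB (hΨ a) (by rw [e]; exact hΨ a')
    have hrange : Set.range εA = ↑tngE := by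
      ext ε
      constructor
      · rintro ⟨a, rfl⟩
        rw [Finset.mem_coe]
        exact Finset.mem_filter.mpr ⟨Finset.mem_univ _, tngMon_unit hB (hΨ a),
          hprod a.1 a.2.1 _ _ (hΨ a)⟩
      · intro hmem
        rw [Finset.mem_coe] at hmem
        obtain ⟨hε1, hε2⟩ := (Finset.mem_filter.mp hmem).2
        obtain ⟨d, hdR, md⟩ := hD ε hε1 hε2
        refine ⟨⟨d, hdR, ε, md⟩, ?_⟩
        exact (tngMon_unique hB (hΨ ⟨d, hdR, ε, md⟩) md).2
    rw [Nat.card_congr (Equiv.ofInjective _ hinj), hrange, Nat.card_coe_set_eq,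
      Set.ncard_coe_finset, tng_cardE]
  exact Or.inr ⟨hES, hcard, A, hAR, ⟨hAcomm, hAexp⟩, hAcard⟩

end main

end Cfsg.Agent.Lib.helper65
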