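import Mathlib
import Cfsg.Agent.Lib.helper65.OddAut

/-!
# Metacyclic `2`-groups with an automorphism of odd order

* `homocyclic_of_noInv`: an abelian `2`-group `X = ⟨k⟩⟨y⟩` with an automorphism fixing no subgroup
  of index two is isomorphic to `C_{2^n} × C_{2^n}`.
* `mulAut_two_group_of_metacyclic`: the automorphism group of a metacyclic `2`-group which is not
  homocyclic, dihedral, generalised quaternion or quasi-dihedral is a `2`-group.
-/

set_option autoImplicit false

namespace Cfsg.Agent.Lib.helper65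

open Subgroup

theorem homocyclic_of_noInv {X : Type*} [Group X] [Finite X] (hX : IsPGroup 2 X) (φ : MulAut X)
    (Hζ : NoInvIndexTwo φ) (hcomm : ∀ a b : X, a * b = b * a) (k y : X)
    (hy : ∀ x, ∃ i : ℕ, x * (y ^ i)⁻¹ ∈ zpowers k) :
    ∃ n : ℕ, Nonempty (X ≃* Multiplicative (Fin 2 → ZMod (2 ^ n))) := by
  classical
  obtain ⟨N, hN⟩ := IsPGroup.iff_card.mp hX
  have hex : ∃ e : ℕ, ∀ x : X, x ^ 2 ^ e = 1 := ⟨N, fun x => by rw [← hN, pow_card_eq_one']⟩
  obtain ⟨n, hn, hmin⟩ : ∃ n, (∀ x : X, x ^ 2 ^ n = 1) ∧ ∀ e' < n, ¬ ∀ x : X, x ^ 2 ^ e' = 1 :=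
    ⟨Nat.find hex, Nat.find_spec hex, fun e' h' => Nat.find_min hex h'⟩
  have hKn : (zpowers k).Normal := ⟨fun a ha x => by
    rw [hcomm x a, mul_inv_cancel_right]; exact ha⟩
  have hknat : ∀ κ ∈ zpowers k, ∃ c : ℕ, k ^ c = κ := by
    intro κ hκ
    have hfin : IsOfFinOrder k := isOfFinOrder_iff_pow_eq_one.mpr ⟨2 ^ n, by positivity, hn k⟩
    obtain ⟨c, hc⟩ := (hfin.mem_powers_iff_mem_zpowers).mpr hκ
    exact ⟨c, hc⟩
  have hkey : orderOf k = 2 ^ n ∧ orderOf (QuotientGroup.mk y : X ⧸ zpowers k) = 2 ^ n := by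
    rcases Nat.eq_zero_or_pos n with rfl | hnpos
    · have h1 : ∀ x : X, x = 1 := fun x => by
        have := hn x
        simpa using this
      constructor
      · rw [h1 k]; simp
      · rw [h1 y]; simp
    · obtain ⟨n', rfl⟩ : ∃ n', n = n' + 1 := ⟨n - 1, by omega⟩
      let A : Subgroup X :=
        { carrier := {x | x ^ 2 ^ n' = 1}
          one_mem' := one_pow _
          mul_mem' := by
            intro a b ha hb
            have ha' : a ^ 2 ^ n' = 1 := ha
            have hb' : b ^ 2 ^ n' = 1 := hb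
            show (a * b) ^ 2 ^ n' = 1
            rw [(show Commute a b from hcomm a b).mul_pow, ha', hb', one_mul]
          inv_mem' := by
            intro a ha
            have ha' : a ^ 2 ^ n' = 1 := ha
            show (a⁻¹) ^ 2 ^ n' = 1
            rw [inv_pow, ha', inv_one] }
      have hA : ∀ x ∈ A, φ x ∈ A := by
        intro x hx
        have hx' : x ^ 2 ^ n' = 1 := hx
        show (φ x) ^ 2 ^ n' = 1
        rw [← map_pow, hx', map_one]
      have hAcomm : ∀ x y : X, x * y * x⁻¹ * y⁻¹ ∈ A := by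
        intro x y
        have e : x * y * x⁻¹ * y⁻¹ = 1 := by rw [hcomm x y]; group
        rw [e]; exact A.one_mem
      have hnotcyc : ∀ y₀ : X, ¬ ∀ x, ∃ i : ℕ, x * (y₀ ^ i)⁻¹ ∈ A := by
        intro y₀ h
        exact hmin n' (Nat.lt_succ_self n') (fun x => cycQ hX φ Hζ A hA hAcomm y₀ h x)
      have hkA : ¬ k ^ 2 ^ n' = 1 := by
        intro hk
        apply hnotcyc y
        intro x
        obtain ⟨i, hi⟩ := hy x
        refine ⟨i, ?_⟩
        obtain ⟨c, hc⟩ := hknat _ hi
        show (x * (y ^ i)⁻¹) ^ 2 ^ n' = 1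
        rw [← hc, ← pow_mul, mul_comm, pow_mul, hk, one_pow]
      have hord : orderOf k = 2 ^ (n' + 1) := orderOf_eq_prime_pow hkA (hn k)
      have hyA : y ^ 2 ^ n' ∉ zpowers k := by
        intro hyK
        obtain ⟨i, hi⟩ := hknat _ hyK
        have h1 : k ^ (i * 2) = 1 := by
          rw [pow_mul, hi, ← pow_mul, ← pow_succ]; exact hn y
        have h2 : 2 ^ (n' + 1) ∣ i * 2 := by rw [← hord]; exact orderOf_dvd_of_pow_eq_one h1
        have h3 : 2 ^ n' ∣ i := by
          rw [pow_succ] at h2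
          exact Nat.dvd_of_mul_dvd_mul_right (by norm_num) h2
        obtain ⟨i', hi'⟩ := h3
        apply hnotcyc k
        intro x
        obtain ⟨b, hb⟩ := hy x
        obtain ⟨c, hc⟩ := hknat _ hb
        refine ⟨c + i' * b, ?_⟩
        show (x * (k ^ (c + i' * b))⁻¹) ^ 2 ^ n' = 1
        have ex : x = k ^ c * y ^ b := by rw [hc]; group
        have hcyk : Commute y (k ^ i')⁻¹ := hcomm _ _
        have e2 : x * (k ^ (c + i' * b))⁻¹ = (y * (k ^ i')⁻¹) ^ b := by
          rw [ex, hcyk.mul_pow, inv_pow, ← pow_mul, pow_add, mul_inv_rev, hcomm (k ^ c) (y ^ b)]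
          group
        have e3 : (y * (k ^ i')⁻¹) ^ 2 ^ n' = 1 := by
          rw [hcyk.mul_pow, inv_pow, ← pow_mul, ← hi, hi', mul_comm i', mul_inv_cancel]
        rw [e2, ← pow_mul, mul_comm, pow_mul, e3, one_pow]
      refine ⟨hord, ?_⟩
      apply orderOf_eq_prime_pow
      · intro h
        apply hyA
        rw [← QuotientGroup.mk_pow, QuotientGroup.eq_one_iff] at h
        exact h
      · rw [← QuotientGroup.mk_pow, hn y]; rfl
  obtain ⟨hordk, hordy⟩ := hkey
  refine ⟨n, ?_⟩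
  let ψ : Multiplicative (Fin 2 → ZMod (2 ^ n)) →* X :=
    { toFun := fun v => k ^ (Multiplicative.toAdd v 0).val * y ^ (Multiplicative.toAdd v 1).val
      map_one' := by simp
      map_mul' := by
        intro v w
        show k ^ ((Multiplicative.toAdd v + Multiplicative.toAdd w) 0).val *
            y ^ ((Multiplicative.toAdd v + Multiplicative.toAdd w) 1).val = _
        rw [Pi.add_apply, Pi.add_apply, ZMod.val_add, ZMod.val_add, ← pow_eq_pow_mod _ (hn k),
          ← pow_eq_pow_mod _ (hn y), pow_add, pow_add]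
        have hc1 : Commute (k ^ (Multiplicative.toAdd w 0).val)
            (y ^ (Multiplicative.toAdd v 1).val) := hcomm _ _
        calc k ^ (Multiplicative.toAdd v 0).val * k ^ (Multiplicative.toAdd w 0).val *
              (y ^ (Multiplicative.toAdd v 1).val * y ^ (Multiplicative.toAdd w 1).val)
            = k ^ (Multiplicative.toAdd v 0).val * (k ^ (Multiplicative.toAdd w 0).val *
              y ^ (Multiplicative.toAdd v 1).val) * y ^ (Multiplicative.toAdd w 1).val := by
                simp only [mul_assoc]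
          _ = _ := by rw [hc1.eq]; simp only [mul_assoc] }
  have hψapp : ∀ v, ψ v = k ^ (Multiplicative.toAdd v 0).val * y ^ (Multiplicative.toAdd v 1).val :=
    fun v => rfl
  have hinj : Function.Injective ψ := by
    rw [injective_iff_map_eq_one]
    intro v hv
    rw [hψapp] at hv
    have h1 : y ^ (Multiplicative.toAdd v 1).val ∈ zpowers k := by
      have e : y ^ (Multiplicative.toAdd v 1).val = (k ^ (Multiplicative.toAdd v 0).val)⁻¹ :=
        eq_inv_of_mul_eq_one_right hv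
      rw [e]
      exact inv_mem (Subgroup.pow_mem _ (mem_zpowers k) _)
    have h2 : (QuotientGroup.mk y : X ⧸ zpowers k) ^ (Multiplicative.toAdd v 1).val = 1 := by
      rw [← QuotientGroup.mk_pow, QuotientGroup.eq_one_iff]; exact h1
    have h3 : 2 ^ n ∣ (Multiplicative.toAdd v 1).val := by
      have h := orderOf_dvd_of_pow_eq_one h2
      rw [hordy] at h
      exact h
    have h4 : (Multiplicative.toAdd v 1).val = 0 :=
      Nat.eq_zero_of_dvd_of_lt h3 (ZMod.val_lt _)
    rw [h4, pow_zero, mul_one] at hv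
    have h5 : 2 ^ n ∣ (Multiplicative.toAdd v 0).val := by
      have h := orderOf_dvd_of_pow_eq_one hv
      rw [hordk] at h
      exact h
    have h6 : (Multiplicative.toAdd v 0).val = 0 :=
      Nat.eq_zero_of_dvd_of_lt h5 (ZMod.val_lt _)
    have h7 : Multiplicative.toAdd v = 0 := by
      funext i
      fin_cases i
      · exact (ZMod.val_eq_zero _).mp h6
      · exact (ZMod.val_eq_zero _).mp h4
    exact h7
  have hsurj : Function.Surjective ψ := by
    intro x
    obtain ⟨i, hi⟩ := hy x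
    obtain ⟨c, hc⟩ := hknat _ hi
    refine ⟨Multiplicative.ofAdd ![(c : ZMod (2 ^ n)), (i : ZMod (2 ^ n))], ?_⟩
    rw [hψapp]
    show k ^ ((c : ZMod (2 ^ n))).val * y ^ ((i : ZMod (2 ^ n))).val = x
    rw [ZMod.val_natCast, ZMod.val_natCast, ← pow_eq_pow_mod _ (hn k), ← pow_eq_pow_mod _ (hn y),
      hc]
    group
  exact ⟨(MulEquiv.ofBijective ψ ⟨hinj, hsurj⟩).symm⟩

/-- The automorphism group of a metacyclic `2`-group which is not homocyclic, dihedral,
generalised quaternion or quasi-dihedral is a `2`-group. -/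
theorem mulAut_two_group_of_metacyclic {X : Type*} [Group X] [Finite X] (hX : IsPGroup 2 X)
    (hm : ∃ (N : Subgroup X) (_ : N.Normal), IsCyclic N ∧ IsCyclic (X ⧸ N))
    (hh : ¬ ∃ n k : ℕ, Nonempty (X ≃* Multiplicative (Fin k → ZMod (2 ^ n))))
    (hd : ¬ ∃ m : ℕ, Nonempty (X ≃* DihedralGroup m))
    (hq : ¬ ∃ m : ℕ, Nonempty (X ≃* QuaternionGroup m)) (hsd : ¬ Cfsg.IsQuasiDihedral X)
    (β : MulAut X) : ∃ k : ℕ, β ^ 2 ^ k = 1 := by
  have hn0 : orderOf β ≠ 0 := (orderOf_pos β).ne'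
  obtain ⟨e, m, hpm, hem⟩ := Nat.exists_eq_pow_mul_and_not_dvd hn0 2 (by norm_num)
  refine ⟨e, ?_⟩
  by_contra hζ1
  obtain ⟨ζ, hζ⟩ : ∃ ζ : MulAut X, ζ = β ^ 2 ^ e := ⟨_, rfl⟩
  rw [← hζ] at hζ1
  have hζm : ζ ^ m = 1 := by rw [hζ, ← pow_mul, ← hem, pow_orderOf_eq_one]
  have hmodd : Odd m := by
    rw [← Nat.not_even_iff_odd, even_iff_two_dvd]; exact hpm
  have hidx := index_frattini_dvd_sq_of_metacyclic' hX hm
  have Hζ := noInvIndexTwo_of_odd hX hidx ζ m hmodd hζm hζ1
  obtain ⟨N, hNn, hNc, hQc⟩ := hm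
  obtain ⟨a, hNa⟩ := eq_zpowers_of_isCyclic N
  obtain ⟨y, hy⟩ := exists_gen_mod hX N
  by_cases hcomm : ∀ a b : X, a * b = b * a
  · obtain ⟨n, hn⟩ := homocyclic_of_noInv hX ζ Hζ hcomm a y (by rw [← hNa]; exact hy)
    exact hh ⟨n, 2, hn⟩
  · obtain ⟨hk4, hk2, hyk, hy2⟩ := quat_of_noInv hX ζ Hζ hcomm N a hNa y hy
    rcases maxClass_of_inverting hX N hNa (by rw [hNa]; exact mem_zpowers a) hk4 hk2 hyk hy2
      with h | h | h
    · exact hd h
    · exact hq h
    · exact hsd h

end Cfsg.Agent.Lib.helper65
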