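import Cfsg.Agent.Lib.helper81.WTDefs

/-!
# S4414 piece PC (racer copy, helper65): completeness of the weight projections
-/

set_option autoImplicit false

namespace Cfsg.Agent.Lib.helper81.WT

open scoped TensorProduct

universe u v w

/-- in characteristic 2 an odd natural number is `1`. -/
theorem helper65_odd_cast {F : Type w} [Field F] [CharP F 2] (n : ℕ) (hn : Odd n) : (n : F) = 1 := by
  obtain ⟨k, rfl⟩ := hn
  have h2 : ((2 : ℕ) : F) = 0 := CharP.cast_eq_zero F 2
  push_cast at h2 ⊢
  rw [h2, zero_mul, zero_add]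

/-- sum of the values of all characters at a non-identity element. -/
theorem helper65_sum_char_eq_zero {A : Type u} [CommGroup A] [Finite A] {F : Type w} [Field F]
    [HasEnoughRootsOfUnity F (Monoid.exponent A)] [Fintype (A →* Fˣ)] (y : A) (hy : y ≠ 1) :
    ∑ μ : A →* Fˣ, ((μ y : Fˣ) : F) = 0 := by
  obtain ⟨φ, hφ⟩ := CommGroup.exists_apply_ne_one_of_hasEnoughRootsOfUnity A F hy
  let f : (A →* Fˣ) →* F := (Units.coeHom F).comp (MonoidHom.eval y)
  have hf : f ≠ 1 := by
    intro h
    have h1 : f φ = 1 := by rw [h]; rfl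
    apply hφ
    have h2 : ((φ y : Fˣ) : F) = 1 := h1
    exact Units.ext h2
  have := sum_hom_units_eq_zero f hf
  exact this

/-- [PC] completeness: a vector all of whose weight components vanish is zero -/
theorem helper65_proj_complete {S : Type u} [Group S] [Finite S] {F : Type w} [Field F] [Finite F] [CharP F 2]
    {V : Type v} [AddCommGroup V] [Module F V]
    (R : Representation F S V) (Y : Subgroup S) [Y.Normal] [Fintype ↥Y]
    (hYc : ∀ a b : ↥Y, a * b = b * a) [HasEnoughRootsOfUnity F (Monoid.exponent ↥Y)]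
    (hodd : Odd (Fintype.card ↥Y))
    (v : V) (hv : ∀ μ : ↥Y →* Fˣ, proj R Y μ v = 0) : v = 0 := by
  classical
  let _ : CommGroup ↥Y := { (inferInstance : Group ↥Y) with mul_comm := hYc }
  have _ : Finite (↥Y →* Fˣ) := DFunLike.finite _
  let _ : Fintype (↥Y →* Fˣ) := Fintype.ofFinite _
  have hcard : Fintype.card (↥Y →* Fˣ) = Fintype.card ↥Y := by
    rw [← Nat.card_eq_fintype_card, ← Nat.card_eq_fintype_card]
    exact CommGroup.card_monoidHom_of_hasEnoughRootsOfUnity ↥Y F
  have hsum : ∑ μ : ↥Y →* Fˣ, proj R Y μ v = v := by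
    simp only [proj_apply]
    rw [Finset.sum_comm]
    have hterm : ∀ y : ↥Y, ∑ μ : ↥Y →* Fˣ, ((μ y⁻¹ : Fˣ) : F) • R (y : S) v
        = if y = 1 then v else 0 := by
      intro y
      rw [← Finset.sum_smul]
      by_cases hy : y = 1
      · subst hy
        simp only [inv_one, map_one, Units.val_one, Finset.sum_const, Finset.card_univ, if_true,
          OneMemClass.coe_one, nsmul_eq_mul, mul_one]
        rw [hcard, helper65_odd_cast (F := F) _ hodd, one_smul]
        simp
      · rw [if_neg hy, helper65_sum_char_eq_zero (F := F) y⁻¹ (by simpa using hy), zero_smul]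
    rw [Finset.sum_congr rfl (fun y _ => hterm y)]
    simp
  rw [← hsum]
  exact Finset.sum_eq_zero (fun μ _ => hv μ)

end Cfsg.Agent.Lib.helper81.WT
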