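import Cfsg.Agent.Lib.helper81.WTDefs

/-!
# S4414 pieces PW, PO, PO2 (racer copies, helper65): weight vectors, idempotency and orthogonality
of the weight projections
-/

set_option autoImplicit false

namespace Cfsg.Agent.Lib.helper81.WT

open scoped TensorProduct

universe u v w

/-- [PW] `proj μ v` is a `μ`-weight vector -/
theorem helper65_proj_weight {S : Type u} [Group S] [Finite S] {F : Type w} [Field F] [Finite F] [CharP F 2]
    {V : Type v} [AddCommGroup V] [Module F V]
    (R : Representation F S V) (Y : Subgroup S) [Y.Normal] [Fintype ↥Y]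
    (μ : ↥Y →* Fˣ) (y : ↥Y) (v : V) :
    R (y : S) (proj R Y μ v) = ((μ y : Fˣ) : F) • proj R Y μ v := by
  rw [proj_apply, map_sum, Finset.smul_sum]
  rw [← Equiv.sum_comp (Equiv.mulLeft y⁻¹)]
  refine Finset.sum_congr rfl (fun z _ => ?_)
  simp only [Equiv.coe_mulLeft, map_smul, smul_smul]
  have h1 : R (y : S) (R ((y⁻¹ * z : ↥Y) : S) v) = R (z : S) v := by
    rw [← Module.End.mul_apply, ← map_mul]
    congr 2
    simp
  rw [h1]
  congr 1
  have h2 : μ (y⁻¹ * z)⁻¹ = μ z⁻¹ * μ y := by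
    rw [mul_inv_rev, inv_inv, map_mul]
  rw [h2, Units.val_mul, mul_comm]

/-- [PO] idempotency (char 2, |Y| odd) -/
theorem helper65_proj_idem {S : Type u} [Group S] [Finite S] {F : Type w} [Field F] [Finite F] [CharP F 2]
    {V : Type v} [AddCommGroup V] [Module F V]
    (R : Representation F S V) (Y : Subgroup S) [Y.Normal] [Fintype ↥Y]
    (hodd : Odd (Fintype.card ↥Y)) (μ : ↥Y →* Fˣ) (v : V) :
    proj R Y μ (proj R Y μ v) = proj R Y μ v := by
  rw [proj_apply R Y μ (proj R Y μ v)]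
  have hterm : ∀ y : ↥Y, ((μ y⁻¹ : Fˣ) : F) • R (y : S) (proj R Y μ v) = proj R Y μ v := by
    intro y
    rw [helper65_proj_weight, smul_smul, ← Units.val_mul, ← map_mul, inv_mul_cancel, map_one,
      Units.val_one, one_smul]
  rw [Finset.sum_congr rfl (fun y _ => hterm y), Finset.sum_const, Finset.card_univ]
  obtain ⟨k, hk⟩ := hodd
  rw [hk, add_smul, one_smul, mul_smul]
  have h2 : (2 : ℕ) • (k • proj R Y μ v) = 0 := by
    rw [← Nat.cast_smul_eq_nsmul F 2, CharP.cast_eq_zero F 2, zero_smul]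
  rw [h2, zero_add]

/-- [PO2] orthogonality -/
theorem helper65_proj_orth {S : Type u} [Group S] [Finite S] {F : Type w} [Field F] [Finite F] [CharP F 2]
    {V : Type v} [AddCommGroup V] [Module F V]
    (R : Representation F S V) (Y : Subgroup S) [Y.Normal] [Fintype ↥Y]
    (μ ν : ↥Y →* Fˣ) (hne : μ ≠ ν) (v : V) :
    proj R Y μ (proj R Y ν v) = 0 := by
  rw [proj_apply R Y μ (proj R Y ν v)]
  let f : ↥Y →* F := (Units.coeHom F).comp (ν * μ⁻¹)
  have hf : f ≠ 1 := by
    intro h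
    apply hne
    ext y
    have h1 : f y = 1 := by rw [h]; rfl
    have h2 : ((ν y * (μ y)⁻¹ : Fˣ) : F) = 1 := h1
    have h3 : ν y * (μ y)⁻¹ = 1 := Units.ext h2
    have h4 : μ y = ν y := by
      rw [mul_inv_eq_one] at h3
      exact h3.symm
    rw [h4]
  have hterm : ∀ y : ↥Y, ((μ y⁻¹ : Fˣ) : F) • R (y : S) (proj R Y ν v) = f y • proj R Y ν v := by
    intro y
    rw [helper65_proj_weight, smul_smul]
    congr 1
    show ((μ y⁻¹ : Fˣ) : F) * ((ν y : Fˣ) : F) = ((ν y * (μ y)⁻¹ : Fˣ) : F)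
    rw [map_inv, Units.val_mul, mul_comm]
  rw [Finset.sum_congr rfl (fun y _ => hterm y), ← Finset.sum_smul, sum_hom_units_eq_zero f hf,
    zero_smul]

end Cfsg.Agent.Lib.helper81.WT
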