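import Mathlib
import Cfsg.Prelude.Def_Transfer
import Cfsg.Agent.Lib.helper15.ZassDefs

/-!
S0690 (Zassenhaus), piece H `exists_std` (helper65): a perfect nontrivial group with the local
properties `ZH` contains a standard triple `Std u v x`.
-/

set_option autoImplicit false

namespace Cfsg.Agent.Lib.helper65

open Cfsg.Agent.Lib.helper15.Zass

/-- An element of order dividing `3` lies in a normal subgroup of index `8` or `16`. -/
theorem zassH_mem_of_pow3 {X : Type*} [Group X] (N : Subgroup X) [N.Normal] (g : X)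
    (hg : g ^ 3 = 1) (hidx : N.index = 8 ∨ N.index = 16) : g ∈ N := by
  have h := N.pow_index_mem g
  rcases hidx with h8 | h16
  · rw [h8] at h
    have e8 : g ^ 8 = g ^ 2 := by
      calc g ^ 8 = (g ^ 3) ^ 2 * g ^ 2 := by rw [← pow_mul, ← pow_add]
        _ = g ^ 2 := by rw [hg]; simp
    rw [e8] at h
    have h4 := N.pow_mem h 2
    have e4 : (g ^ 2) ^ 2 = g := by
      calc (g ^ 2) ^ 2 = g ^ 3 * g := by rw [← pow_mul, ← pow_succ]
        _ = g := by rw [hg]; simp
    rwa [e4] at h4
  · rw [h16] at h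
    have e16 : g ^ 16 = g := by
      calc g ^ 16 = (g ^ 3) ^ 5 * g := by rw [← pow_mul, ← pow_succ]
        _ = g := by rw [hg]; simp
    rwa [e16] at h

/-- Pure arithmetic: the odd part of `24`, `48`, `120`. -/
theorem zassH_arith (n p : ℕ) (hp : ∃ k, p = 2 ^ k) (hodd : ¬ 2 ∣ n)
    (h : n * p = 24 ∨ n * p = 48 ∨ n * p = 120) :
    (n = 3 ∨ n = 15) ∧ (p = 8 ∨ p = 16) := by
  obtain ⟨k, rfl⟩ := hp
  have hk : k < 7 := by
    by_contra hk
    have h7 : 2 ^ 7 ∣ 2 ^ k := pow_dvd_pow 2 (by omega)
    have hn : 0 < n := by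
      rcases Nat.eq_zero_or_pos n with h0 | h0
      · subst h0; omega
      · exact h0
    have hle : 2 ^ 7 ≤ 2 ^ k := Nat.le_of_dvd (by positivity) h7
    have : 2 ^ 7 ≤ n * 2 ^ k := le_trans hle (Nat.le_mul_of_pos_left _ hn)
    omega
  interval_cases k <;> omega

/-- A group of order `3` or `15` in which two elements of order dividing `3` do not commute does
not exist. -/
theorem zassH_comm_of_card {N : Type*} [Group N] [Finite N]
    (hN : Nat.card N = 3 ∨ Nat.card N = 15) (a b : N) (ha : a ^ 3 = 1) (hb : b ^ 3 = 1) :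
    a * b = b * a := by
  haveI : Fact (Nat.Prime 3) := ⟨Nat.prime_three⟩
  obtain ⟨P, hP⟩ : ∃ P : Sylow 3 N, a ∈ (P : Subgroup N) := by
    have hpg : IsPGroup 3 (Subgroup.zpowers a) := by
      intro x
      obtain ⟨k, hk⟩ := Subgroup.mem_zpowers_iff.mp x.2
      refine ⟨1, ?_⟩
      apply Subtype.ext
      simp only [pow_one, Subgroup.coe_pow, Subgroup.coe_one]
      rw [← hk, ← zpow_natCast, ← zpow_mul, mul_comm, zpow_mul, zpow_natCast, ha, one_zpow]
    obtain ⟨P, hP⟩ := hpg.exists_le_sylow
    exact ⟨P, hP (Subgroup.mem_zpowers a)⟩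
  obtain ⟨P', hP'⟩ : ∃ P : Sylow 3 N, b ∈ (P : Subgroup N) := by
    have hpg : IsPGroup 3 (Subgroup.zpowers b) := by
      intro x
      obtain ⟨k, hk⟩ := Subgroup.mem_zpowers_iff.mp x.2
      refine ⟨1, ?_⟩
      apply Subtype.ext
      simp only [pow_one, Subgroup.coe_pow, Subgroup.coe_one]
      rw [← hk, ← zpow_natCast, ← zpow_mul, mul_comm, zpow_mul, zpow_natCast, hb, one_zpow]
    obtain ⟨P, hP⟩ := hpg.exists_le_sylow
    exact ⟨P, hP (Subgroup.mem_zpowers b)⟩
  -- the Sylow `3`-subgroup has order `3`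
  have hcardP : Nat.card P = 3 := by
    have h1 : Nat.card P * (P : Subgroup N).index = Nat.card N := Subgroup.card_mul_index _
    have h2 : ¬ 3 ∣ (P : Subgroup N).index := P.not_dvd_index
    have h3 : 3 ∣ Nat.card P := P.dvd_card_of_dvd_card (by rcases hN with h | h <;> rw [h] <;> norm_num)
    obtain ⟨c, hc⟩ := h3
    rcases hN with h | h
    · rw [h, hc] at h1
      have : c * (P : Subgroup N).index = 1 := by nlinarith
      have hc1 : c = 1 := Nat.eq_one_of_mul_eq_one_right this
      rw [hc, hc1]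
    · rw [h, hc] at h1
      have h5 : c * (P : Subgroup N).index = 5 := by nlinarith
      have hcd : c ∣ 5 := Dvd.intro _ h5
      rcases (Nat.dvd_prime (by norm_num : Nat.Prime 5)).mp hcd with hc1 | hc5
      · rw [hc, hc1]
      · exfalso
        rw [hc5] at h5
        have : (P : Subgroup N).index = 1 := by omega
        obtain ⟨k, hk⟩ := IsPGroup.iff_card.mp P.isPGroup'
        rw [hc, hc5] at hk
        have hk2 : k < 3 := by
          by_contra hk2
          have : 3 ^ 3 ≤ 3 ^ k := Nat.pow_le_pow_right (by norm_num) (by omega)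
          omega
        interval_cases k <;> omega
  -- there is only one Sylow `3`-subgroup
  have hone : Nat.card (Sylow 3 N) = 1 := by
    have h1 : Nat.card P * (P : Subgroup N).index = Nat.card N := Subgroup.card_mul_index _
    have hd : Nat.card (Sylow 3 N) ∣ (P : Subgroup N).index := P.card_dvd_index
    have hm : Nat.card (Sylow 3 N) ≡ 1 [MOD 3] := card_sylow_modEq_one 3 N
    rw [hcardP] at h1
    rcases hN with h | h
    · have : (P : Subgroup N).index = 1 := by omega
      rw [this] at hd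
      exact Nat.dvd_one.mp hd
    · have : (P : Subgroup N).index = 5 := by omega
      rw [this] at hd
      rcases (Nat.dvd_prime (by norm_num : Nat.Prime 5)).mp hd with h1 | h5
      · exact h1
      · rw [h5] at hm
        exact absurd hm (by decide)
  have hsub : Subsingleton (Sylow 3 N) := (Nat.card_eq_one_iff_unique.mp hone).1
  have hPP : P' = P := Subsingleton.elim _ _
  rw [hPP] at hP'
  haveI : Fact (Nat.Prime (Nat.card P)) := by rw [hcardP]; infer_instance
  have hcyc : IsCyclic P := isCyclic_of_prime_card rfl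
  letI := hcyc.commGroup
  have := mul_comm (⟨a, hP⟩ : P) ⟨b, hP'⟩
  exact congrArg Subtype.val this

/-- A subgroup of order `24`, `48` or `120` containing two non-commuting elements of order `3`
has no normal `2`-complement. -/
theorem zassH_no_npc {G : Type*} [Group G] [Finite G] (K : Subgroup G) (hK : CS K)
    (y₁ y₂ : G) (h₁ : y₁ ∈ K) (h₂ : y₂ ∈ K) (e₁ : y₁ ^ 3 = 1) (e₂ : y₂ ^ 3 = 1)
    (hnc : y₁ * y₂ ≠ y₂ * y₁) : ¬ Cfsg.HasNormalPComplement 2 K := by
  rintro ⟨P, N, hN, hc⟩
  haveI : Fact (Nat.Prime 2) := ⟨Nat.prime_two⟩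
  have hcard : Nat.card N * Nat.card P = Nat.card K := hc.card_mul_card
  have hidx : (P : Subgroup K).index = Nat.card N := hc.index_eq_card
  have hNidx : N.index = Nat.card P := by
    have := Subgroup.card_mul_index N
    rw [← hcard] at this
    have hpos : 0 < Nat.card N := Nat.card_pos
    exact Nat.eq_of_mul_eq_mul_left hpos this
  have hodd : ¬ 2 ∣ Nat.card N := by rw [← hidx]; exact P.not_dvd_index
  have hpow : ∃ k, Nat.card P = 2 ^ k := IsPGroup.iff_card.mp P.isPGroup'
  have hK' : Nat.card N * Nat.card P = 24 ∨ Nat.card N * Nat.card P = 48 ∨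
      Nat.card N * Nat.card P = 120 := by rw [hcard]; exact hK
  obtain ⟨hn, hp⟩ := zassH_arith _ _ hpow hodd hK'
  rw [← hNidx] at hp
  have m₁ : (⟨y₁, h₁⟩ : K) ∈ N := zassH_mem_of_pow3 N _ (Subtype.ext (by simpa using e₁)) hp
  have m₂ : (⟨y₂, h₂⟩ : K) ∈ N := zassH_mem_of_pow3 N _ (Subtype.ext (by simpa using e₂)) hp
  have hcomm := zassH_comm_of_card hn (⟨⟨y₁, h₁⟩, m₁⟩ : N) ⟨⟨y₂, h₂⟩, m₂⟩
    (Subtype.ext (Subtype.ext (by simpa using e₁))) (Subtype.ext (Subtype.ext (by simpa using e₂)))
  exact hnc (congrArg (fun t : N => ((t : K) : G)) hcomm)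

/-- A homomorphism from a perfect group with commuting values is trivial. -/
theorem zassH_perfect_hom {G A : Type*} [Group G] [Group A] (hperf : commutator G = ⊤)
    (f : G →* A) (hcomm : ∀ a b : G, f a * f b = f b * f a) (g : G) : f g = 1 := by
  have hle : commutator G ≤ f.ker := by
    rw [commutator_eq_closure, Subgroup.closure_le]
    rintro x ⟨p, q, rfl⟩
    simp only [SetLike.mem_coe, MonoidHom.mem_ker, commutatorElement_def, map_mul, map_inv]
    rw [hcomm p q]
    group
  exact MonoidHom.mem_ker.mp (hle (hperf ▸ Subgroup.mem_top g))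

/-- In a perfect group whose Sylow `3`-subgroups are cyclic, `3` does not divide the order of
the centre (transfer into the centre). -/
theorem zassH_center {G : Type*} [Group G] [Finite G] (h : ZH G) (hperf : commutator G = ⊤) :
    ¬ 3 ∣ Nat.card (Subgroup.center G) := by
  intro h3
  haveI : Fact (Nat.Prime 3) := ⟨Nat.prime_three⟩
  have htr : ∀ g : G, g ^ (Subgroup.center G).index = 1 := by
    intro g
    have hg := zassH_perfect_hom hperf (MonoidHom.transferCenterPow G)
      (fun a b => Subtype.ext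
        (Subgroup.mem_center_iff.mp (MonoidHom.transferCenterPow G b).2 _)) g
    have := congrArg Subtype.val hg
    simpa using this
  obtain ⟨P⟩ : Nonempty (Sylow 3 G) := inferInstance
  have hcyc : IsCyclic P := by
    rcases h.pgrp 3 P P.isPGroup' with hc | ⟨h32, _⟩
    · exact hc
    · omega
  obtain ⟨c, hc⟩ := hcyc.exists_generator
  have hord : orderOf c = Nat.card P := orderOf_eq_card_of_forall_mem_zpowers hc
  have hdvd : Nat.card P ∣ (Subgroup.center G).index := by
    rw [← hord]
    apply orderOf_dvd_of_pow_eq_one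
    apply Subtype.ext
    simpa using htr (c : G)
  have h1 : Nat.card (Subgroup.center G) * (Subgroup.center G).index = Nat.card G :=
    Subgroup.card_mul_index _
  have h2 : Nat.card P * (P : Subgroup G).index = Nat.card G := Subgroup.card_mul_index _
  have h3' : ¬ 3 ∣ (P : Subgroup G).index := P.not_dvd_index
  obtain ⟨a, ha⟩ := h3
  obtain ⟨b, hb⟩ := hdvd
  have hpos : 0 < Nat.card P := Nat.card_pos
  apply h3'
  refine ⟨a * b, ?_⟩
  have : Nat.card P * (P : Subgroup G).index = Nat.card P * (3 * (a * b)) := by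
    rw [h2, ← h1, ha, hb]; ring
  exact Nat.eq_of_mul_eq_mul_left hpos this

/-- Two non-commuting elements of order dividing `3`. -/
theorem zassH_noncomm {G : Type*} [Group G] [Finite G] (h : ZH G) (hperf : commutator G = ⊤)
    (y : G) (hy : orderOf y = 3) :
    ∃ y₁ y₂ : G, y₁ ^ 3 = 1 ∧ y₂ ^ 3 = 1 ∧ y₁ * y₂ ≠ y₂ * y₁ := by
  by_contra hcon
  push Not at hcon
  haveI : Fact (Nat.Prime 3) := ⟨Nat.prime_three⟩
  have hy3 : y ^ 3 = 1 := by rw [← hy]; exact pow_orderOf_eq_one y
  -- every element of order dividing `3` is a power of `y`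
  have key : ∀ t : G, t ^ 3 = 1 → t ∈ Subgroup.zpowers y := by
    intro t ht
    have hT : ∀ e ∈ Subgroup.closure ({y, t} : Set G),
        e ^ 3 = 1 ∧ ∀ s : G, s ^ 3 = 1 → s * e = e * s := by
      intro e he
      induction he using Subgroup.closure_induction with
      | mem x hx =>
        rcases hx with rfl | rfl
        · exact ⟨hy3, fun s hs => hcon s _ hs hy3⟩
        · exact ⟨ht, fun s hs => hcon s _ hs ht⟩
      | one => exact ⟨one_pow 3, fun s _ => by simp⟩
      | mul a b _ _ iha ihb =>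
        refine ⟨?_, fun s hs => ?_⟩
        · have hab : Commute a b := iha.2 a iha.1 |> fun _ => (ihb.2 a iha.1)
          rw [hab.mul_pow, iha.1, ihb.1, one_mul]
        · rw [← mul_assoc, iha.2 s hs, mul_assoc, ihb.2 s hs, mul_assoc]
      | inv a _ iha =>
        refine ⟨by rw [inv_pow, iha.1, inv_one], fun s hs => ?_⟩
        have := iha.2 s hs
        calc s * a⁻¹ = a⁻¹ * (a * s) * a⁻¹ := by group
          _ = a⁻¹ * (s * a) * a⁻¹ := by rw [this]
          _ = a⁻¹ * s := by group
    set T := Subgroup.closure ({y, t} : Set G) with hTdef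
    have hpg : IsPGroup 3 T := by
      intro x
      refine ⟨1, ?_⟩
      apply Subtype.ext
      simpa using (hT x x.2).1
    have hcyc : IsCyclic T := by
      rcases h.pgrp 3 T hpg with hc | ⟨h32, _⟩
      · exact hc
      · omega
    obtain ⟨c, hc⟩ := hcyc.exists_generator
    have hord : orderOf c = Nat.card T := orderOf_eq_card_of_forall_mem_zpowers hc
    have hc3 : c ^ 3 = 1 := by
      apply Subtype.ext
      simpa using (hT c c.2).1
    have hcard3 : Nat.card T ∣ 3 := by rw [← hord]; exact orderOf_dvd_of_pow_eq_one hc3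
    have hyT : Subgroup.zpowers y ≤ T := by
      rw [Subgroup.zpowers_le]
      exact Subgroup.subset_closure (by simp)
    have hcz : Nat.card (Subgroup.zpowers y) = 3 := by rw [Nat.card_zpowers, hy]
    have hle : Nat.card T ≤ Nat.card (Subgroup.zpowers y) := by
      rw [hcz]; exact Nat.le_of_dvd (by norm_num) hcard3
    have heq : Subgroup.zpowers y = T := Subgroup.eq_of_le_of_card_ge hyT hle
    rw [heq]
    exact Subgroup.subset_closure (by simp)
  -- `⟨y⟩` is normal
  have hnorm : (Subgroup.zpowers y).Normal := by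
    refine ⟨fun n hn g => key _ ?_⟩
    obtain ⟨k, rfl⟩ := Subgroup.mem_zpowers_iff.mp hn
    have hn3 : (y ^ k) ^ 3 = 1 := by
      rw [← zpow_natCast, ← zpow_mul, mul_comm, zpow_mul, zpow_natCast, hy3, one_zpow]
    rw [conj_pow, hn3]; simp
  -- `y` is central
  have hcent : y ∈ Subgroup.center G := by
    rw [Subgroup.mem_center_iff]
    intro g
    let e := IsCyclic.mulAutMulEquiv (Subgroup.zpowers y)
    let φ : G →* (ZMod (Nat.card (Subgroup.zpowers y)))ˣ :=
      e.toMonoidHom.comp (MulAut.conjNormal (H := Subgroup.zpowers y))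
    have hg1 : e (MulAut.conjNormal (H := Subgroup.zpowers y) g) = 1 :=
      zassH_perfect_hom hperf φ (fun a b => mul_comm _ _) g
    have hg2 : MulAut.conjNormal (H := Subgroup.zpowers y) g = 1 := by
      apply e.injective
      rw [hg1, map_one]
    have hg3 := congrArg (fun f : MulAut (Subgroup.zpowers y) =>
      ((f ⟨y, Subgroup.mem_zpowers y⟩ : Subgroup.zpowers y) : G)) hg2
    simp only [MulAut.conjNormal_apply, MulAut.one_apply] at hg3
    calc g * y = g * y * g⁻¹ * g := by group
      _ = y * g := by rw [hg3]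
  -- contradiction with the centre having order prime to `3`
  apply zassH_center h hperf
  have := orderOf_dvd_natCard (⟨y, hcent⟩ : Subgroup.center G)
  rwa [Subgroup.orderOf_mk, hy] at this

/-- The order of a perfect nontrivial `ZH`-group is even. -/
theorem zassH_even {G : Type*} [Group G] [Finite G] (h : ZH G) (hperf : commutator G = ⊤)
    (hnt : Nontrivial G) : 2 ∣ Nat.card G := by
  by_contra h2
  have hZ : IsZGroup G := by
    refine ⟨fun p hp P => ?_⟩
    haveI : Fact p.Prime := ⟨hp⟩
    rcases h.pgrp p P P.isPGroup' with hc | ⟨rfl, n, ⟨e⟩⟩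
    · exact hc
    · exfalso
      apply h2
      have hcard : Nat.card P = 4 * 2 ^ n := by
        rw [Nat.card_congr e.toEquiv, Nat.card_eq_fintype_card, QuaternionGroup.card]
      have hdvd : Nat.card P ∣ Nat.card G := Subgroup.card_subgroup_dvd_card _
      exact dvd_trans ⟨2 * 2 ^ n, by rw [hcard]; ring⟩ hdvd
  have := IsZGroup.commutator_lt (G := G)
  rw [hperf] at this
  exact lt_irrefl _ this

/-- A perfect nontrivial `ZH`-group has no normal `2`-complement (stated for `⊤`). -/
theorem zassH_top {G : Type*} [Group G] [Finite G] (h : ZH G) (hperf : commutator G = ⊤)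
    (hnt : Nontrivial G) : ¬ Cfsg.HasNormalPComplement 2 (⊤ : Subgroup G) := by
  rintro ⟨P, N, hN, hc⟩
  haveI : Fact (Nat.Prime 2) := ⟨Nat.prime_two⟩
  have hcard : Nat.card N * Nat.card P = Nat.card (⊤ : Subgroup G) := hc.card_mul_card
  have hNidx : N.index = Nat.card P := by
    have := Subgroup.card_mul_index N
    rw [← hcard] at this
    have hpos : 0 < Nat.card N := Nat.card_pos
    exact Nat.eq_of_mul_eq_mul_left hpos this
  obtain ⟨k, hk⟩ : ∃ k, Nat.card P = 2 ^ k := IsPGroup.iff_card.mp P.isPGroup'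
  -- the quotient is a `2`-group
  have hQ : IsPGroup 2 ((⊤ : Subgroup G) ⧸ N) := by
    apply IsPGroup.of_card (n := k)
    rw [← Subgroup.index_eq_card, hNidx, hk]
  haveI : Group.IsNilpotent ((⊤ : Subgroup G) ⧸ N) := hQ.isNilpotent
  -- the quotient is perfect
  let f : G →* (⊤ : Subgroup G) ⧸ N :=
    (QuotientGroup.mk' N).comp (Subgroup.topEquiv (G := G)).symm.toMonoidHom
  have hf : Function.Surjective f := by
    intro q
    obtain ⟨x, rfl⟩ := QuotientGroup.mk'_surjective N q
    exact ⟨x, rfl⟩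
  have hperfQ : commutator ((⊤ : Subgroup G) ⧸ N) = ⊤ := by
    rw [commutator_def, ← Subgroup.map_top_of_surjective f hf, ← Subgroup.map_commutator,
      ← commutator_def, hperf]
  have hsub : Subsingleton ((⊤ : Subgroup G) ⧸ N) := by
    by_contra hns
    rw [not_subsingleton_iff_nontrivial] at hns
    have := Group.IsSolvable.commutator_lt_top_of_nontrivial ((⊤ : Subgroup G) ⧸ N)
    rw [hperfQ] at this
    exact lt_irrefl _ this
  have hidx1 : N.index = 1 := by
    rw [Subgroup.index_eq_card]
    exact Nat.card_unique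
  have hP1 : Nat.card P = 1 := by rw [← hNidx, hidx1]
  have h2 : 2 ∣ Nat.card (⊤ : Subgroup G) := by
    rw [Subgroup.card_top]; exact zassH_even h hperf hnt
  have := P.dvd_card_of_dvd_card h2
  rw [hP1] at this
  omega

/-- **S0690 piece H.** A perfect nontrivial group with the local properties `ZH`, in which
every subgroup without normal `2`-complement contains a pre-standard triple, contains a
standard triple. -/
theorem exists_std {G : Type*} [Group G] [Finite G] (h : ZH G) (hperf : commutator G = ⊤)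
    (hnt : Nontrivial G)
    (hPF : ∀ X : Subgroup G, ¬ Cfsg.HasNormalPComplement 2 X →
      ∃ u v g : G, u ∈ X ∧ v ∈ X ∧ g ∈ X ∧ PreStd u v g ∧ ∃ k : ℕ, orderOf g = 3 ^ k) :
    ∃ u v x : G, Std u v x := by
  obtain ⟨u, v, g, -, -, -, hpre, k, hk⟩ := hPF ⊤ (zassH_top h hperf hnt)
  have hg1 : g ≠ 1 := by
    rintro rfl
    have huv : u = v := by simpa using hpre.gu
    have hvu := hpre.vu
    rw [← huv] at hvu
    apply hpre.u2
    have h' : u = u⁻¹ := by simpa using hvu
    calc u ^ 2 = u * u := pow_two u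
      _ = u * u⁻¹ := by nth_rewrite 2 [h']; rfl
      _ = 1 := mul_inv_cancel u
  have hk1 : k ≠ 0 := by
    rintro rfl
    rw [pow_zero, orderOf_eq_one_iff] at hk
    exact hg1 hk
  obtain ⟨m, rfl⟩ := Nat.exists_eq_succ_of_ne_zero hk1
  have hy : orderOf (g ^ 3 ^ m) = 3 := by
    rw [orderOf_pow' g (by positivity), hk, Nat.gcd_eq_right (pow_dvd_pow 3 (Nat.le_succ m)),
      pow_succ, Nat.mul_div_cancel_left _ (by positivity)]
  obtain ⟨y₁, y₂, e₁, e₂, hnc⟩ := zassH_noncomm h hperf _ hy
  have hz1 : u ^ 2 ≠ 1 := hpre.u2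
  have hz2 : (u ^ 2) ^ 2 = 1 := by rw [← pow_mul]; exact hpre.u4
  have hCS := h.h4 y₁ y₂ (u ^ 2) e₁ e₂ hnc hz1 hz2
  have hK := zassH_no_npc (Subgroup.closure {y₁, y₂, u ^ 2}) hCS y₁ y₂
    (Subgroup.subset_closure (by simp)) (Subgroup.subset_closure (by simp)) e₁ e₂ hnc
  obtain ⟨u', v', g', -, -, hg', hpre', k', hk'⟩ := hPF _ hK
  refine ⟨u', v', g', hpre'.std ?_⟩
  have hdvd : orderOf g' ∣ Nat.card (Subgroup.closure {y₁, y₂, u ^ 2}) :=
    Subgroup.orderOf_dvd_natCard _ hg'
  rw [hk'] at hdvd
  have hk'1 : k' ≤ 1 := by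
    by_contra hk2
    have h9 : 3 ^ 2 ∣ 3 ^ k' := pow_dvd_pow 3 (by omega)
    have h9' := dvd_trans h9 hdvd
    rcases hCS with hc | hc | hc <;> rw [hc] at h9' <;> omega
  have h3 : orderOf g' ∣ 3 := by
    rw [hk']
    interval_cases k' <;> norm_num
  exact orderOf_dvd_iff_pow_eq_one.mp h3

end Cfsg.Agent.Lib.helper65
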